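import Mathlib
import Cfsg.Prelude.Def_LieExceptional
import Cfsg.Prelude.Def_Solvable
import Cfsg.Agent.Helper11.FrobThm
import Cfsg.Agent.Helper15.Zassenhaus

set_option autoImplicit false

namespace Cfsg.Agent.Helper60

open MulAction
open scoped Pointwise

/-- Frobenius' theorem for permutation groups: a finite transitive group in which every
non-identity element fixes at most one point, with nontrivial point stabilisers, has a regular
normal subgroup, consisting of the identity and the fixed-point-free elements. -/
theorem frob_perm {L X : Type*} [Group L] [Finite L] [MulAction L X] [Finite X]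
    [IsPretransitive L X]
    (hfix : ∀ g : L, g ≠ 1 → ∀ c d : X, g • c = c → g • d = d → c = d)
    (x : X) (hne : stabilizer L x ≠ ⊥) (hX : ∃ y : X, y ≠ x) :
    ∃ M : Subgroup L, M.Normal ∧ (∀ g : L, g ∈ M ↔ g = 1 ∨ ∀ c : X, g • c ≠ c) ∧
      (∀ c d : X, ∃ g ∈ M, g • c = d) ∧ Nat.card M = Nat.card X := by
  set H := stabilizer L x with hH
  have hconj : ∀ (u k : L), k ∈ MulAut.conj u • H ↔ k • (u • x) = u • x := by
    intro u k
    rw [Subgroup.mem_pointwise_smul_iff_inv_smul_mem, hH, mem_stabilizer_iff]
    have : (MulAut.conj u)⁻¹ • k = u⁻¹ * k * u := by simp [MulAut.smul_def]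
    rw [this, mul_smul, mul_smul, inv_smul_eq_iff]
  have hFC : Cfsg.IsFrobeniusComplement H := by
    refine ⟨hne, ?_, ?_⟩
    · intro htop
      obtain ⟨y, hy⟩ := hX
      obtain ⟨g, hg⟩ := exists_smul_eq L x y
      have : g ∈ H := htop ▸ Subgroup.mem_top g
      rw [hH, mem_stabilizer_iff] at this
      exact hy (hg ▸ this)
    · intro g hg
      rw [eq_bot_iff]
      intro k hk
      rw [Subgroup.mem_inf] at hk
      rw [Subgroup.mem_bot]
      by_contra hk1
      exact hg (hfix k hk1 (g • x) x ((hconj g k).1 hk.2) hk.1)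
  obtain ⟨M, hMset, hMn, hMc⟩ := Cfsg.Agent.Helper11.frobenius_kernel_subgroup H hFC
  have hmem : ∀ g : L, g ∈ M ↔ g = 1 ∨ ∀ c : X, g • c ≠ c := by
    intro g
    rw [← SetLike.mem_coe, hMset]
    show (g = 1 ∨ ∀ u : L, g ∉ MulAut.conj u • H) ↔ _
    constructor
    · rintro (h | h)
      · exact Or.inl h
      · right
        intro c hc
        obtain ⟨u, rfl⟩ := exists_smul_eq L x c
        exact h u ((hconj u g).2 hc)
    · rintro (h | h)
      · exact Or.inl h
      · right
        intro u hu
        exact h _ ((hconj u g).1 hu)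
  have hcard : Nat.card M = Nat.card X := by
    have h1 := hMc.card_mul_card
    have h2 : Nat.card X * Nat.card H = Nat.card L := by
      have e := orbitEquivQuotientStabilizer L x
      have h3 : Nat.card (orbit L x) = Nat.card X := by
        rw [orbit_eq_univ]
        exact Nat.card_congr (Equiv.Set.univ X)
      rw [← h3, Nat.card_congr e]
      have := Subgroup.card_eq_card_quotient_mul_card_subgroup (stabilizer L x)
      rw [hH, this]
    have hpos : 0 < Nat.card H := Nat.card_pos
    have : Nat.card M * Nat.card H = Nat.card X * Nat.card H := by rw [h1, h2]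
    exact Nat.eq_of_mul_eq_mul_right hpos this
  refine ⟨M, hMn, hmem, ?_, hcard⟩
  intro c d
  have hinj : Function.Injective (fun g : M => (g : L) • c) := by
    intro g g' h
    have h1 : ((g'⁻¹ * g : M) : L) • c = c := by
      rw [Subgroup.coe_mul, mul_smul]
      show (g' : L)⁻¹ • (g : L) • c = c
      rw [inv_smul_eq_iff]
      exact h
    have h2 := (hmem _).1 (g'⁻¹ * g).2
    rcases h2 with h2 | h2
    · have : g'⁻¹ * g = 1 := Subtype.ext h2
      exact (inv_mul_eq_one.1 this).symm
    · exact absurd h1 (h2 c)
  have hbij : Function.Bijective (fun g : M => (g : L) • c) :=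
    (Nat.bijective_iff_injective_and_card _).2 ⟨hinj, hcard⟩
  obtain ⟨g, hg⟩ := hbij.2 d
  exact ⟨g, g.2, hg⟩

end Cfsg.Agent.Helper60
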