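import Mathlib
import Cfsg.Prelude.Def_LieExceptional
import Cfsg.Agent.Helper6.Suzuki
import Cfsg.Agent.Helper6.Suzuki2
import Cfsg.Agent.Helper6.Suzuki3
import Cfsg.Agent.Helper6.Suzuki4

set_option autoImplicit false

namespace Cfsg.Agent.Helper60

open Matrix Cfsg.Agent.Helper6
open scoped Pointwise

section Ov
variable {F : Type*} [Field F] [Fintype F] {m : ℕ} [CharP F 2]

/-- a nontrivial translation fixes only the point at infinity -/
theorem ov_fix_T (hF : Fintype.card F = 2 ^ (2 * m + 1)) {a b : F} (hab : ¬ (a = 0 ∧ b = 0))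
    {p : Projectivization F (Fin 4 → F)} (hp : p ∈ Cfsg.suzukiOvoid F m)
    (h : szT m a b • p = p) : p = Cfsg.suzukiPointInfinity F := by
  rcases (mem_ovoid_iff p).1 hp with h' | ⟨x, y, h'⟩
  · exact h'
  · exfalso
    subst h'
    rw [szT_smul_szP hF] at h
    obtain ⟨h1, h2⟩ := szP_inj h
    have ha : a = 0 := by linear_combination h1
    subst ha
    apply hab
    refine ⟨rfl, ?_⟩
    rw [map_zero, zero_mul, add_zero] at h2
    linear_combination h2

/-- the product of a translation and a diagonal element has the diagonal entry in the corner -/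
theorem ov_TD_33 (c d : F) (t : Fˣ) :
    (szT m c d * szD m t) 3 3 = (szS F m t * (t : F) ^ 2)⁻¹ := by
  show (szTm m c d * szDm m t) 3 3 = _
  simp [szTm, szDm, Matrix.mul_apply, Fin.sum_univ_four]

theorem ov_sigma_unit_inj {s t : Fˣ}
    (hF : Fintype.card F = 2 ^ (2 * m + 1))
    (h : szS F m s * (s : F) ^ 2 = szS F m t * (t : F) ^ 2) : s = t := by
  have h1 := congrArg (szS F m) h
  simp only [map_mul, map_pow, szS_szS hF] at h1
  have hs : (s : F) ≠ 0 := s.ne_zero
  have ht : (t : F) ≠ 0 := t.ne_zero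
  have hss := szS_unit_ne_zero (m := m) s
  have hst := szS_unit_ne_zero (m := m) t
  -- h1 : s^2 * σ(s)^2 = t^2 * σ(t)^2 ; h : σ(s) s^2 = σ(t) t^2
  have h3 : szS F m s = szS F m t := by
    have : (szS F m s * (s : F) ^ 2) * szS F m s = (szS F m s * (s : F) ^ 2) * szS F m t := by
      linear_combination h1 - szS F m t * h
    exact mul_left_cancel₀ (mul_ne_zero hss (pow_ne_zero 2 hs)) this
  exact Units.ext ((szS F m).injective h3)

/-- the key identity: the diagonal elements are generated by translations and the inversion -/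
theorem ov_key (hm : 1 ≤ m) (hF : Fintype.card F = 2 ^ (2 * m + 1)) (t : Fˣ) :
    ∃ c d : F, szW F * szT m ((t : F)⁻¹) (szS F m ((t : F)⁻¹) * (t : F)⁻¹) * szW F *
      szT m 0 ((t : F) * szS F m t) * szW F = szT m c d * szD m t := by
  have h2 : (2 : F) = 0 := sz_two
  have ht : (t : F) ≠ 0 := t.ne_zero
  have hst := szS_unit_ne_zero (m := m) t
  set z := szW F * szT m ((t : F)⁻¹) (szS F m ((t : F)⁻¹) * (t : F)⁻¹) * szW F *
      szT m 0 ((t : F) * szS F m t) * szW F with hz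
  have hzmem : z ∈ Cfsg.Sz F m :=
    mul_mem (mul_mem (mul_mem (mul_mem (szW_mem hF) (szT_mem hF _ _)) (szW_mem hF))
      (szT_mem hF _ _)) (szW_mem hF)
  have hf : szf m (0 : F) ((t : F) * szS F m t) = szS F m t * (t : F) ^ 2 := by
    simp only [szf, map_mul, szS_szS hF, map_zero]
    ring
  have hf0 : szf m (0 : F) ((t : F) * szS F m t) ≠ 0 := by
    rw [hf]; exact mul_ne_zero hst (pow_ne_zero 2 ht)
  have hzinf : z • Cfsg.suzukiPointInfinity F = Cfsg.suzukiPointInfinity F := by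
    rw [hz, mul_smul, mul_smul, mul_smul, mul_smul, szW_smul_inf (m := m), szT_smul_zero hF,
      szW_smul_szP hF hf0, hf, szT_smul_szP hF]
    have e1 : (t : F) * szS F m t / (szS F m t * (t : F) ^ 2) + (t : F)⁻¹ = 0 := by
      field_simp
      linear_combination h2
    have e2 : (0 : F) / (szS F m t * (t : F) ^ 2) + szS F m ((t : F)⁻¹) * (t : F)⁻¹ +
        szS F m ((t : F)⁻¹) * ((t : F) * szS F m t / (szS F m t * (t : F) ^ 2)) = 0 := by
      rw [map_inv₀]
      field_simp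
      linear_combination (t : F) * h2
    rw [e1, e2, szW_smul_szP_zero]
  obtain ⟨c, d, t', ht'⟩ := sz_fix_inf hm hF hzmem hzinf
  refine ⟨c, d, ?_⟩
  have h33 : z 3 3 = (szS F m t * (t : F) ^ 2)⁻¹ := by
    rw [hz]
    show (szWm F * szTm m ((t : F)⁻¹) (szS F m ((t : F)⁻¹) * (t : F)⁻¹) * szWm F *
      szTm m 0 ((t : F) * szS F m t) * szWm F) 3 3 = _
    simp only [szWm, szTm, Matrix.mul_apply, Fin.sum_univ_four, szf, map_mul, szS_szS hF,
      map_inv₀]
    simp
    field_simp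
    linear_combination h2
  rw [ht', ov_TD_33] at h33
  have := ov_sigma_unit_inj hF (inv_injective h33)
  rw [ht', this]


/-! ### elements and subgroups of the group itself -/

variable (hF : Fintype.card F = 2 ^ (2 * m + 1))

/-- translations, as elements of the Suzuki group -/
noncomputable def tG (a b : F) : ↥(Cfsg.Sz F m) := ⟨szT m a b, szT_mem hF a b⟩

/-- diagonal elements, as elements of the Suzuki group -/
noncomputable def dG (t : Fˣ) : ↥(Cfsg.Sz F m) := ⟨szD m t, szD_mem hF t⟩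

/-- the inversion, as an element of the Suzuki group -/
noncomputable def wG : ↥(Cfsg.Sz F m) := ⟨szW F, szW_mem hF⟩

theorem tG_mul (a b a' b' : F) :
    tG hF a b * tG hF a' b' = tG hF (a + a') (b + b' + szS F m a * a') :=
  Subtype.ext (szT_mul hF a b a' b')

theorem tG_zero : tG hF (0 : F) 0 = 1 := Subtype.ext szT_zero

theorem tG_inv (a b : F) : (tG hF a b)⁻¹ = tG hF a (b + szS F m a * a) :=
  Subtype.ext (szT_inv hF a b)

theorem tG_inj {a b a' b' : F} (h : tG hF a b = tG hF a' b') : a = a' ∧ b = b' :=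
  szT_injective (congrArg Subtype.val h)

theorem wG_mul_self : wG hF * wG hF = 1 := Subtype.ext szW_mul_self

theorem wG_inv : (wG hF)⁻¹ = wG hF := Subtype.ext szW_inv

theorem dG_mul_tG (s : Fˣ) (a b : F) :
    dG hF s * tG hF a b =
      tG hF ((s : F) ^ 2 * a) (szS F m s ^ 2 * (s : F) ^ 2 * b) * dG hF s :=
  Subtype.ext (szD_mul_szT hF s a b)

/-- the translation subgroup -/
def Uo : Subgroup ↥(Cfsg.Sz F m) where
  carrier := {g | ∃ a b : F, g = tG hF a b}
  mul_mem' := by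
    rintro g h ⟨a, b, rfl⟩ ⟨a', b', rfl⟩
    exact ⟨_, _, tG_mul hF a b a' b'⟩
  one_mem' := ⟨0, 0, (tG_zero hF).symm⟩
  inv_mem' := by
    rintro g ⟨a, b, rfl⟩
    exact ⟨_, _, tG_inv hF a b⟩

theorem tG_mem_Uo (a b : F) : tG hF a b ∈ Uo hF := ⟨a, b, rfl⟩

/-- the stabiliser of the point at infinity -/
def Bo (F : Type*) [Field F] [Fintype F] (m : ℕ) : Subgroup ↥(Cfsg.Sz F m) where
  carrier := {g | (g : SpecialLinearGroup (Fin 4) F) • Cfsg.suzukiPointInfinity F =
    Cfsg.suzukiPointInfinity F}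
  mul_mem' := by
    intro g h hg hh
    simp only [Set.mem_ofPred_eq, Subgroup.coe_mul, mul_smul] at *
    rw [hh, hg]
  one_mem' := by simp
  inv_mem' := by
    intro g hg
    simp only [Set.mem_ofPred_eq, InvMemClass.coe_inv] at *
    rw [inv_smul_eq_iff, hg]

omit [CharP F 2] in
theorem mem_Bo {g : ↥(Cfsg.Sz F m)} : g ∈ Bo F m ↔
    (g : SpecialLinearGroup (Fin 4) F) • Cfsg.suzukiPointInfinity F =
      Cfsg.suzukiPointInfinity F := Iff.rfl

theorem tG_mem_Bo (a b : F) : tG hF a b ∈ Bo F m := szT_smul_inf a b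

theorem dG_mem_Bo (t : Fˣ) : dG hF t ∈ Bo F m := szD_smul_inf t

theorem Uo_le_Bo : Uo hF ≤ Bo F m := by
  rintro g ⟨a, b, rfl⟩
  exact tG_mem_Bo hF a b

theorem wG_not_mem_Bo : wG hF ∉ Bo F m := by
  intro h
  have h1 : szW F • Cfsg.suzukiPointInfinity F = Cfsg.suzukiPointInfinity F := h
  rw [szW_smul_inf (m := m)] at h1
  exact szP_ne_inf 0 0 h1

theorem mem_Bo_iff (hm : 1 ≤ m) {g : ↥(Cfsg.Sz F m)} :
    g ∈ Bo F m ↔ ∃ (a b : F) (t : Fˣ), g = tG hF a b * dG hF t := by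
  constructor
  · intro h
    obtain ⟨a, b, t, h'⟩ := sz_fix_inf hm hF g.2 h
    exact ⟨a, b, t, Subtype.ext h'⟩
  · rintro ⟨a, b, t, rfl⟩
    exact mul_mem (tG_mem_Bo hF a b) (dG_mem_Bo hF t)

theorem Uo_conj_of_Bo (hm : 1 ≤ m) {g h : ↥(Cfsg.Sz F m)} (hg : g ∈ Bo F m) (hh : h ∈ Uo hF) :
    g * h * g⁻¹ ∈ Uo hF := by
  obtain ⟨c, d, t, rfl⟩ := (mem_Bo_iff hF hm).1 hg
  obtain ⟨a, b, rfl⟩ := hh
  have : tG hF c d * dG hF t * tG hF a b * (tG hF c d * dG hF t)⁻¹ =
      tG hF c d * tG hF ((t : F) ^ 2 * a) (szS F m t ^ 2 * (t : F) ^ 2 * b) * (tG hF c d)⁻¹ := by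
    rw [mul_assoc (tG hF c d), dG_mul_tG]
    group
  rw [this]
  exact mul_mem (mul_mem (tG_mem_Uo hF _ _) (tG_mem_Uo hF _ _)) (inv_mem (tG_mem_Uo hF _ _))

theorem normalizer_Uo (hm : 1 ≤ m) :
    Subgroup.normalizer ((Uo hF : Subgroup ↥(Cfsg.Sz F m)) : Set ↥(Cfsg.Sz F m)) = Bo F m := by
  apply le_antisymm
  · intro g hg
    rw [Subgroup.mem_normalizer_iff] at hg
    obtain ⟨a, b, hab⟩ := (hg (tG hF 1 0)).1 (tG_mem_Uo hF 1 0)
    rw [mem_Bo]
    have hne : ¬ (a = 0 ∧ b = 0) := by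
      rintro ⟨rfl, rfl⟩
      rw [tG_zero] at hab
      have h1 : tG hF (1 : F) 0 = 1 := by
        have : tG hF (1 : F) 0 = g⁻¹ * (g * tG hF 1 0 * g⁻¹) * g := by group
        rw [this, hab]; group
      rw [← tG_zero hF] at h1
      exact one_ne_zero (tG_inj hF h1).1
    apply ov_fix_T hF hne (sz_mem_smul_mem g.2 inf_mem_ovoid)
    have h1 := congrArg Subtype.val hab
    simp only [Subgroup.coe_mul, InvMemClass.coe_inv] at h1
    have h2 : szT m a b = (g : SpecialLinearGroup (Fin 4) F) * szT m 1 0 *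
        (g : SpecialLinearGroup (Fin 4) F)⁻¹ := h1.symm
    rw [h2, mul_smul, mul_smul, inv_smul_smul, szT_smul_inf]
  · rw [Subgroup.le_normalizer_iff]
    intro g hg h hh
    exact Uo_conj_of_Bo hF hm hg hh

include hF in
theorem isCoatom_Bo : IsCoatom (Bo F m) := by
  constructor
  · intro h
    exact wG_not_mem_Bo hF (h ▸ Subgroup.mem_top _)
  · intro M hM
    obtain ⟨g, hgM, hgB⟩ := SetLike.exists_of_lt hM
    rw [eq_top_iff]
    intro x _
    by_cases hx : x ∈ Bo F m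
    · exact hM.le hx
    · rcases (mem_ovoid_iff _).1 (sz_mem_smul_mem g.2 (inf_mem_ovoid (F := F) (m := m)))
        with h' | ⟨a', b', h'⟩
      · exact absurd h' hgB
      · rcases (mem_ovoid_iff _).1 (sz_mem_smul_mem x.2 (inf_mem_ovoid (F := F) (m := m)))
          with h'' | ⟨a, b, h''⟩
        · exact absurd h'' hx
        · have hk : x⁻¹ * (tG hF a b * (tG hF a' b')⁻¹ * g) ∈ Bo F m := by
            rw [mem_Bo]
            simp only [Subgroup.coe_mul, InvMemClass.coe_inv, mul_smul]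
            rw [inv_smul_eq_iff, h'', h']
            show szT m a b • (szT m a' b')⁻¹ • szP m a' b' = szP m a b
            rw [inv_smul_eq_iff.2 (szT_smul_zero hF a' b').symm, szT_smul_zero hF]
          have hk' := hM.le hk
          have h1 : tG hF a b * (tG hF a' b')⁻¹ * g ∈ M :=
            mul_mem (mul_mem (hM.le (tG_mem_Bo hF a b)) (inv_mem (hM.le (tG_mem_Bo hF a' b')))) hgM
          have : x = (tG hF a b * (tG hF a' b')⁻¹ * g) *
              (x⁻¹ * (tG hF a b * (tG hF a' b')⁻¹ * g))⁻¹ := by group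
          rw [this]
          exact mul_mem h1 (inv_mem hk')

theorem unique_max_Uo (hm : 1 ≤ m) {M : Subgroup ↥(Cfsg.Sz F m)} (hM : IsCoatom M)
    (hU : Uo hF ≤ M) : M = Bo F m := by
  by_contra hne
  have hnle : ¬ M ≤ Bo F m := by
    intro hle
    rcases (hM.le_iff).1 hle with h | h
    · exact (isCoatom_Bo hF).1 h
    · exact hne h.symm
  obtain ⟨g, hgM, hgB⟩ := SetLike.not_le_iff_exists.1 hnle
  have hT : ∀ a b : F, tG hF a b ∈ M := fun a b => hU (tG_mem_Uo hF a b)
  -- `g = T W h`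
  rcases sz_cases hF g.2 with h | ⟨a, b, h, hh, hfix, hg⟩
  · exact hgB h
  · have hhB : (⟨h, hh⟩ : ↥(Cfsg.Sz F m)) ∈ Bo F m := hfix
    have hgeq : g = tG hF a b * wG hF * ⟨h, hh⟩ := Subtype.ext hg
    set v : ↥(Cfsg.Sz F m) := ⟨h, hh⟩ with hv
    have hn : wG hF * v ∈ M := by
      have : wG hF * v = (tG hF a b)⁻¹ * g := by rw [hgeq]; group
      rw [this]
      exact mul_mem (inv_mem (hT a b)) hgM
    have hWTW : ∀ x y : F, wG hF * tG hF x y * wG hF ∈ M := by
      intro x y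
      have h1 : v⁻¹ * tG hF x y * v⁻¹⁻¹ ∈ Uo hF :=
        Uo_conj_of_Bo hF hm (inv_mem hhB) (tG_mem_Uo hF x y)
      have : wG hF * tG hF x y * wG hF =
          (wG hF * v) * (v⁻¹ * tG hF x y * v⁻¹⁻¹) * (wG hF * v)⁻¹ := by
        rw [_root_.mul_inv_rev, wG_inv]; group
      rw [this]
      exact mul_mem (mul_mem hn (hU h1)) (inv_mem hn)
    have hkey : ∀ t : Fˣ, ∃ c d : F,
        (wG hF * tG hF ((t : F)⁻¹) (szS F m ((t : F)⁻¹) * (t : F)⁻¹) * wG hF) *
          tG hF 0 ((t : F) * szS F m t) * wG hF = tG hF c d * dG hF t := by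
      intro t
      obtain ⟨c, d, h⟩ := ov_key hm hF t
      exact ⟨c, d, Subtype.ext h⟩
    have hW : wG hF ∈ M := by
      obtain ⟨c, d, h⟩ := hkey 1
      have hd1 : dG hF (1 : Fˣ) = 1 := Subtype.ext szD_one
      rw [hd1, mul_one] at h
      have : wG hF = (tG hF 0 (((1 : Fˣ) : F) * szS F m ((1 : Fˣ) : F)))⁻¹ *
          (wG hF * tG hF ((((1 : Fˣ) : F))⁻¹)
            (szS F m ((((1 : Fˣ) : F))⁻¹) * (((1 : Fˣ) : F))⁻¹) * wG hF)⁻¹ * tG hF c d := by
        rw [← h]; group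
      rw [this]
      exact mul_mem (mul_mem (inv_mem (hT _ _)) (inv_mem (hWTW _ _))) (hT _ _)
    have hD : ∀ t : Fˣ, dG hF t ∈ M := by
      intro t
      obtain ⟨c, d, h⟩ := hkey t
      have : dG hF t = (tG hF c d)⁻¹ * ((wG hF * tG hF ((t : F)⁻¹)
          (szS F m ((t : F)⁻¹) * (t : F)⁻¹) * wG hF) * tG hF 0 ((t : F) * szS F m t) * wG hF) := by
        rw [h]; group
      rw [this]
      exact mul_mem (inv_mem (hT _ _)) (mul_mem (mul_mem (hWTW _ _) (hT _ _)) hW)
    have hBM : Bo F m ≤ M := by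
      intro x hx
      obtain ⟨c, d, t, rfl⟩ := (mem_Bo_iff hF hm).1 hx
      exact mul_mem (hT c d) (hD t)
    rcases ((isCoatom_Bo hF).le_iff).1 hBM with h | h
    · exact hM.1 h
    · exact wG_not_mem_Bo hF (h ▸ hW)

theorem card_Uo : Nat.card (Uo hF) = Fintype.card F ^ 2 := by
  have e : (F × F) ≃ Uo hF := Equiv.ofBijective
    (fun x => ⟨tG hF x.1 x.2, tG_mem_Uo hF x.1 x.2⟩) ⟨by
      rintro ⟨a, b⟩ ⟨a', b'⟩ h
      obtain ⟨h1, h2⟩ := tG_inj hF (congrArg Subtype.val h)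
      exact Prod.ext h1 h2, by
      rintro ⟨g, a, b, rfl⟩
      exact ⟨(a, b), rfl⟩⟩
  rw [← Nat.card_congr e, Nat.card_prod, Nat.card_eq_fintype_card]
  ring

omit [Field F] [Fintype F] [CharP F 2] in
theorem ov_factorization_two_pow_mul (k r : ℕ) (hr : ¬ 2 ∣ r) :
    (2 ^ k * r).factorization 2 = k := by
  have hr0 : r ≠ 0 := by
    rintro rfl
    exact hr (dvd_zero 2)
  rw [Nat.factorization_mul (by positivity) hr0, Finsupp.add_apply, Nat.factorization_pow,
    Finsupp.smul_apply, Nat.Prime.factorization_self Nat.prime_two,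
    Nat.factorization_eq_zero_of_not_dvd hr]
  simp

omit [CharP F 2] in
include hF in
theorem card_Sz_factorization (hm : 1 ≤ m) :
    (Nat.card ↥(Cfsg.Sz F m)).factorization 2 = 2 * (2 * m + 1) := by
  have := sz_charP hF
  rw [sz_card hm hF, hF]
  have hq2 : ((2 : ℕ) ^ (2 * m + 1)) ^ 2 = 2 * 2 ^ (4 * m + 1) := by ring
  have hq : (2 : ℕ) ^ (2 * m + 1) = 2 * 2 ^ (2 * m) := by ring
  have hpos : 0 < 2 ^ (2 * m) := by positivity
  have e : ((2 ^ (2 * m + 1)) ^ 2 + 1) * ((2 ^ (2 * m + 1)) ^ 2 * (2 ^ (2 * m + 1) - 1)) =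
      2 ^ (2 * (2 * m + 1)) * (((2 ^ (2 * m + 1)) ^ 2 + 1) * (2 ^ (2 * m + 1) - 1)) := by
    rw [← pow_mul]
    ring
  rw [e]
  apply ov_factorization_two_pow_mul
  rw [Nat.prime_two.dvd_mul]
  rw [hq2, hq]
  omega

/-- the translation subgroup as a Sylow `2`-subgroup -/
noncomputable def UoSylow (hm : 1 ≤ m) : Sylow 2 ↥(Cfsg.Sz F m) :=
  Sylow.ofCard (Uo hF) (by
    rw [card_Uo, card_Sz_factorization hF hm, hF, ← pow_mul]
    congr 1
    ring)

theorem coe_UoSylow (hm : 1 ≤ m) :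
    ((UoSylow hF hm : Sylow 2 ↥(Cfsg.Sz F m)) : Subgroup ↥(Cfsg.Sz F m)) = Uo hF :=
  Sylow.coe_ofCard _ _

/-- no translation of order four is conjugate to its inverse -/
theorem ov_real (hm : 1 ≤ m) {a b : F} {h : ↥(Cfsg.Sz F m)}
    (hc : h * tG hF a b * h⁻¹ = (tG hF a b)⁻¹) (hab : ¬ (a = 0 ∧ b = 0)) : a = 0 := by
  have h2 : (2 : F) = 0 := sz_two
  by_contra ha
  -- `h` fixes the point at infinity
  have hB : h ∈ Bo F m := by
    rw [mem_Bo]
    apply ov_fix_T hF hab (sz_mem_smul_mem h.2 inf_mem_ovoid)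
    have h1 := congrArg Subtype.val hc
    simp only [Subgroup.coe_mul, InvMemClass.coe_inv] at h1
    have h3 : (szT m a b)⁻¹ • ((h : SpecialLinearGroup (Fin 4) F) • Cfsg.suzukiPointInfinity F) =
        (h : SpecialLinearGroup (Fin 4) F) • Cfsg.suzukiPointInfinity F := by
      have : (tG hF a b : SpecialLinearGroup (Fin 4) F) = szT m a b := rfl
      rw [this] at h1
      rw [← h1, mul_smul, mul_smul, inv_smul_smul, szT_smul_inf]
    rw [inv_smul_eq_iff] at h3
    exact h3.symm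
  obtain ⟨c, d, t, rfl⟩ := (mem_Bo_iff hF hm).1 hB
  have e1 : tG hF c d * dG hF t * tG hF a b = (tG hF a b)⁻¹ * (tG hF c d * dG hF t) := by
    rw [← hc]; group
  have e2 : tG hF c d * dG hF t * tG hF a b =
      tG hF (c + (t : F) ^ 2 * a)
        (d + szS F m t ^ 2 * (t : F) ^ 2 * b + szS F m c * ((t : F) ^ 2 * a)) * dG hF t := by
    rw [mul_assoc, dG_mul_tG, ← mul_assoc, tG_mul]
  have e3 : (tG hF a b)⁻¹ * (tG hF c d * dG hF t) =
      tG hF (a + c) (b + szS F m a * a + d + szS F m a * c) * dG hF t := by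
    rw [tG_inv, ← mul_assoc, tG_mul]
  rw [e2, e3] at e1
  obtain ⟨k1, k2, -⟩ := szTD_injective hF (congrArg Subtype.val e1)
  have ht : (t : F) ^ 2 = 1 := by
    have : ((t : F) ^ 2 - 1) * a = 0 := by linear_combination k1
    rcases mul_eq_zero.1 this with h' | h'
    · exact sub_eq_zero.1 h'
    · exact absurd h' ha
  have hst : szS F m t ^ 2 = 1 := by rw [← map_pow, ht, map_one]
  rw [ht, hst] at k2
  -- `k2 : d + 1 * 1 * b + σ c * (1 * a) = b + σ a * a + d + σ a * c`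
  have E : szS F m c * a = szS F m a * a + szS F m a * c := by linear_combination k2
  have E' := congrArg (szS F m) E
  simp only [map_add, map_mul, szS_szS hF] at E'
  have hsa : szS F m a ≠ 0 := by simpa using ha
  have h3 : szS F m a * (c * (c - a)) = 0 := by
    linear_combination E' + a * E + (a ^ 2 * szS F m a) * h2
  rcases mul_eq_zero.1 h3 with h' | h'
  · exact hsa h'
  · rcases mul_eq_zero.1 h' with h'' | h''
    · subst h''
      rw [map_zero, zero_mul, mul_zero, add_zero] at E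
      exact (mul_ne_zero hsa ha) E.symm
    · have hca : c = a := sub_eq_zero.1 h''
      subst hca
      have : szS F m c * c = 0 := by linear_combination -E
      exact (mul_ne_zero hsa ha) this

end Ov

end Cfsg.Agent.Helper60
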