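import Mathlib
import Cfsg.Prelude.Def_Solvable
import Cfsg.Agent.Helper11.FrobThm

set_option autoImplicit false

namespace Cfsg.Agent.Helper60

open scoped Pointwise

section CA
variable {M : Type*} [Group M]

theorem mem_conj_smul_iff (H : Subgroup M) (g k : M) :
    k ∈ MulAut.conj g • H ↔ g⁻¹ * k * g ∈ H := by
  rw [Subgroup.mem_pointwise_smul_iff_inv_smul_mem]
  have : (MulAut.conj g)⁻¹ • k = g⁻¹ * k * g := by simp [MulAut.smul_def]
  rw [this]

/-- in a group where commuting is transitive on non-identity elements and centralisers are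
self-normalising, a proper centraliser is a Frobenius complement -/
theorem ca_frobC
    (h1 : ∀ x y : M, x ≠ 1 → y ≠ 1 → x * y = y * x → ∀ z : M, z * y = y * z → z * x = x * z)
    (h2 : ∀ x : M, x ≠ 1 → ∀ n : M, (n * x * n⁻¹) * x = x * (n * x * n⁻¹) → n * x = x * n)
    (x : M) (hx : x ≠ 1) (hH : Subgroup.centralizer ({x} : Set M) ≠ ⊤) :
    Cfsg.IsFrobeniusComplement (Subgroup.centralizer ({x} : Set M)) := by
  refine ⟨?_, hH, ?_⟩
  · intro h
    have hx' : x ∈ Subgroup.centralizer ({x} : Set M) :=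
      Subgroup.mem_centralizer_singleton_iff.2 rfl
    rw [h, Subgroup.mem_bot] at hx'
    exact hx hx'
  · intro g hg
    rw [eq_bot_iff]
    intro k hk
    rw [Subgroup.mem_bot]
    by_contra hk1
    obtain ⟨hk1', hk2⟩ := Subgroup.mem_inf.1 hk
    rw [Subgroup.mem_centralizer_singleton_iff] at hk1'
    rw [mem_conj_smul_iff, Subgroup.mem_centralizer_singleton_iff] at hk2
    apply hg
    rw [Subgroup.mem_centralizer_singleton_iff]
    apply h2 x hx g
    have hk3 : k * (g * x * g⁻¹) = (g * x * g⁻¹) * k := by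
      have : k * (g * x * g⁻¹) = g * (g⁻¹ * k * g * x) * g⁻¹ := by group
      rw [this, hk2]; group
    exact h1 x k hx hk1 hk1'.symm (g * x * g⁻¹) hk3.symm

/-- a finite group in which commuting is transitive on non-identity elements and centralisers of
non-identity elements are self-normalising is abelian -/
theorem ca_abelian [Finite M]
    (h1 : ∀ x y : M, x ≠ 1 → y ≠ 1 → x * y = y * x → ∀ z : M, z * y = y * z → z * x = x * z)
    (h2 : ∀ x : M, x ≠ 1 → ∀ n : M, (n * x * n⁻¹) * x = x * (n * x * n⁻¹) → n * x = x * n)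
    (x : M) (hx : x ≠ 1) : Subgroup.centralizer ({x} : Set M) = ⊤ := by
  by_contra hH
  have hFC := ca_frobC h1 h2 x hx hH
  obtain ⟨N, hN, hNn, hNc⟩ := Cfsg.Agent.Helper11.frobenius_kernel_subgroup _ hFC
  have hNmem : ∀ g : M, g ∈ N ↔
      g = 1 ∨ ∀ c : M, g ∉ MulAut.conj c • Subgroup.centralizer ({x} : Set M) := by
    intro g
    rw [← SetLike.mem_coe, hN]; rfl
  have hxN : x ∉ N := by
    rw [hNmem]
    rintro (h | h)
    · exact hx h
    · apply h 1
      rw [mem_conj_smul_iff, Subgroup.mem_centralizer_singleton_iff]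
      simp
  have hNbot : N ≠ ⊥ := by
    intro h
    rw [h] at hNc
    exact hH (Subgroup.isComplement'_bot_left.1 hNc)
  obtain ⟨y, hyN, hy1⟩ : ∃ y ∈ N, y ≠ 1 := by
    by_contra hcon
    push Not at hcon
    exact hNbot ((Subgroup.eq_bot_iff_forall N).2 hcon)
  have hyk : ∀ c : M, y ∉ MulAut.conj c • Subgroup.centralizer ({x} : Set M) := by
    rcases (hNmem y).1 hyN with h | h
    · exact absurd h hy1
    · exact h
  have hH' : Subgroup.centralizer ({y} : Set M) ≠ ⊤ := by
    intro h
    apply hyk 1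
    rw [mem_conj_smul_iff, Subgroup.mem_centralizer_singleton_iff]
    have hxy : x ∈ Subgroup.centralizer ({y} : Set M) := by rw [h]; exact Subgroup.mem_top x
    rw [Subgroup.mem_centralizer_singleton_iff] at hxy
    simp only [inv_one, one_mul, mul_one]
    exact hxy.symm
  have hFC' := ca_frobC h1 h2 y hy1 hH'
  obtain ⟨N', hN', hNn', hNc'⟩ := Cfsg.Agent.Helper11.frobenius_kernel_subgroup _ hFC'
  have hNmem' : ∀ g : M, g ∈ N' ↔
      g = 1 ∨ ∀ c : M, g ∉ MulAut.conj c • Subgroup.centralizer ({y} : Set M) := by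
    intro g
    rw [← SetLike.mem_coe, hN']; rfl
  have hyN' : y ∉ N' := by
    rw [hNmem']
    rintro (h | h)
    · exact hy1 h
    · apply h 1
      rw [mem_conj_smul_iff, Subgroup.mem_centralizer_singleton_iff]
      simp
  have hcover : ∀ g : M, g ∈ N ∨ g ∈ N' := by
    intro g
    by_contra hcon
    push Not at hcon
    obtain ⟨hg1, hg2⟩ := hcon
    rw [hNmem] at hg1
    rw [hNmem'] at hg2
    push Not at hg1 hg2
    obtain ⟨hg_ne, c, hc⟩ := hg1
    obtain ⟨-, d, hd⟩ := hg2
    rw [mem_conj_smul_iff, Subgroup.mem_centralizer_singleton_iff] at hc hd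
    have hc' : g * (c * x * c⁻¹) = (c * x * c⁻¹) * g := by
      have : g * (c * x * c⁻¹) = c * (c⁻¹ * g * c * x) * c⁻¹ := by group
      rw [this, hc]; group
    have hd' : g * (d * y * d⁻¹) = (d * y * d⁻¹) * g := by
      have : g * (d * y * d⁻¹) = d * (d⁻¹ * g * d * y) * d⁻¹ := by group
      rw [this, hd]; group
    have hcx1 : c * x * c⁻¹ ≠ 1 := fun h => hx (conj_eq_one_iff.1 h)
    have key := h1 (c * x * c⁻¹) g hcx1 hg_ne hc'.symm (d * y * d⁻¹) hd'.symm
    apply hyk (d⁻¹ * c)
    rw [mem_conj_smul_iff, Subgroup.mem_centralizer_singleton_iff]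
    have e1 : (d⁻¹ * c)⁻¹ * y * (d⁻¹ * c) * x = c⁻¹ * (d * y * d⁻¹ * (c * x * c⁻¹)) * c := by
      group
    rw [e1, key]; group
  have hx' : x ∈ N' := (hcover x).resolve_left hxN
  rcases hcover (x * y) with h | h
  · apply hxN
    have := N.mul_mem h (N.inv_mem hyN)
    rwa [mul_inv_cancel_right] at this
  · apply hyN'
    have := N'.mul_mem (N'.inv_mem hx') h
    rwa [inv_mul_cancel_left] at this

end CA

/-- an element without `2`-part whose fourth power lies in a subgroup lies in the subgroup -/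
theorem mem_of_pow_four_mem {G : Type*} [Group G] [Finite G] (H : Subgroup G) {n : G}
    (h4 : n ^ 4 ∈ H) (hodd : ∀ k : ℕ, (n ^ k) ^ 4 = 1 → n ^ k = 1) : n ∈ H := by
  have hpos : 0 < orderOf n := orderOf_pos n
  have hoddo : ¬ 2 ∣ orderOf n := by
    rintro ⟨j, hj⟩
    have h1 : (n ^ j) ^ 4 = 1 := by
      rw [← pow_mul]
      have : j * 4 = orderOf n * 2 := by rw [hj]; ring
      rw [this, pow_mul, pow_orderOf_eq_one, one_pow]
    have h2 := hodd j h1
    have h3 := orderOf_dvd_of_pow_eq_one h2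
    have : orderOf n ≤ j := Nat.le_of_dvd (by omega) h3
    omega
  have hcop : Nat.Coprime 4 (orderOf n) := by
    have h2 : Nat.Coprime 2 (orderOf n) := (Nat.prime_two.coprime_iff_not_dvd).2 hoddo
    exact Nat.Coprime.pow_left 2 h2
  by_cases ho : orderOf n = 1
  · rw [orderOf_eq_one_iff.1 ho]; exact H.one_mem
  · obtain ⟨k, -, hk⟩ := Nat.exists_mul_mod_eq_one_of_coprime hcop (by omega)
    have : n = (n ^ 4) ^ k := by
      rw [← pow_mul, ← pow_mod_orderOf, hk, pow_one]
    rw [this]; exact H.pow_mem h4 k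

end Cfsg.Agent.Helper60
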