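import Mathlib
import Cfsg.Prelude.Def_LieExceptional
import Cfsg.Agent.Helper6.Suzuki5
import Cfsg.Agent.Helper60.SzOvoid

set_option autoImplicit false

namespace Cfsg.Agent.Helper60

open Matrix Cfsg.Agent.Helper6
open scoped Pointwise

section Ov2
variable {F : Type*} [Field F] [Fintype F] {m : ℕ} [CharP F 2]

/-- squaring is surjective on a finite field of characteristic two -/
theorem ov_sq_surj (a : F) : ∃ s : F, s ^ 2 = a := by
  have hinj : Function.Injective (frobenius F 2) := frobenius_inj F 2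
  obtain ⟨s, hs⟩ := (Finite.injective_iff_surjective.1 hinj) a
  exact ⟨s, by rw [← hs, frobenius_def]⟩

/-- `a ↦ σ(a) a` is surjective -/
theorem ov_sigma_mul_surj (hF : Fintype.card F = 2 ^ (2 * m + 1)) (b : F) :
    ∃ a : F, szS F m a * a = b := by
  by_cases hb : b = 0
  · exact ⟨0, by simp [hb]⟩
  · refine ⟨szS F m b / b, ?_⟩
    have hsb : szS F m b ≠ 0 := by simpa using hb
    rw [map_div₀, szS_szS hF]
    field_simp

variable (hF : Fintype.card F = 2 ^ (2 * m + 1))

theorem dG_mul (s t : Fˣ) : dG hF (s * t) = dG hF s * dG hF t := Subtype.ext (szD_mul s t)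

theorem dG_one : dG hF (1 : Fˣ) = 1 := Subtype.ext szD_one

/-- the diagonal elements as a homomorphism into the group -/
noncomputable def dGhom : Fˣ →* ↥(Cfsg.Sz F m) where
  toFun := dG hF
  map_one' := dG_one hF
  map_mul' := dG_mul hF

theorem dG_inv (t : Fˣ) : (dG hF t)⁻¹ = dG hF t⁻¹ := ((dGhom hF).map_inv t).symm

theorem dG_zpow (t : Fˣ) (k : ℤ) : dG hF (t ^ k) = dG hF t ^ k := map_zpow (dGhom hF) t k

theorem dG_inj {s t : Fˣ} (h : dG hF s = dG hF t) : s = t :=
  szD_injective (congrArg Subtype.val h)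

theorem wG_dG_wG (s : Fˣ) : wG hF * dG hF s * wG hF = dG hF s⁻¹ :=
  Subtype.ext (szW_mul_szD_mul_szW s)

theorem dG_conj_tG (s : Fˣ) (a b : F) :
    dG hF s * tG hF a b * (dG hF s)⁻¹ =
      tG hF ((s : F) ^ 2 * a) (szS F m s ^ 2 * (s : F) ^ 2 * b) := by
  rw [dG_mul_tG, mul_inv_cancel_right]

theorem tG_sq (a b : F) : tG hF a b * tG hF a b = tG hF 0 (szS F m a * a) := by
  have h2 : (2 : F) = 0 := sz_two
  rw [tG_mul]
  congr 1
  · linear_combination a * h2
  · linear_combination b * h2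

/-- a subgroup containing the diagonal elements and one translation with nonzero first
coordinate contains all translations -/
theorem Uo_le_of_D_of_T {H : Subgroup ↥(Cfsg.Sz F m)} (hD : ∀ t : Fˣ, dG hF t ∈ H)
    {x₀ y₀ : F} (hx : x₀ ≠ 0) (hT : tG hF x₀ y₀ ∈ H) : Uo hF ≤ H := by
  have h2 : (2 : F) = 0 := sz_two
  have h1 : ∀ a : F, ∃ b, tG hF a b ∈ H := by
    intro a
    by_cases ha : a = 0
    · exact ⟨0, by rw [ha, tG_zero]; exact one_mem _⟩
    · obtain ⟨s, hs⟩ := ov_sq_surj (a / x₀)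
      have hs0 : s ≠ 0 := by
        rintro rfl
        rw [zero_pow two_ne_zero] at hs
        exact (div_ne_zero ha hx) hs.symm
      have h3 := mul_mem (mul_mem (hD (Units.mk0 s hs0)) hT) (inv_mem (hD (Units.mk0 s hs0)))
      rw [dG_conj_tG] at h3
      have e : ((Units.mk0 s hs0 : Fˣ) : F) ^ 2 * x₀ = a := by
        rw [Units.val_mk0, hs]
        field_simp
      rw [e] at h3
      exact ⟨_, h3⟩
  have h3 : ∀ b : F, tG hF 0 b ∈ H := by
    intro b
    obtain ⟨a, ha⟩ := ov_sigma_mul_surj hF b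
    obtain ⟨b', hb'⟩ := h1 a
    have := mul_mem hb' hb'
    rwa [tG_sq, ha] at this
  rintro g ⟨a, b, rfl⟩
  obtain ⟨b', hb'⟩ := h1 a
  have h4 := mul_mem hb' (h3 (b + b'))
  rw [tG_mul] at h4
  have e : tG hF a b = tG hF (a + 0) (b' + (b + b') + szS F m a * 0) := by
    congr 1
    · ring
    · linear_combination (-b') * h2
  rw [e]
  exact h4

include hF in
/-- a subgroup containing the point stabiliser and the inversion is the whole group -/
theorem eq_top_of_Bo_le_of_wG {H : Subgroup ↥(Cfsg.Sz F m)} (hB : Bo F m ≤ H)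
    (hW : wG hF ∈ H) : H = ⊤ := by
  rcases ((isCoatom_Bo hF).le_iff).1 hB with h | h
  · exact h
  · exact absurd (h ▸ hW) (wG_not_mem_Bo hF)

/-- a subgroup containing the diagonal elements, a translation with nonzero first coordinate and
the inversion is the whole group -/
theorem eq_top_of_D_T_W (hm : 1 ≤ m) {H : Subgroup ↥(Cfsg.Sz F m)} (hD : ∀ t : Fˣ, dG hF t ∈ H)
    {x₀ y₀ : F} (hx : x₀ ≠ 0) (hT : tG hF x₀ y₀ ∈ H) (hW : wG hF ∈ H) : H = ⊤ := by
  apply eq_top_of_Bo_le_of_wG hF ?_ hW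
  intro g hg
  obtain ⟨a, b, t, rfl⟩ := (mem_Bo_iff hF hm).1 hg
  exact mul_mem (Uo_le_of_D_of_T hF hD hx hT (tG_mem_Uo hF a b)) (hD t)

end Ov2

end Cfsg.Agent.Helper60
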