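import Mathlib
import Cfsg.Prelude.Def_LieExceptional
import Cfsg.Agent.Helper60.SzOvoid2

set_option autoImplicit false

namespace Cfsg.Agent.Helper60

open Matrix Cfsg.Agent.Helper6
open scoped Pointwise

section FieldLemmas

/-- an additive subgroup of a finite field of characteristic two which is `TI` under scalar
multiplication has order a power of two whose exponent divides the degree -/
theorem ov_dvd_of_TI {F : Type*} [Field F] [Fintype F] {N n : ℕ} (hF : Fintype.card F = 2 ^ N)
    (A : AddSubgroup F) (hA : Nat.card A = 2 ^ n) (hn : 1 ≤ n)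
    (hTI : ∀ μ : F, μ ≠ 0 → (∃ b ∈ A, b ≠ 0 ∧ μ * b ∈ A) → ∀ b ∈ A, μ * b ∈ A) : n ∣ N := by
  classical
  have hlt : 1 < Nat.card A := by rw [hA]; exact Nat.one_lt_two_pow (by omega)
  obtain ⟨a₀, ha₀A, ha₀⟩ : ∃ a₀ ∈ A, a₀ ≠ 0 := by
    have : Nontrivial A := (Finite.one_lt_card_iff_nontrivial).1 hlt
    obtain ⟨⟨x, hx⟩, hx0⟩ := exists_ne (0 : A)
    exact ⟨x, hx, fun h => hx0 (Subtype.ext h)⟩
  have hmulK : ∀ x y : F, x * a₀ ∈ A → y * a₀ ∈ A → x * y * a₀ ∈ A := by
    intro x y hx hy
    by_cases hx0 : x = 0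
    · simp [hx0, A.zero_mem]
    · have := hTI x hx0 ⟨a₀, ha₀A, ha₀, hx⟩ (y * a₀) hy
      rwa [← mul_assoc] at this
  have hpowK : ∀ (x : F) (k : ℕ), x * a₀ ∈ A → x ^ k * a₀ ∈ A := by
    intro x k hx
    induction k with
    | zero => simpa using ha₀A
    | succ k ih => rw [pow_succ]; exact hmulK _ _ ih hx
  let K : Subfield F :=
    { carrier := {x | x * a₀ ∈ A}
      mul_mem' := fun {x y} hx hy => hmulK x y hx hy
      one_mem' := by simpa using ha₀A
      add_mem' := fun {x y} hx hy => by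
        show (x + y) * a₀ ∈ A
        rw [add_mul]; exact A.add_mem hx hy
      zero_mem' := by
        show (0 : F) * a₀ ∈ A
        rw [zero_mul]; exact A.zero_mem
      neg_mem' := fun {x} hx => by
        show (-x) * a₀ ∈ A
        rw [neg_mul]; exact A.neg_mem hx
      inv_mem' := fun x hx => by
        show x⁻¹ * a₀ ∈ A
        by_cases hx0 : x = 0
        · rw [hx0, _root_.inv_zero, zero_mul]; exact A.zero_mem
        · have h1 : x ^ (Fintype.card F - 1) = 1 := FiniteField.pow_card_sub_one_eq_one x hx0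
          have h2 : x * x ^ (Fintype.card F - 2) = 1 := by
            rw [← pow_succ', ← h1]
            congr 1
            have : 2 ≤ Fintype.card F := Fintype.one_lt_card
            omega
          rw [inv_eq_of_mul_eq_one_right h2]
          exact hpowK x _ hx }
  have hKmem : ∀ x : F, x ∈ K ↔ x * a₀ ∈ A := fun x => Iff.rfl
  have hcardK : Nat.card K = 2 ^ n := by
    rw [← hA]
    refine Nat.card_congr (Equiv.ofBijective (fun x : K => (⟨x.1 * a₀, x.2⟩ : A)) ⟨?_, ?_⟩)
    · intro x y h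
      have := congrArg Subtype.val h
      exact Subtype.ext (mul_right_cancel₀ ha₀ this)
    · rintro ⟨b, hb⟩
      refine ⟨⟨b * a₀⁻¹, ?_⟩, ?_⟩
      · rw [hKmem, inv_mul_cancel_right₀ ha₀]; exact hb
      · exact Subtype.ext (inv_mul_cancel_right₀ ha₀ b)
  haveI : Fintype K := Fintype.ofFinite K
  have h3 := Module.card_eq_pow_finrank (K := K) (V := F)
  rw [hF, ← Nat.card_eq_fintype_card, hcardK, ← pow_mul] at h3
  exact ⟨_, Nat.pow_right_injective (le_refl 2) h3⟩

/-- a finite field of order `2 ^ N` has a subfield of order `2 ^ n` for every divisor `n` of `N` -/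
theorem ov_exists_subfield {F : Type*} [Field F] [Fintype F] [CharP F 2] {N n : ℕ}
    (hF : Fintype.card F = 2 ^ N) (hn0 : n ≠ 0) (hn : n ∣ N) :
    ∃ K : Subfield F, Nat.card K = 2 ^ n := by
  letI : Algebra (ZMod 2) F := ZMod.algebra F 2
  have h1 : Module.finrank (ZMod 2) F = N := by
    have := FiniteField.pow_finrank_eq_card 2 F
    rw [hF] at this
    exact Nat.pow_right_injective (le_refl 2) this
  have h2 : Module.finrank (ZMod 2) (GaloisField 2 n) = n := GaloisField.finrank 2 hn0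
  obtain ⟨f⟩ := FiniteField.nonempty_algHom_of_finrank_dvd (F := ZMod 2) (K := GaloisField 2 n)
    (L := F) (by rw [h1, h2]; exact hn)
  refine ⟨(f : GaloisField 2 n →+* F).fieldRange, ?_⟩
  rw [← GaloisField.card 2 n hn0]
  exact (Nat.card_congr (Equiv.ofInjective f f.injective)).symm

end FieldLemmas

section Ov3
variable {F : Type*} [Field F] [Fintype F] {m : ℕ} [CharP F 2]
variable (hF : Fintype.card F = 2 ^ (2 * m + 1))

/-- the translations `T(0, y)` are central in the translation subgroup -/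
theorem tG_center (c d y : F) : tG hF c d * tG hF 0 y * (tG hF c d)⁻¹ = tG hF 0 y := by
  have h2 : (2 : F) = 0 := sz_two
  rw [tG_inv, tG_mul, tG_mul]
  congr 1
  · linear_combination c * h2
  · simp only [map_add, map_zero]
    linear_combination (d + szS F m c * c) * h2

theorem Bo_conj_center (c d : F) (t : Fˣ) (y : F) :
    (tG hF c d * dG hF t) * tG hF 0 y * (tG hF c d * dG hF t)⁻¹ =
      tG hF 0 (szS F m t ^ 2 * (t : F) ^ 2 * y) := by
  have e : (tG hF c d * dG hF t) * tG hF 0 y * (tG hF c d * dG hF t)⁻¹ =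
      tG hF c d * (dG hF t * tG hF 0 y * (dG hF t)⁻¹) * (tG hF c d)⁻¹ := by group
  rw [e, dG_conj_tG, mul_zero, tG_center]

theorem Bo_conj_center' (c d : F) (t : Fˣ) (y : F) :
    (tG hF c d * dG hF t)⁻¹ * tG hF 0 y * (tG hF c d * dG hF t) =
      tG hF 0 ((szS F m t ^ 2 * (t : F) ^ 2)⁻¹ * y) := by
  have ht : (t : F) ≠ 0 := t.ne_zero
  have hst := szS_unit_ne_zero (m := m) t
  have h := Bo_conj_center hF c d t ((szS F m t ^ 2 * (t : F) ^ 2)⁻¹ * y)
  have e : szS F m t ^ 2 * (t : F) ^ 2 * ((szS F m t ^ 2 * (t : F) ^ 2)⁻¹ * y) = y := by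
    field_simp
  rw [e] at h
  rw [← h]
  group

include hF in
/-- every nonzero scalar arises as the multiplier of a diagonal element on the centre -/
theorem ov_mu_surj {μ : F} (hμ : μ ≠ 0) : ∃ t : Fˣ, szS F m t ^ 2 * (t : F) ^ 2 = μ := by
  obtain ⟨s, hs⟩ := ov_sq_surj μ
  obtain ⟨a, ha⟩ := ov_sigma_mul_surj hF s
  have ha0 : a ≠ 0 := by
    rintro rfl
    rw [map_zero, zero_mul] at ha
    rw [← ha, zero_pow two_ne_zero] at hs
    exact hμ hs.symm
  refine ⟨Units.mk0 a ha0, ?_⟩
  rw [Units.val_mk0, ← mul_pow, ha, hs]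

/-- involutions among the translations have vanishing first coordinate -/
theorem tG_involution {a b : F} (h : tG hF a b * tG hF a b = 1) : a = 0 := by
  rw [tG_sq, ← tG_zero hF] at h
  have h1 := (tG_inj hF h).2
  by_contra ha
  have hsa : szS F m a ≠ 0 := by simpa using ha
  exact (mul_ne_zero hsa ha) h1

theorem tG_eq_one_iff {a b : F} : tG hF a b = 1 ↔ a = 0 ∧ b = 0 := by
  constructor
  · intro h
    rw [← tG_zero hF] at h
    exact tG_inj hF h
  · rintro ⟨rfl, rfl⟩
    exact tG_zero hF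

/-- the translation subgroup is a `TI`-subgroup -/
theorem Uo_TI {a b a' b' : F} {x : ↥(Cfsg.Sz F m)} (hab : ¬ (a = 0 ∧ b = 0))
    (h : tG hF a b = x * tG hF a' b' * x⁻¹) : x ∈ Bo F m := by
  rw [mem_Bo]
  apply ov_fix_T hF hab (sz_mem_smul_mem x.2 inf_mem_ovoid)
  have h1 := congrArg Subtype.val h
  simp only [Subgroup.coe_mul, InvMemClass.coe_inv] at h1
  have h2 : szT m a b = (x : SpecialLinearGroup (Fin 4) F) * szT m a' b' *
      (x : SpecialLinearGroup (Fin 4) F)⁻¹ := h1
  rw [h2, mul_smul, mul_smul, inv_smul_smul, szT_smul_inf]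

end Ov3

end Cfsg.Agent.Helper60
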