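import Mathlib
import Cfsg.Prelude.Def_LieExceptional
import Cfsg.Prelude.Def_KGroupFacts
import Cfsg.Agent.Helper60.SzOvoid3
import Cfsg.Agent.Helper6.Suzuki9

set_option autoImplicit false
set_option linter.unusedSimpArgs false
set_option linter.unusedVariables false
set_option linter.unusedSectionVars false

namespace Cfsg.Agent.Helper60

open Matrix Cfsg.Agent.Helper6

section SzAut
variable {F : Type*} [Field F] [Fintype F] [CharP F 2] {m : ℕ}

/-! ### entrywise action of field endomorphisms -/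

omit [Fintype F] in
theorem szS_map (ψ : F →+* F) (x : F) : szS F m (ψ x) = ψ (szS F m x) := by
  rw [szS_apply, szS_apply, map_pow]

omit [Fintype F] in
theorem slmap_T (ψ : F →+* F) (a b : F) :
    SpecialLinearGroup.map ψ (szT m a b) = szT m (ψ a) (ψ b) := by
  apply Subtype.ext
  ext i j
  simp only [SpecialLinearGroup.map_apply_coe, RingHom.mapMatrix_apply, Matrix.map_apply]
  show ψ (szTm m a b i j) = szTm m (ψ a) (ψ b) i j
  fin_cases i <;> fin_cases j <;> simp [szTm, szf, szS_map]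

omit [Fintype F] in
theorem slmap_D (ψ : F →+* F) (t : Fˣ) :
    SpecialLinearGroup.map ψ (szD m t) = szD m (Units.map (ψ : F →* F) t) := by
  apply Subtype.ext
  ext i j
  simp only [SpecialLinearGroup.map_apply_coe, RingHom.mapMatrix_apply, Matrix.map_apply]
  show ψ (szDm m t i j) = szDm m (Units.map (ψ : F →* F) t) i j
  fin_cases i <;> fin_cases j <;> simp [szDm, szS_map, Matrix.diagonal]

omit [Fintype F] in
theorem slmap_W (ψ : F →+* F) : SpecialLinearGroup.map ψ (szW F) = szW F := by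
  apply Subtype.ext
  ext i j
  simp only [SpecialLinearGroup.map_apply_coe, RingHom.mapMatrix_apply, Matrix.map_apply]
  show ψ (szWm F i j) = szWm F i j
  fin_cases i <;> fin_cases j <;> simp [szWm]

theorem slmap_mem (hm : 1 ≤ m) (hF : Fintype.card F = 2 ^ (2 * m + 1)) (ψ : F →+* F)
    {g : SpecialLinearGroup (Fin 4) F} (hg : g ∈ Cfsg.Sz F m) :
    SpecialLinearGroup.map ψ g ∈ Cfsg.Sz F m := by
  have hB : ∀ b ∈ Cfsg.Sz F m,
      b • Cfsg.suzukiPointInfinity F = Cfsg.suzukiPointInfinity F →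
      SpecialLinearGroup.map ψ b ∈ Cfsg.Sz F m := by
    intro b hb hinf
    obtain ⟨x, y, t, rfl⟩ := sz_fix_inf hm hF hb hinf
    rw [map_mul, slmap_T, slmap_D]
    exact mul_mem (szT_mem hF _ _) (szD_mem hF _)
  rcases sz_cases hF hg with h1 | ⟨a, b, k, hk, hkinf, rfl⟩
  · exact hB g hg h1
  · rw [map_mul, map_mul, slmap_T, slmap_W]
    exact mul_mem (mul_mem (szT_mem hF _ _) (szW_mem hF)) (hB k hk hkinf)

/-- the automorphism of the Suzuki group induced by a field automorphism -/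
noncomputable def fieldAut (hm : 1 ≤ m) (hF : Fintype.card F = 2 ^ (2 * m + 1)) (ψ : F ≃+* F) :
    ↥(Cfsg.Sz F m) ≃* ↥(Cfsg.Sz F m) where
  toFun g := ⟨SpecialLinearGroup.map (ψ : F →+* F) g, slmap_mem hm hF _ g.2⟩
  invFun g := ⟨SpecialLinearGroup.map (ψ.symm : F →+* F) g, slmap_mem hm hF _ g.2⟩
  left_inv g := by
    apply Subtype.ext
    apply Subtype.ext
    ext i j
    simp [SpecialLinearGroup.map_apply_coe]
  right_inv g := by
    apply Subtype.ext
    apply Subtype.ext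
    ext i j
    simp [SpecialLinearGroup.map_apply_coe]
  map_mul' g h := Subtype.ext (map_mul _ _ _)

variable (hF : Fintype.card F = 2 ^ (2 * m + 1))

theorem fieldAut_tG (hm : 1 ≤ m) (ψ : F ≃+* F) (a b : F) :
    fieldAut hm hF ψ (tG hF a b) = tG hF (ψ a) (ψ b) :=
  Subtype.ext (slmap_T (ψ : F →+* F) a b)

theorem fieldAut_dG (hm : 1 ≤ m) (ψ : F ≃+* F) (t : Fˣ) :
    fieldAut hm hF ψ (dG hF t) = dG hF (Units.map ((ψ : F →+* F) : F →* F) t) :=
  Subtype.ext (slmap_D (ψ : F →+* F) t)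

theorem fieldAut_wG (hm : 1 ≤ m) (ψ : F ≃+* F) :
    fieldAut hm hF ψ (wG hF) = wG hF :=
  Subtype.ext (slmap_W (ψ : F →+* F))

/-! ### centralisers of translations and diagonal elements -/

/-- elements commuting with a nontrivial diagonal element are diagonal -/
theorem ov_comm_D (hm : 1 ≤ m) {t : Fˣ} (ht : t ≠ 1) {c : ↥(Cfsg.Sz F m)}
    (e : c * dG hF t = dG hF t * c) : ∃ s : Fˣ, c = dG hF s := by
  have hcn := szCN_D hm hF ht
  have e' : (c : SpecialLinearGroup (Fin 4) F) * szD m t = szD m t * c := congrArg Subtype.val e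
  have h2 : (2 : F) = 0 := sz_two
  have hc := c.2
  have fixset : ∀ p ∈ Cfsg.suzukiOvoid F m, szD m t • p = p →
      p = Cfsg.suzukiPointInfinity F ∨ p = szP m 0 0 := by
    intro p hp hfix
    rcases (mem_ovoid_iff p).1 hp with h | ⟨x, y, h⟩
    · left; exact h
    · right
      subst h
      by_contra hne
      apply ht
      refine szD_fix_imp hF (x := x) (y := y) ?_ hfix
      rintro ⟨rfl, rfl⟩
      exact hne rfl
  have hc1 : szD m t • ((c : SpecialLinearGroup (Fin 4) F) • Cfsg.suzukiPointInfinity F) =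
      (c : SpecialLinearGroup (Fin 4) F) • Cfsg.suzukiPointInfinity F := by
    rw [← mul_smul, ← e', mul_smul, szD_smul_inf]
  have hc2 : szD m t • ((c : SpecialLinearGroup (Fin 4) F) • szP m (0 : F) 0) =
      (c : SpecialLinearGroup (Fin 4) F) • szP m (0 : F) 0 := by
    rw [← mul_smul, ← e', mul_smul, szD_smul_zero hF]
  rcases fixset _ (sz_mem_smul_mem hc inf_mem_ovoid) hc1 with h1 | h1
  · rcases fixset _ (sz_mem_smul_mem hc (szP_mem_ovoid 0 0)) hc2 with h2' | h2'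
    · exfalso
      exact szP_ne_inf _ _ (smul_left_cancel _ (h2'.trans h1.symm))
    · obtain ⟨s, hs⟩ := sz_fix_two hm hF hc h1 h2'
      exact ⟨s, Subtype.ext hs⟩
  · rcases fixset _ (sz_mem_smul_mem hc (szP_mem_ovoid 0 0)) hc2 with h2' | h2'
    · exfalso
      obtain ⟨s, hs⟩ := sz_fix_two hm hF (mul_mem (szW_mem hF) hc)
        (by rw [mul_smul, h1, szW_smul_szP_zero])
        (by rw [mul_smul, h2', szW_smul_inf])
      have hc' : (c : SpecialLinearGroup (Fin 4) F) = szW F * szD m s := by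
        rw [← hs, ← mul_assoc, szW_mul_self, one_mul]
      rw [hc'] at e'
      have e2 : szD m s * szD m t = szD m t⁻¹ * szD m s := by
        rw [← szW_mul_szD_mul_szW]
        have := congrArg (fun x => szW F * x) e'
        simp only [← mul_assoc, szW_mul_self, one_mul] at this
        exact this
      rw [← szD_mul, ← szD_mul] at e2
      have e3 := szD_injective e2
      have e4 : t * t = 1 := by
        have : t * s = t⁻¹ * s := by rw [mul_comm t s]; exact e3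
        have := mul_right_cancel this
        calc t * t = t⁻¹ * t := by rw [← this]
          _ = 1 := inv_mul_cancel t
      apply ht
      apply Units.ext
      have e5 : (t : F) * t = 1 := by
        have := congrArg Units.val e4
        rwa [Units.val_mul, Units.val_one] at this
      have e6 : ((t : F) - 1) ^ 2 = 0 := by linear_combination e5 + (1 - (t : F)) * h2
      exact sub_eq_zero.1 ((pow_eq_zero_iff two_ne_zero).1 e6)
    · exfalso
      exact szP_ne_inf _ _ (smul_left_cancel _ (h1.trans h2'.symm)).symm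

/-- uniqueness of the decomposition in the point stabiliser -/
theorem tG_dG_inj {a b a' b' : F} {t t' : Fˣ}
    (h : tG hF a b * dG hF t = tG hF a' b' * dG hF t') : a = a' ∧ b = b' ∧ t = t' :=
  szTD_injective hF (congrArg Subtype.val h)

theorem dG_ne_one {t : Fˣ} (ht : t ≠ 1) : dG hF t ≠ 1 := by
  intro e
  apply ht
  apply dG_inj hF
  rw [e, dG_one]

theorem dG_not_mem_Uo {t : Fˣ} (ht : t ≠ 1) : dG hF t ∉ Uo hF := by
  rintro ⟨x, y, e⟩
  have e' : tG hF 0 0 * dG hF t = tG hF x y * dG hF 1 := by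
    rw [tG_zero, one_mul, dG_one, mul_one, e]
  exact ht (tG_dG_inj hF e').2.2

/-- an element of the point stabiliser outside the translation group is conjugate, under a
translation, to a diagonal element -/
theorem TD_conj_D (hm : 1 ≤ m) (a b : F) {t : Fˣ} (ht : t ≠ 1) :
    ∃ (x y : F) (t' : Fˣ), (tG hF x y)⁻¹ * (tG hF a b * dG hF t) * tG hF x y = dG hF t' := by
  obtain ⟨x, y, hxy⟩ := szTD_fix hF a b ht
  have hk0 : ((szT m x y)⁻¹ * (szT m a b * szD m t) * szT m x y) • szP m (0 : F) 0 =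
      szP m 0 0 := by
    rw [mul_smul, mul_smul, szT_smul_zero hF, hxy, inv_smul_eq_iff, szT_smul_zero hF]
  have hkinf : ((szT m x y)⁻¹ * (szT m a b * szD m t) * szT m x y) •
      Cfsg.suzukiPointInfinity F = Cfsg.suzukiPointInfinity F := by
    rw [mul_smul, mul_smul, mul_smul, szT_smul_inf, szD_smul_inf, szT_smul_inf, inv_smul_eq_iff,
      szT_smul_inf]
  obtain ⟨t', e'⟩ := sz_fix_two hm hF
    (mul_mem (mul_mem (inv_mem (szT_mem hF x y)) (mul_mem (szT_mem hF a b) (szD_mem hF t)))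
      (szT_mem hF x y)) hkinf hk0
  exact ⟨x, y, t', Subtype.ext e'⟩

/-! ### normalising an automorphism -/

theorem wG_mul_dG (s : Fˣ) : wG hF * dG hF s = dG hF s⁻¹ * wG hF := by
  rw [← wG_dG_wG hF s, mul_assoc (wG hF * dG hF s), wG_mul_self, mul_one]

theorem dG_mul_wG (s : Fˣ) : dG hF s * wG hF = wG hF * dG hF s⁻¹ := by
  rw [wG_mul_dG, inv_inv]

theorem aut_norm1 (hm : 1 ≤ m) (α : ↥(Cfsg.Sz F m) ≃* ↥(Cfsg.Sz F m)) :
    ∃ c : ↥(Cfsg.Sz F m), ∀ u ∈ Uo hF, c * α u * c⁻¹ ∈ Uo hF := by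
  have hp : IsPGroup 2 ((Uo hF).map α.toMonoidHom) := by
    have h0 : IsPGroup 2 (Uo hF) := by
      rw [← coe_UoSylow hF hm]
      exact (UoSylow hF hm).isPGroup'
    exact h0.map α.toMonoidHom
  obtain ⟨Q, hQ⟩ := hp.exists_le_sylow
  obtain ⟨c, hcQ⟩ := MulAction.exists_smul_eq ↥(Cfsg.Sz F m) (UoSylow hF hm) Q
  refine ⟨c⁻¹, ?_⟩
  intro u hu
  have hgQ : α u ∈ (Q : Subgroup ↥(Cfsg.Sz F m)) := hQ ⟨u, hu, rfl⟩
  rw [← hcQ, Sylow.coe_subgroup_smul, coe_UoSylow,
    Subgroup.mem_pointwise_smul_iff_inv_smul_mem] at hgQ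
  simpa [MulAut.smul_def] using hgQ

theorem Uo_stable_surj (α : ↥(Cfsg.Sz F m) ≃* ↥(Cfsg.Sz F m))
    (hU : ∀ u ∈ Uo hF, α u ∈ Uo hF) : ∀ u ∈ Uo hF, ∃ u' ∈ Uo hF, α u' = u := by
  intro u hu
  have hinj : Function.Injective (fun v : Uo hF => (⟨α v, hU v v.2⟩ : Uo hF)) := by
    intro v w h
    apply Subtype.ext
    exact α.injective (congrArg Subtype.val h)
  obtain ⟨v, hv⟩ := (Finite.injective_iff_surjective.1 hinj) ⟨u, hu⟩
  exact ⟨v, v.2, congrArg Subtype.val hv⟩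

theorem Bo_stable (hm : 1 ≤ m) (α : ↥(Cfsg.Sz F m) ≃* ↥(Cfsg.Sz F m))
    (hU : ∀ u ∈ Uo hF, α u ∈ Uo hF) : ∀ g ∈ Bo F m, α g ∈ Bo F m := by
  intro g hg
  have h1 : g * tG hF 1 0 * g⁻¹ ∈ Uo hF := Uo_conj_of_Bo hF hm hg (tG_mem_Uo hF 1 0)
  obtain ⟨a, b, hab⟩ := hU _ h1
  obtain ⟨a', b', hab'⟩ := hU _ (tG_mem_Uo hF 1 0)
  rw [map_mul, map_mul, map_inv, hab'] at hab
  refine Uo_TI hF ?_ hab.symm
  rintro ⟨rfl, rfl⟩
  rw [tG_zero] at hab
  have h3 : tG hF a' b' = 1 := conj_eq_one_iff.1 hab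
  rw [← hab'] at h3
  have h4 : tG hF (1 : F) 0 = 1 := (map_eq_one_iff α α.injective).1 h3
  exact one_ne_zero ((tG_eq_one_iff hF).1 h4).1

theorem aut_norm2 (hm : 1 ≤ m) (α : ↥(Cfsg.Sz F m) ≃* ↥(Cfsg.Sz F m))
    (hU : ∀ u ∈ Uo hF, α u ∈ Uo hF) :
    ∃ c ∈ Uo hF, ∀ t : Fˣ, ∃ t' : Fˣ, c * α (dG hF t) * c⁻¹ = dG hF t' := by
  obtain ⟨t₀, ht₀⟩ := sz_exists_unit_ne_one hm hF
  have hB := Bo_stable hF hm α hU
  obtain ⟨a, b, t₁, h1⟩ := (mem_Bo_iff hF hm).1 (hB _ (dG_mem_Bo hF t₀))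
  have ht₁ : t₁ ≠ 1 := by
    rintro rfl
    rw [dG_one, mul_one] at h1
    obtain ⟨u', hu', hu'e⟩ := Uo_stable_surj hF α hU _ (tG_mem_Uo hF a b)
    have : dG hF t₀ = u' := α.injective (h1.trans hu'e.symm)
    exact dG_not_mem_Uo hF ht₀ (this ▸ hu')
  obtain ⟨x, y, t', hconj⟩ := TD_conj_D hF hm a b ht₁
  rw [← h1] at hconj
  refine ⟨(tG hF x y)⁻¹, inv_mem (tG_mem_Uo hF x y), ?_⟩
  have ht' : t' ≠ 1 := by
    rintro rfl
    rw [dG_one] at hconj
    have h3 : α (dG hF t₀) = 1 := by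
      have := conj_eq_one_iff (a := (tG hF x y)⁻¹) (b := α (dG hF t₀))
      rw [inv_inv] at this
      exact this.1 hconj
    exact dG_ne_one hF ht₀ ((map_eq_one_iff α α.injective).1 h3)
  intro t
  rw [inv_inv]
  have hc : (tG hF x y)⁻¹ * α (dG hF t) * tG hF x y * dG hF t' =
      dG hF t' * ((tG hF x y)⁻¹ * α (dG hF t) * tG hF x y) := by
    rw [← hconj]
    have e1 : (tG hF x y)⁻¹ * α (dG hF t) * tG hF x y *
        ((tG hF x y)⁻¹ * α (dG hF t₀) * tG hF x y) =
        (tG hF x y)⁻¹ * α (dG hF t * dG hF t₀) * tG hF x y := by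
      rw [map_mul]; group
    have e2 : ((tG hF x y)⁻¹ * α (dG hF t₀) * tG hF x y) *
        ((tG hF x y)⁻¹ * α (dG hF t) * tG hF x y) =
        (tG hF x y)⁻¹ * α (dG hF t₀ * dG hF t) * tG hF x y := by
      rw [map_mul]; group
    rw [e1, e2, ← dG_mul, ← dG_mul, mul_comm]
  exact ov_comm_D hF hm ht' hc

theorem aut_norm3 (hm : 1 ≤ m) (α : ↥(Cfsg.Sz F m) ≃* ↥(Cfsg.Sz F m))
    (hD : ∀ t : Fˣ, ∃ t' : Fˣ, α (dG hF t) = dG hF t') :
    ∃ v : Fˣ, dG hF v * α (wG hF) * (dG hF v)⁻¹ = wG hF := by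
  obtain ⟨t₀, ht₀⟩ := sz_exists_unit_ne_one hm hF
  obtain ⟨t₁, h1⟩ := hD t₀
  have ht₁ : t₁ ≠ 1 := by
    rintro rfl
    rw [dG_one] at h1
    exact dG_ne_one hF ht₀ ((map_eq_one_iff α α.injective).1 h1)
  have hw'2 : α (wG hF) * α (wG hF) = 1 := by rw [← map_mul, wG_mul_self, map_one]
  have hrel : α (wG hF) * dG hF t₁ * α (wG hF) = dG hF t₁⁻¹ := by
    rw [← h1, ← map_mul, ← map_mul, wG_dG_wG, ← dG_inv, map_inv, h1, dG_inv]
  have hrel' : α (wG hF) * dG hF t₁ = dG hF t₁⁻¹ * α (wG hF) := by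
    rw [← hrel, mul_assoc (α (wG hF) * dG hF t₁), hw'2, mul_one]
  have hcomm : (wG hF * α (wG hF)) * dG hF t₁ = dG hF t₁ * (wG hF * α (wG hF)) := by
    rw [mul_assoc, hrel', ← mul_assoc, wG_mul_dG, inv_inv, mul_assoc]
  obtain ⟨s, hs⟩ := ov_comm_D hF hm ht₁ hcomm
  have hw'eq : α (wG hF) = wG hF * dG hF s := by
    rw [← hs, ← mul_assoc, wG_mul_self, one_mul]
  obtain ⟨v, hv⟩ := ov_sq_surj (s : F)
  have hv0 : v ≠ 0 := by
    rintro rfl
    rw [zero_pow two_ne_zero] at hv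
    exact s.ne_zero hv.symm
  refine ⟨Units.mk0 v hv0, ?_⟩
  rw [hw'eq, ← mul_assoc, dG_mul_wG, dG_inv, mul_assoc, mul_assoc, ← dG_mul, ← dG_mul]
  have e : (Units.mk0 v hv0)⁻¹ * (s * (Units.mk0 v hv0)⁻¹) = 1 := by
    apply Units.ext
    simp only [Units.val_mul, Units.val_inv_eq_inv_val, Units.val_mk0, Units.val_one]
    rw [← hv]
    field_simp
  rw [e, dG_one, mul_one]

/-! ### the inversion relation -/

include hF in
theorem nu_inj {x y : F} (hx : x ≠ 0) (hy : y ≠ 0)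
    (h : szS F m x ^ 2 * x ^ 2 = szS F m y ^ 2 * y ^ 2) : x = y := by
  have h2 : (2 : F) = 0 := sz_two
  have hsy : szS F m y ≠ 0 := by simpa using hy
  have h1 : (szS F m x * x - szS F m y * y) ^ 2 = 0 := by
    linear_combination h + (szS F m y * y * (szS F m y * y) - szS F m x * x * (szS F m y * y)) * h2
  have h3 : szS F m x * x = szS F m y * y := sub_eq_zero.1 ((pow_eq_zero_iff two_ne_zero).1 h1)
  have h4 : szS F m (x / y) * (x / y) = 1 := by
    rw [map_div₀]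
    field_simp
    linear_combination h3
  have := sz_sigma_mul_self hF h4
  field_simp at this
  exact this

include hF in
theorem sigma_div_surj {z : F} (hz : z ≠ 0) : ∃ y : F, y ≠ 0 ∧ y / szS F m y = z := by
  have hsz : szS F m z ≠ 0 := by simpa using hz
  refine ⟨(z * szS F m z)⁻¹, inv_ne_zero (mul_ne_zero hz hsz), ?_⟩
  rw [map_inv₀, map_mul, szS_szS hF]
  field_simp

theorem bruhat_rel {y : F} (hy : y ≠ 0) :
    ∃ h ∈ Bo F m, wG hF * tG hF 0 y * wG hF = tG hF (y / szS F m y) 0 * wG hF * h := by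
  have hsy : szS F m y ≠ 0 := by simpa using hy
  have hf : szf m (0 : F) y = szS F m y := by simp [szf]
  refine ⟨(tG hF (y / szS F m y) 0 * wG hF)⁻¹ * (wG hF * tG hF 0 y * wG hF), ?_, by group⟩
  rw [mem_Bo]
  show ((szT m (y / szS F m y) 0 * szW F)⁻¹ * (szW F * szT m 0 y * szW F)) •
    Cfsg.suzukiPointInfinity F = Cfsg.suzukiPointInfinity F
  rw [mul_smul, inv_smul_eq_iff, mul_smul, mul_smul, mul_smul, szW_smul_inf (m := m),
    szT_smul_zero hF, szT_smul_zero hF, szW_smul_szP hF (by rw [hf]; exact hsy), hf]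
  simp

theorem bruhat_unique {y a b : F} (hy : y ≠ 0) {h : ↥(Cfsg.Sz F m)} (hh : h ∈ Bo F m)
    (e : wG hF * tG hF 0 y * wG hF = tG hF a b * wG hF * h) :
    a = y / szS F m y ∧ b = 0 := by
  have hsy : szS F m y ≠ 0 := by simpa using hy
  have hf : szf m (0 : F) y = szS F m y := by simp [szf]
  have e1 : szW F * szT m 0 y * szW F = szT m a b * szW F * (h : SpecialLinearGroup (Fin 4) F) :=
    congrArg Subtype.val e
  have e2 := congrArg (fun g : SpecialLinearGroup (Fin 4) F => g • Cfsg.suzukiPointInfinity F) e1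
  simp only [mul_smul] at e2
  rw [mem_Bo] at hh
  rw [hh, szW_smul_inf (m := m), szT_smul_zero hF, szT_smul_zero hF,
    szW_smul_szP hF (by rw [hf]; exact hsy), hf] at e2
  obtain ⟨h1, h2⟩ := szP_inj e2
  refine ⟨h1.symm, ?_⟩
  rw [← h2]
  simp

/-! ### automorphisms in normal form are field automorphisms -/

theorem aut_norm4 (hm : 1 ≤ m) (α : ↥(Cfsg.Sz F m) ≃* ↥(Cfsg.Sz F m))
    (hU : ∀ u ∈ Uo hF, α u ∈ Uo hF)
    (hD : ∀ t : Fˣ, ∃ t' : Fˣ, α (dG hF t) = dG hF t')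
    (hW : α (wG hF) = wG hF) : ∃ ψ : F ≃+* F, α = fieldAut hm hF ψ := by
  classical
  have h2 : (2 : F) = 0 := sz_two
  have hUc : ∀ a b : F, ∃ a' b' : F, α (tG hF a b) = tG hF a' b' :=
    fun a b => hU _ (tG_mem_Uo hF a b)
  choose A B hAB using hUc
  choose φ hφ using hD
  -- the centre
  have hA0 : ∀ b, A 0 b = 0 := by
    intro b
    apply tG_involution hF (b := B 0 b)
    rw [← hAB, ← map_mul, tG_sq, map_zero, zero_mul, tG_zero, map_one]
  have hβ' : ∀ b, α (tG hF 0 b) = tG hF 0 (B 0 b) := by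
    intro b
    rw [hAB, hA0]
  have hβadd : ∀ b b', B 0 (b + b') = B 0 b + B 0 b' := by
    intro b b'
    have e : tG hF 0 b * tG hF 0 b' = tG hF 0 (b + b') := by
      rw [tG_mul]
      congr 1 <;> simp
    have e' := congrArg α e
    rw [map_mul, hβ', hβ', hβ', tG_mul] at e'
    have e'' := (tG_inj hF e').2
    simp only [map_zero, zero_mul, add_zero] at e''
    exact e''.symm
  have hβ0 : B 0 0 = 0 := by
    have e := hβ' 0
    rw [tG_zero, map_one, ← tG_zero hF] at e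
    exact ((tG_inj hF e).2).symm
  have hβinj : ∀ b, B 0 b = 0 → b = 0 := by
    intro b hb
    have e := hβ' b
    rw [hb, tG_zero] at e
    exact ((tG_eq_one_iff hF).1 ((map_eq_one_iff α α.injective).1 e)).2
  have hβD : ∀ (t : Fˣ) (b : F), B 0 (szS F m t ^ 2 * (t : F) ^ 2 * b) =
      szS F m (φ t) ^ 2 * ((φ t : Fˣ) : F) ^ 2 * B 0 b := by
    intro t b
    have e := dG_conj_tG hF t 0 b
    rw [mul_zero] at e
    have e' := congrArg α e
    rw [map_mul, map_mul, map_inv, hφ, hβ', hβ', dG_conj_tG, mul_zero] at e'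
    exact ((tG_inj hF e').2).symm
  -- the field automorphism
  have hc : B 0 1 ≠ 0 := fun h => one_ne_zero (hβinj 1 h)
  have hψν : ∀ t : Fˣ, B 0 (szS F m t ^ 2 * (t : F) ^ 2) / B 0 1 =
      szS F m (φ t) ^ 2 * ((φ t : Fˣ) : F) ^ 2 := by
    intro t
    have e := hβD t 1
    rw [mul_one] at e
    rw [e]
    field_simp
  have hψmul : ∀ s b : F, B 0 (s * b) / B 0 1 = B 0 s / B 0 1 * (B 0 b / B 0 1) := by
    intro s b
    by_cases hs : s = 0
    · subst hs
      rw [zero_mul, hβ0, zero_div, zero_mul]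
    · obtain ⟨t, ht⟩ := ov_mu_surj hF hs
      rw [← ht, hβD, hψν]
      field_simp
  let ψ : F →+* F :=
    { toFun := fun s => B 0 s / B 0 1
      map_one' := div_self hc
      map_mul' := hψmul
      map_zero' := by rw [hβ0, zero_div]
      map_add' := by
        intro x y
        rw [hβadd, add_div] }
  have hψapp : ∀ s, ψ s = B 0 s / B 0 1 := fun s => rfl
  have hψbij : Function.Bijective ψ :=
    ⟨ψ.injective, Finite.injective_iff_surjective.1 ψ.injective⟩
  -- the diagonal part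
  have hφψ : ∀ t : Fˣ, ((φ t : Fˣ) : F) = ψ t := by
    intro t
    apply nu_inj hF (φ t).ne_zero ((map_ne_zero ψ).2 t.ne_zero)
    have e : szS F m (ψ t) ^ 2 * (ψ t) ^ 2 = ψ (szS F m t ^ 2 * (t : F) ^ 2) := by
      rw [szS_map, map_mul, map_pow, map_pow]
    rw [e, ← hψν, hψapp]
  -- the first coordinate
  have hsplit : ∀ a b, α (tG hF a b) = tG hF (A a 0) (B a 0 + B 0 b) := by
    intro a b
    have e : tG hF a b = tG hF a 0 * tG hF 0 b := by
      rw [tG_mul]
      congr 1 <;> simp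
    rw [e, map_mul, hAB a 0, hβ', tG_mul]
    congr 1 <;> simp
  have hA1add : ∀ a a', A (a + a') 0 = A a 0 + A a' 0 := by
    intro a a'
    have e := congrArg α (tG_mul hF a 0 a' 0)
    rw [map_mul, hAB a 0, hAB a' 0, tG_mul, hsplit] at e
    exact ((tG_inj hF e).1).symm
  have hA1D : ∀ (t : Fˣ) (a : F), A ((t : F) ^ 2 * a) 0 = ((φ t : Fˣ) : F) ^ 2 * A a 0 := by
    intro t a
    have e := dG_conj_tG hF t a 0
    rw [mul_zero] at e
    have e' := congrArg α e
    rw [map_mul, map_mul, map_inv, hφ, hAB a 0, hAB _ 0, dG_conj_tG] at e'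
    exact ((tG_inj hF e').1).symm
  have hA00 : A 0 0 = 0 := hA0 0
  have hA1 : ∀ s, A s 0 = ψ s * A 1 0 := by
    intro s
    by_cases hs : s = 0
    · subst hs
      rw [hA00, map_zero, zero_mul]
    · obtain ⟨v, hv⟩ := ov_sq_surj s
      have hv0 : v ≠ 0 := by
        rintro rfl
        rw [zero_pow two_ne_zero] at hv
        exact hs hv.symm
      have e := hA1D (Units.mk0 v hv0) 1
      rw [mul_one, Units.val_mk0, hv, hφψ, Units.val_mk0, ← map_pow, hv] at e
      exact e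
  -- the squaring relation
  have hsq : szS F m (A 1 0) * A 1 0 = B 0 1 := by
    have e := congrArg α (tG_sq hF 1 0)
    rw [map_mul, hAB 1 0, tG_sq, map_one, one_mul, hβ'] at e
    exact (tG_inj hF e).2
  have he0 : A 1 0 ≠ 0 := by
    intro h
    rw [h, mul_zero] at hsq
    exact hc hsq.symm
  -- the inversion relation
  have hrel : ∀ y : F, y ≠ 0 → A (y / szS F m y) 0 = B 0 y / szS F m (B 0 y) ∧
      B (y / szS F m y) 0 = 0 := by
    intro y hy
    obtain ⟨h, hh, e⟩ := bruhat_rel hF hy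
    have e' := congrArg α e
    rw [map_mul, map_mul, map_mul, map_mul, hW, hβ', hAB _ 0] at e'
    exact bruhat_unique hF (fun h0 => hy (hβinj y h0)) (Bo_stable hF hm α hU h hh) e'
  have he1 : A 1 0 = 1 := by
    have e := (hrel 1 one_ne_zero).1
    rw [map_one, div_one] at e
    have hsc : szS F m (B 0 1) ≠ 0 := by simpa using hc
    have hse : szS F m (A 1 0) ≠ 0 := by simpa using he0
    have e3 : A 1 0 * szS F m (B 0 1) = B 0 1 := by
      rw [e]
      field_simp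
    rw [← hsq, map_mul, szS_szS hF] at e3
    have e4 : (A 1 0 ^ 2 - 1) * (szS F m (A 1 0) * A 1 0) = 0 := by linear_combination e3
    rcases mul_eq_zero.1 e4 with h | h
    · have e5 : (A 1 0 - 1) ^ 2 = 0 := by linear_combination h + (1 - A 1 0) * h2
      exact sub_eq_zero.1 ((pow_eq_zero_iff two_ne_zero).1 e5)
    · exact absurd h (mul_ne_zero hse he0)
  have hc1 : B 0 1 = 1 := by
    rw [← hsq, he1, map_one, one_mul]
  have hB1 : ∀ z, B z 0 = 0 := by
    intro z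
    by_cases hz : z = 0
    · subst hz
      exact hβ0
    · obtain ⟨y, hy, hyz⟩ := sigma_div_surj hF hz
      rw [← hyz]
      exact (hrel y hy).2
  -- conclusion
  have hT : ∀ a b, α (tG hF a b) = tG hF (ψ a) (ψ b) := by
    intro a b
    rw [hsplit, hA1, he1, mul_one, hB1, zero_add, hψapp b, hc1, div_one]
  have hDD : ∀ t : Fˣ, α (dG hF t) = dG hF (Units.map (ψ : F →* F) t) := by
    intro t
    rw [hφ]
    congr 1
    apply Units.ext
    rw [hφψ]
    rfl
  refine ⟨RingEquiv.ofBijective ψ hψbij, ?_⟩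
  have hH : (α.toMonoidHom).eqLocus (fieldAut hm hF (RingEquiv.ofBijective ψ hψbij)).toMonoidHom
      = ⊤ := by
    apply eq_top_of_D_T_W hF hm (x₀ := 1) (y₀ := 0) _ one_ne_zero
    · show α (tG hF 1 0) = fieldAut hm hF (RingEquiv.ofBijective ψ hψbij) (tG hF 1 0)
      rw [fieldAut_tG, hT]
      rfl
    · show α (wG hF) = fieldAut hm hF (RingEquiv.ofBijective ψ hψbij) (wG hF)
      rw [fieldAut_wG, hW]
    · intro t
      show α (dG hF t) = fieldAut hm hF (RingEquiv.ofBijective ψ hψbij) (dG hF t)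
      rw [fieldAut_dG, hDD]
      rfl
  apply MulEquiv.ext
  intro x
  have hx : x ∈ (α.toMonoidHom).eqLocus
      (fieldAut hm hF (RingEquiv.ofBijective ψ hψbij)).toMonoidHom := by
    rw [hH]
    exact Subgroup.mem_top x
  exact hx

/-- every automorphism is an inner automorphism times a field automorphism -/
theorem aut_decomp (hm : 1 ≤ m) (α : ↥(Cfsg.Sz F m) ≃* ↥(Cfsg.Sz F m)) :
    ∃ (g : ↥(Cfsg.Sz F m)) (ψ : F ≃+* F), α = MulAut.conj g * fieldAut hm hF ψ := by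
  obtain ⟨c₁, h1⟩ := aut_norm1 hF hm α
  have hU1 : ∀ u ∈ Uo hF, (MulAut.conj c₁ * α) u ∈ Uo hF := fun u hu => h1 u hu
  obtain ⟨c₂, hc₂, h2⟩ := aut_norm2 hF hm (MulAut.conj c₁ * α) hU1
  have hU2 : ∀ u ∈ Uo hF, (MulAut.conj c₂ * (MulAut.conj c₁ * α)) u ∈ Uo hF :=
    fun u hu => mul_mem (mul_mem hc₂ (hU1 u hu)) (inv_mem hc₂)
  have hD2 : ∀ t : Fˣ, ∃ t' : Fˣ,
      (MulAut.conj c₂ * (MulAut.conj c₁ * α)) (dG hF t) = dG hF t' := h2
  obtain ⟨v, h3⟩ := aut_norm3 hF hm (MulAut.conj c₂ * (MulAut.conj c₁ * α)) hD2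
  have hU3 : ∀ u ∈ Uo hF,
      (MulAut.conj (dG hF v) * (MulAut.conj c₂ * (MulAut.conj c₁ * α))) u ∈ Uo hF :=
    fun u hu => Uo_conj_of_Bo hF hm (dG_mem_Bo hF v) (hU2 u hu)
  have hD3 : ∀ t : Fˣ, ∃ t' : Fˣ,
      (MulAut.conj (dG hF v) * (MulAut.conj c₂ * (MulAut.conj c₁ * α))) (dG hF t) = dG hF t' := by
    intro t
    obtain ⟨t', ht'⟩ := hD2 t
    refine ⟨t', ?_⟩
    show dG hF v * (MulAut.conj c₂ * (MulAut.conj c₁ * α)) (dG hF t) * (dG hF v)⁻¹ = dG hF t'
    rw [ht', ← dG_mul, mul_comm, dG_mul, mul_inv_cancel_right]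
  obtain ⟨ψ, hψ⟩ := aut_norm4 hF hm _ hU3 hD3 h3
  refine ⟨(dG hF v * c₂ * c₁)⁻¹, ψ, ?_⟩
  have e : (dG hF v * c₂ * c₁)⁻¹ * dG hF v * c₂ * c₁ = 1 := by group
  rw [← hψ, ← mul_assoc, ← mul_assoc, ← mul_assoc, ← map_mul, ← map_mul, ← map_mul, e, map_one,
    one_mul]

/-- a field automorphism which is inner modulo another one coincides with it -/
theorem fieldAut_inj (hm : 1 ≤ m) (ψ₁ ψ₂ : F ≃+* F) (g : ↥(Cfsg.Sz F m))
    (h : fieldAut hm hF ψ₂ = fieldAut hm hF ψ₁ * MulAut.conj g) : ψ₁ = ψ₂ := by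
  have hx : ∀ x, fieldAut hm hF ψ₂ x =
      fieldAut hm hF ψ₁ g * fieldAut hm hF ψ₁ x * (fieldAut hm hF ψ₁ g)⁻¹ := by
    intro x
    rw [h]
    show fieldAut hm hF ψ₁ (g * x * g⁻¹) = _
    rw [map_mul, map_mul, map_inv]
  have h1 := hx (tG hF 1 0)
  rw [fieldAut_tG, fieldAut_tG] at h1
  have hB : fieldAut hm hF ψ₁ g ∈ Bo F m := by
    refine Uo_TI hF ?_ h1
    rintro ⟨h0, -⟩
    rw [map_one] at h0
    exact one_ne_zero h0
  obtain ⟨c, d, s, hg⟩ := (mem_Bo_iff hF hm).1 hB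
  have key : ∀ t : Fˣ, Units.map ((ψ₁ : F →+* F) : F →* F) t =
      Units.map ((ψ₂ : F →+* F) : F →* F) t := by
    intro t
    have h3 := hx (dG hF t)
    rw [fieldAut_dG, fieldAut_dG, hg] at h3
    set t₁ := Units.map ((ψ₁ : F →+* F) : F →* F) t
    set t₂ := Units.map ((ψ₂ : F →+* F) : F →* F) t
    have e1 : tG hF c d * dG hF s * dG hF t₁ * (tG hF c d * dG hF s)⁻¹ =
        tG hF c d * (dG hF s * dG hF t₁ * (dG hF s)⁻¹) * (tG hF c d)⁻¹ := by group
    have e2 : dG hF s * dG hF t₁ * (dG hF s)⁻¹ = dG hF t₁ := by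
      rw [← dG_mul, mul_comm, dG_mul, mul_inv_cancel_right]
    have e3 : tG hF c d * dG hF t₁ * (tG hF c d)⁻¹ =
        tG hF c d * (dG hF t₁ * (tG hF c d)⁻¹ * (dG hF t₁)⁻¹) * dG hF t₁ := by group
    rw [e1, e2, e3, tG_inv, dG_conj_tG, tG_mul] at h3
    have h4 : tG hF 0 0 * dG hF t₂ = tG hF (c + (t₁ : F) ^ 2 * c)
        (d + szS F m (t₁ : F) ^ 2 * (t₁ : F) ^ 2 * (d + szS F m c * c) +
          szS F m c * ((t₁ : F) ^ 2 * c)) * dG hF t₁ := by
      rw [tG_zero, one_mul]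
      exact h3
    exact ((tG_dG_inj hF h4).2.2).symm
  apply RingEquiv.ext
  intro x
  by_cases hx0 : x = 0
  · rw [hx0, map_zero, map_zero]
  · have := congrArg Units.val (key (Units.mk0 x hx0))
    exact this

include hF in
theorem card_ringAut : Nat.card (F ≃+* F) = 2 * m + 1 := by
  let _ : Algebra (ZMod 2) F := ZMod.algebra F 2
  have hb := FiniteField.bijective_frobeniusAlgEquivOfAlgebraic_pow (ZMod 2) F
  have h1 : Nat.card (F ≃ₐ[ZMod 2] F) = 2 * m + 1 := by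
    rw [← Nat.card_congr (Equiv.ofBijective _ hb), Nat.card_eq_fintype_card, Fintype.card_fin]
    have h := Module.card_eq_pow_finrank (K := ZMod 2) (V := F)
    rw [hF, ZMod.card] at h
    exact (Nat.pow_right_injective (le_refl 2) h).symm
  rw [← h1]
  apply Nat.card_congr
  exact
    { toFun := fun ψ => AlgEquiv.ofRingEquiv (f := ψ) (fun x =>
        RingHom.congr_fun (Subsingleton.elim ((ψ : F →+* F).comp (algebraMap (ZMod 2) F))
          (algebraMap (ZMod 2) F)) x)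
      invFun := fun e => e.toRingEquiv
      left_inv := fun ψ => by ext x; rfl
      right_inv := fun e => by ext x; rfl }

include hF in
/-- the outer automorphism group of the Suzuki group (ovoid model) has order `2m+1` -/
theorem card_out_ovoid (hm : 1 ≤ m) :
    Nat.card (Cfsg.Out ↥(Cfsg.Sz F m)) = 2 * m + 1 := by
  rw [← card_ringAut hF]
  symm
  apply Nat.card_congr
  refine Equiv.ofBijective (fun ψ : F ≃+* F => (QuotientGroup.mk (fieldAut hm hF ψ) :
    Cfsg.Out ↥(Cfsg.Sz F m))) ⟨?_, ?_⟩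
  · intro ψ₁ ψ₂ h
    rw [QuotientGroup.eq] at h
    obtain ⟨g, hg⟩ := h
    apply fieldAut_inj hF hm ψ₁ ψ₂ g
    rw [hg, mul_inv_cancel_left]
  · intro x
    induction x using QuotientGroup.induction_on with
    | H α =>
      obtain ⟨g, ψ, hα⟩ := aut_decomp hF hm α
      refine ⟨ψ, ?_⟩
      show (QuotientGroup.mk (fieldAut hm hF ψ) : Cfsg.Out ↥(Cfsg.Sz F m)) = QuotientGroup.mk α
      have hinn : (MulAut.conj g : MulAut ↥(Cfsg.Sz F m)) ∈ Cfsg.Inn ↥(Cfsg.Sz F m) := ⟨g, rfl⟩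
      rw [hα, QuotientGroup.mk_mul, (QuotientGroup.eq_one_iff _).2 hinn, one_mul]

end SzAut

/-- the order of the outer automorphism group is an isomorphism invariant -/
theorem card_out_congr {G H : Type*} [Group G] [Group H] (e : G ≃* H) :
    Nat.card (Cfsg.Out G) = Nat.card (Cfsg.Out H) := by
  have hmap : (Cfsg.Inn G).map (MulAut.congr e).toMonoidHom = Cfsg.Inn H := by
    ext β
    constructor
    · rintro ⟨_, ⟨g, rfl⟩, rfl⟩
      refine ⟨e g, ?_⟩
      ext x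
      simp [MulAut.congr, MulAut.conj_apply]
    · rintro ⟨h, rfl⟩
      refine ⟨MulAut.conj (e.symm h), ⟨e.symm h, rfl⟩, ?_⟩
      ext x
      simp [MulAut.congr, MulAut.conj_apply]
  exact Nat.card_congr (QuotientGroup.congr _ _ (MulAut.congr e) hmap).toEquiv

end Cfsg.Agent.Helper60
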