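import Mathlib
import Cfsg.Prelude.Def_LieExceptional
import Cfsg.Agent.Helper60.SzAut

set_option autoImplicit false
set_option linter.unusedSimpArgs false
set_option linter.unusedVariables false
set_option linter.unusedSectionVars false

namespace Cfsg.Agent.Helper60

open Matrix Cfsg.Agent.Helper6

section SzSub
variable {F : Type*} [Field F] [Fintype F] [CharP F 2] {m : ℕ}
variable {K : Type*} [Field K] [Fintype K] [CharP K 2] {k : ℕ}
variable (hF : Fintype.card F = 2 ^ (2 * m + 1)) (hK : Fintype.card K = 2 ^ (2 * k + 1))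

/-! ### the embedding induced by a field embedding -/

include hK in
omit [Fintype F] in
/-- compatibility of the Tits endomorphisms with a field embedding -/
theorem szS_emb (hdiv : 2 * k + 1 ∣ 2 * m + 1) (ψ : K →+* F) (x : K) :
    szS F m (ψ x) = ψ (szS K k x) := by
  rw [szS_apply, szS_apply, ← map_pow]
  congr 1
  obtain ⟨d, hd⟩ := hdiv
  have hdodd : d % 2 = 1 := by
    by_contra h
    have h0 : d % 2 = 0 := by omega
    obtain ⟨e, rfl⟩ := Nat.dvd_of_mod_eq_zero h0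
    have : 2 * m + 1 = 2 * ((2 * k + 1) * e) := by rw [hd]; ring
    omega
  obtain ⟨j, hj⟩ : ∃ j, d = 2 * j + 1 := ⟨d / 2, by omega⟩
  have hm1 : m + 1 = j * (2 * k + 1) + (k + 1) := by
    have : 2 * m + 1 = 2 * (j * (2 * k + 1) + k) + 1 := by rw [hd, hj]; ring
    omega
  rw [hm1, pow_add, pow_mul, pow_mul', ← hK, FiniteField.pow_card_pow]

include hK in
omit [Fintype F] in
theorem slemb_T (hdiv : 2 * k + 1 ∣ 2 * m + 1) (ψ : K →+* F) (a b : K) :
    SpecialLinearGroup.map ψ (szT k a b) = szT m (ψ a) (ψ b) := by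
  apply Subtype.ext
  ext i j
  simp only [SpecialLinearGroup.map_apply_coe, RingHom.mapMatrix_apply, Matrix.map_apply]
  show ψ (szTm k a b i j) = szTm m (ψ a) (ψ b) i j
  fin_cases i <;> fin_cases j <;> simp [szTm, szf, szS_emb hK hdiv]

include hK in
omit [Fintype F] in
theorem slemb_D (hdiv : 2 * k + 1 ∣ 2 * m + 1) (ψ : K →+* F) (t : Kˣ) :
    SpecialLinearGroup.map ψ (szD k t) = szD m (Units.map (ψ : K →* F) t) := by
  apply Subtype.ext
  ext i j
  simp only [SpecialLinearGroup.map_apply_coe, RingHom.mapMatrix_apply, Matrix.map_apply]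
  show ψ (szDm k t i j) = szDm m (Units.map (ψ : K →* F) t) i j
  fin_cases i <;> fin_cases j <;> simp [szDm, szS_emb hK hdiv, Matrix.diagonal]

omit [Fintype F] [Fintype K] in
theorem slemb_W (ψ : K →+* F) : SpecialLinearGroup.map ψ (szW K) = szW F := by
  apply Subtype.ext
  ext i j
  simp only [SpecialLinearGroup.map_apply_coe, RingHom.mapMatrix_apply, Matrix.map_apply]
  show ψ (szWm K i j) = szWm F i j
  fin_cases i <;> fin_cases j <;> simp [szWm]

include hF hK in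
theorem slemb_mem (hk : 1 ≤ k) (hdiv : 2 * k + 1 ∣ 2 * m + 1) (ψ : K →+* F)
    {g : SpecialLinearGroup (Fin 4) K} (hg : g ∈ Cfsg.Sz K k) :
    SpecialLinearGroup.map ψ g ∈ Cfsg.Sz F m := by
  have hB : ∀ b ∈ Cfsg.Sz K k,
      b • Cfsg.suzukiPointInfinity K = Cfsg.suzukiPointInfinity K →
      SpecialLinearGroup.map ψ b ∈ Cfsg.Sz F m := by
    intro b hb hinf
    obtain ⟨x, y, t, rfl⟩ := sz_fix_inf hk hK hb hinf
    rw [map_mul, slemb_T hK hdiv, slemb_D hK hdiv]
    exact mul_mem (szT_mem hF _ _) (szD_mem hF _)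
  rcases sz_cases hK hg with h1 | ⟨a, b, c, hc, hcinf, rfl⟩
  · exact hB g hg h1
  · rw [map_mul, map_mul, slemb_T hK hdiv, slemb_W]
    exact mul_mem (mul_mem (szT_mem hF _ _) (szW_mem hF)) (hB c hc hcinf)

/-- the embedding of Suzuki groups induced by a field embedding -/
noncomputable def szEmb (hk : 1 ≤ k) (hdiv : 2 * k + 1 ∣ 2 * m + 1) (ψ : K →+* F) :
    ↥(Cfsg.Sz K k) →* ↥(Cfsg.Sz F m) where
  toFun g := ⟨SpecialLinearGroup.map ψ g, slemb_mem hF hK hk hdiv ψ g.2⟩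
  map_one' := Subtype.ext (map_one _)
  map_mul' g h := Subtype.ext (map_mul _ _ _)

theorem szEmb_injective (hk : 1 ≤ k) (hdiv : 2 * k + 1 ∣ 2 * m + 1) (ψ : K →+* F) :
    Function.Injective (szEmb hF hK hk hdiv ψ) := by
  intro g h e
  have e1 : SpecialLinearGroup.map ψ (g : SpecialLinearGroup (Fin 4) K) =
      SpecialLinearGroup.map ψ (h : SpecialLinearGroup (Fin 4) K) := congrArg Subtype.val e
  apply Subtype.ext
  apply Subtype.ext
  ext i j
  have e2 := congrArg (fun M : SpecialLinearGroup (Fin 4) F => M i j) e1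
  simp only [SpecialLinearGroup.map_apply_coe, RingHom.mapMatrix_apply, Matrix.map_apply] at e2
  exact ψ.injective e2

theorem szEmb_tG (hk : 1 ≤ k) (hdiv : 2 * k + 1 ∣ 2 * m + 1) (ψ : K →+* F) (a b : K) :
    szEmb hF hK hk hdiv ψ (tG hK a b) = tG hF (ψ a) (ψ b) :=
  Subtype.ext (slemb_T hK hdiv ψ a b)

theorem szEmb_dG (hk : 1 ≤ k) (hdiv : 2 * k + 1 ∣ 2 * m + 1) (ψ : K →+* F) (t : Kˣ) :
    szEmb hF hK hk hdiv ψ (dG hK t) = dG hF (Units.map (ψ : K →* F) t) :=
  Subtype.ext (slemb_D hK hdiv ψ t)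

theorem szEmb_wG (hk : 1 ≤ k) (hdiv : 2 * k + 1 ∣ 2 * m + 1) (ψ : K →+* F) :
    szEmb hF hK hk hdiv ψ (wG hK) = wG hF :=
  Subtype.ext (slemb_W ψ)

/-! ### the standard subfield subgroup -/

/-- generators of the subfield subgroup: coordinates fixed by `x ↦ x ^ s` -/
def subGens (s : ℕ) : Set ↥(Cfsg.Sz F m) :=
  {g | (∃ a b : F, a ^ s = a ∧ b ^ s = b ∧ g = tG hF a b) ∨
    (∃ t : Fˣ, (t : F) ^ s = t ∧ g = dG hF t) ∨ g = wG hF}

/-- the standard subfield subgroup -/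
def stdSub (s : ℕ) : Subgroup ↥(Cfsg.Sz F m) := Subgroup.closure (subGens hF s)

omit [CharP F 2] [CharP K 2] in
/-- the fixed points of `x ↦ x ^ |K|` are the image of `K` -/
theorem mem_range_of_pow_eq (ψ : K →+* F) {a : F} (ha : a ^ Fintype.card K = a) :
    ∃ x : K, ψ x = a := by
  classical
  have hq : 1 < Fintype.card K := Fintype.one_lt_card
  set p : Polynomial F := Polynomial.X ^ Fintype.card K - Polynomial.X with hp
  have hp0 : p ≠ 0 := FiniteField.X_pow_card_sub_X_ne_zero F hq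
  have hdeg : p.natDegree = Fintype.card K := FiniteField.X_pow_card_sub_X_natDegree_eq F hq
  have hroot : ∀ y : F, y ^ Fintype.card K = y → y ∈ p.roots.toFinset := by
    intro y hy
    rw [Multiset.mem_toFinset, Polynomial.mem_roots hp0, Polynomial.IsRoot, hp]
    simp [hy]
  have hsub : Finset.univ.image ψ ⊆ p.roots.toFinset := by
    intro y hy
    obtain ⟨x, -, rfl⟩ := Finset.mem_image.1 hy
    apply hroot
    rw [← map_pow, FiniteField.pow_card]
  have hcard : p.roots.toFinset.card ≤ (Finset.univ.image ψ).card := by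
    rw [Finset.card_image_of_injective _ ψ.injective, Finset.card_univ]
    calc p.roots.toFinset.card ≤ Multiset.card p.roots := Multiset.toFinset_card_le _
      _ ≤ p.natDegree := Polynomial.card_roots' p
      _ = Fintype.card K := hdeg
  have heq := Finset.eq_of_subset_of_card_le hsub hcard
  have hmem := hroot a ha
  rw [← heq] at hmem
  obtain ⟨x, -, hx⟩ := Finset.mem_image.1 hmem
  exact ⟨x, hx⟩

/-- a homomorphism acting on the generators through a field embedding has the standard subfield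
subgroup as its range -/
theorem range_eq_stdSub (hk : 1 ≤ k) (ψ : K →+* F) (α : ↥(Cfsg.Sz K k) →* ↥(Cfsg.Sz F m))
    (hT : ∀ a b : K, α (tG hK a b) = tG hF (ψ a) (ψ b))
    (hD : ∀ t : Kˣ, α (dG hK t) = dG hF (Units.map (ψ : K →* F) t))
    (hW : α (wG hK) = wG hF) : α.range = stdSub hF (2 ^ (2 * k + 1)) := by
  have htop : Subgroup.closure (subGens hK (2 ^ (2 * k + 1))) = ⊤ := by
    apply eq_top_of_D_T_W hK hk (x₀ := 1) (y₀ := 0) _ one_ne_zero
    · apply Subgroup.subset_closure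
      left
      exact ⟨1, 0, by simp, by simp, rfl⟩
    · apply Subgroup.subset_closure
      right; right
      rfl
    · intro t
      apply Subgroup.subset_closure
      right; left
      exact ⟨t, by rw [← hK, FiniteField.pow_card], rfl⟩
  rw [MonoidHom.range_eq_map, ← htop, MonoidHom.map_closure]
  unfold stdSub
  congr 1
  ext g
  constructor
  · rintro ⟨x, hx, rfl⟩
    rcases hx with ⟨a, b, ha, hb, rfl⟩ | ⟨t, ht, rfl⟩ | rfl
    · left
      exact ⟨ψ a, ψ b, by rw [← map_pow, ha], by rw [← map_pow, hb], hT a b⟩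
    · right; left
      refine ⟨Units.map (ψ : K →* F) t, ?_, hD t⟩
      show ψ (t : K) ^ 2 ^ (2 * k + 1) = ψ (t : K)
      rw [← map_pow, ht]
    · right; right
      exact hW
  · intro hg
    rcases hg with ⟨a, b, ha, hb, rfl⟩ | ⟨t, ht, rfl⟩ | rfl
    · rw [← hK] at ha hb
      obtain ⟨x, rfl⟩ := mem_range_of_pow_eq ψ ha
      obtain ⟨y, rfl⟩ := mem_range_of_pow_eq ψ hb
      refine ⟨tG hK x y, ?_, hT x y⟩
      left
      exact ⟨x, y, by rw [← hK, FiniteField.pow_card], by rw [← hK, FiniteField.pow_card], rfl⟩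
    · rw [← hK] at ht
      obtain ⟨x, hx⟩ := mem_range_of_pow_eq ψ ht
      have hx0 : x ≠ 0 := by
        rintro rfl
        rw [map_zero] at hx
        exact t.ne_zero hx.symm
      refine ⟨dG hK (Units.mk0 x hx0), ?_, ?_⟩
      · right; left
        exact ⟨_, by rw [← hK, FiniteField.pow_card], rfl⟩
      · rw [hD]
        congr 1
        apply Units.ext
        exact hx
    · exact ⟨wG hK, Or.inr (Or.inr rfl), hW⟩

/-! ### normalising an embedding -/

include hF in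
theorem tG_pow_four' (a b : F) : tG hF a b ^ 4 = 1 := by
  have h2 : (2 : F) = 0 := sz_two
  have e4 : tG hF a b ^ 4 = (tG hF a b * tG hF a b) * (tG hF a b * tG hF a b) := by
    simp only [pow_succ, pow_zero, one_mul, mul_assoc]
  rw [e4, tG_sq, tG_mul, ← tG_zero hF]
  congr 1
  · simp
  · simp
    linear_combination (szS F m a * a) * h2

include hF in
theorem dG_pow_four_ne {t : Fˣ} (ht : t ≠ 1) : dG hF t ^ 4 ≠ 1 := by
  have h2 : (2 : F) = 0 := sz_two
  intro e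
  have e' : dG hF (t ^ 4) = dG hF 1 := by
    rw [dG_one]
    exact (map_pow (dGhom hF) t 4).trans e
  have e4 := congrArg Units.val (dG_inj hF e')
  rw [Units.val_pow_eq_pow_val, Units.val_one] at e4
  apply ht
  apply Units.ext
  have e6 : ((t : F) - 1) ^ 4 = 0 := by
    linear_combination e4 + (-2 * (t : F) ^ 3 + 3 * (t : F) ^ 2 - 2 * (t : F) + 1) * h2
  rw [Units.val_one]
  exact sub_eq_zero.1 ((pow_eq_zero_iff (by norm_num)).1 e6)

theorem emb_norm1 (hm : 1 ≤ m) (hk : 1 ≤ k) (α : ↥(Cfsg.Sz K k) →* ↥(Cfsg.Sz F m)) :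
    ∃ c : ↥(Cfsg.Sz F m), ∀ u ∈ Uo hK, c * α u * c⁻¹ ∈ Uo hF := by
  have hp : IsPGroup 2 ((Uo hK).map α) := by
    have h0 : IsPGroup 2 (Uo hK) := by
      rw [← coe_UoSylow hK hk]
      exact (UoSylow hK hk).isPGroup'
    exact h0.map α
  obtain ⟨Q, hQ⟩ := hp.exists_le_sylow
  obtain ⟨c, hcQ⟩ := MulAction.exists_smul_eq ↥(Cfsg.Sz F m) (UoSylow hF hm) Q
  refine ⟨c⁻¹, ?_⟩
  intro u hu
  have hgQ : α u ∈ (Q : Subgroup ↥(Cfsg.Sz F m)) := hQ ⟨u, hu, rfl⟩
  rw [← hcQ, Sylow.coe_subgroup_smul, coe_UoSylow,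
    Subgroup.mem_pointwise_smul_iff_inv_smul_mem] at hgQ
  simpa [MulAut.smul_def] using hgQ

theorem emb_norm2 (hm : 1 ≤ m) (hk : 1 ≤ k) (α : ↥(Cfsg.Sz K k) →* ↥(Cfsg.Sz F m))
    (hinj : Function.Injective α) (hU : ∀ u ∈ Uo hK, α u ∈ Uo hF) :
    ∃ c ∈ Uo hF, ∀ t : Kˣ, ∃ t' : Fˣ, c * α (dG hK t) * c⁻¹ = dG hF t' := by
  obtain ⟨t₀, ht₀⟩ := sz_exists_unit_ne_one hk hK
  have hB : ∀ t : Kˣ, α (dG hK t) ∈ Bo F m := by
    intro t
    have h1 : dG hK t * tG hK 1 0 * (dG hK t)⁻¹ ∈ Uo hK :=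
      Uo_conj_of_Bo hK hk (dG_mem_Bo hK t) (tG_mem_Uo hK 1 0)
    obtain ⟨a, b, hab⟩ := hU _ h1
    obtain ⟨a', b', hab'⟩ := hU _ (tG_mem_Uo hK 1 0)
    rw [map_mul, map_mul, map_inv, hab'] at hab
    refine Uo_TI hF ?_ hab.symm
    rintro ⟨rfl, rfl⟩
    rw [tG_zero] at hab
    have h3 : tG hF a' b' = 1 := conj_eq_one_iff.1 hab
    rw [← hab'] at h3
    have h4 : tG hK (1 : K) 0 = 1 := (map_eq_one_iff α hinj).1 h3
    exact one_ne_zero ((tG_eq_one_iff hK).1 h4).1
  obtain ⟨a, b, t₁, h1⟩ := (mem_Bo_iff hF hm).1 (hB t₀)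
  have ht₁ : t₁ ≠ 1 := by
    rintro rfl
    rw [dG_one, mul_one] at h1
    have h4 : α (dG hK t₀ ^ 4) = 1 := by rw [map_pow, h1, tG_pow_four' hF]
    exact dG_pow_four_ne hK ht₀ ((map_eq_one_iff α hinj).1 h4)
  obtain ⟨x, y, t', hconj⟩ := TD_conj_D hF hm a b ht₁
  rw [← h1] at hconj
  refine ⟨(tG hF x y)⁻¹, inv_mem (tG_mem_Uo hF x y), ?_⟩
  have ht' : t' ≠ 1 := by
    rintro rfl
    rw [dG_one] at hconj
    have h3 : α (dG hK t₀) = 1 := by
      have := conj_eq_one_iff (a := (tG hF x y)⁻¹) (b := α (dG hK t₀))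
      rw [inv_inv] at this
      exact this.1 hconj
    exact dG_ne_one hK ht₀ ((map_eq_one_iff α hinj).1 h3)
  intro t
  rw [inv_inv]
  have hc : (tG hF x y)⁻¹ * α (dG hK t) * tG hF x y * dG hF t' =
      dG hF t' * ((tG hF x y)⁻¹ * α (dG hK t) * tG hF x y) := by
    rw [← hconj]
    have e1 : (tG hF x y)⁻¹ * α (dG hK t) * tG hF x y *
        ((tG hF x y)⁻¹ * α (dG hK t₀) * tG hF x y) =
        (tG hF x y)⁻¹ * α (dG hK t * dG hK t₀) * tG hF x y := by
      rw [map_mul]; group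
    have e2 : ((tG hF x y)⁻¹ * α (dG hK t₀) * tG hF x y) *
        ((tG hF x y)⁻¹ * α (dG hK t) * tG hF x y) =
        (tG hF x y)⁻¹ * α (dG hK t₀ * dG hK t) * tG hF x y := by
      rw [map_mul]; group
    rw [e1, e2, ← dG_mul, ← dG_mul, mul_comm]
  exact ov_comm_D hF hm ht' hc

theorem emb_norm3 (hm : 1 ≤ m) (hk : 1 ≤ k) (α : ↥(Cfsg.Sz K k) →* ↥(Cfsg.Sz F m))
    (hinj : Function.Injective α)
    (hD : ∀ t : Kˣ, ∃ t' : Fˣ, α (dG hK t) = dG hF t') :
    ∃ v : Fˣ, dG hF v * α (wG hK) * (dG hF v)⁻¹ = wG hF := by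
  obtain ⟨t₀, ht₀⟩ := sz_exists_unit_ne_one hk hK
  obtain ⟨t₁, h1⟩ := hD t₀
  have ht₁ : t₁ ≠ 1 := by
    rintro rfl
    rw [dG_one] at h1
    exact dG_ne_one hK ht₀ ((map_eq_one_iff α hinj).1 h1)
  have hw'2 : α (wG hK) * α (wG hK) = 1 := by rw [← map_mul, wG_mul_self, map_one]
  have hrel : α (wG hK) * dG hF t₁ * α (wG hK) = dG hF t₁⁻¹ := by
    rw [← h1, ← map_mul, ← map_mul, wG_dG_wG, ← dG_inv, map_inv, h1, dG_inv]
  have hrel' : α (wG hK) * dG hF t₁ = dG hF t₁⁻¹ * α (wG hK) := by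
    rw [← hrel, mul_assoc (α (wG hK) * dG hF t₁), hw'2, mul_one]
  have hcomm : (wG hF * α (wG hK)) * dG hF t₁ = dG hF t₁ * (wG hF * α (wG hK)) := by
    rw [mul_assoc, hrel', ← mul_assoc, wG_mul_dG, inv_inv, mul_assoc]
  obtain ⟨s, hs⟩ := ov_comm_D hF hm ht₁ hcomm
  have hw'eq : α (wG hK) = wG hF * dG hF s := by
    rw [← hs, ← mul_assoc, wG_mul_self, one_mul]
  obtain ⟨v, hv⟩ := ov_sq_surj (s : F)
  have hv0 : v ≠ 0 := by
    rintro rfl
    rw [zero_pow two_ne_zero] at hv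
    exact s.ne_zero hv.symm
  refine ⟨Units.mk0 v hv0, ?_⟩
  rw [hw'eq, ← mul_assoc, dG_mul_wG, dG_inv, mul_assoc, mul_assoc, ← dG_mul, ← dG_mul]
  have e : (Units.mk0 v hv0)⁻¹ * (s * (Units.mk0 v hv0)⁻¹) = 1 := by
    apply Units.ext
    simp only [Units.val_mul, Units.val_inv_eq_inv_val, Units.val_mk0, Units.val_one]
    rw [← hv]
    field_simp
  rw [e, dG_one, mul_one]

theorem emb_norm4 (hm : 1 ≤ m) (hk : 1 ≤ k) (hdiv : 2 * k + 1 ∣ 2 * m + 1)
    (α : ↥(Cfsg.Sz K k) →* ↥(Cfsg.Sz F m)) (hinj : Function.Injective α)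
    (hU : ∀ u ∈ Uo hK, α u ∈ Uo hF)
    (hD : ∀ t : Kˣ, ∃ t' : Fˣ, α (dG hK t) = dG hF t')
    (hW : α (wG hK) = wG hF) :
    ∃ ψ : K →+* F, (∀ a b : K, α (tG hK a b) = tG hF (ψ a) (ψ b)) ∧
      (∀ t : Kˣ, α (dG hK t) = dG hF (Units.map (ψ : K →* F) t)) := by
  classical
  have h2 : (2 : F) = 0 := sz_two
  have hUc : ∀ a b : K, ∃ a' b' : F, α (tG hK a b) = tG hF a' b' :=
    fun a b => hU _ (tG_mem_Uo hK a b)
  choose A B hAB using hUc
  choose φ hφ using hD
  have hA0 : ∀ b, A 0 b = 0 := by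
    intro b
    apply tG_involution hF (b := B 0 b)
    rw [← hAB, ← map_mul, tG_sq, map_zero, zero_mul, tG_zero, map_one]
  have hβ' : ∀ b, α (tG hK 0 b) = tG hF 0 (B 0 b) := by
    intro b
    rw [hAB, hA0]
  have hβadd : ∀ b b', B 0 (b + b') = B 0 b + B 0 b' := by
    intro b b'
    have e : tG hK 0 b * tG hK 0 b' = tG hK 0 (b + b') := by
      rw [tG_mul]
      congr 1 <;> simp
    have e' := congrArg α e
    rw [map_mul, hβ', hβ', hβ', tG_mul] at e'
    have e'' := (tG_inj hF e').2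
    simp only [map_zero, zero_mul, add_zero] at e''
    exact e''.symm
  have hβ0 : B 0 0 = 0 := by
    have e := hβ' 0
    rw [tG_zero, map_one, ← tG_zero hF] at e
    exact ((tG_inj hF e).2).symm
  have hβinj : ∀ b, B 0 b = 0 → b = 0 := by
    intro b hb
    have e := hβ' b
    rw [hb, tG_zero] at e
    exact ((tG_eq_one_iff hK).1 ((map_eq_one_iff α hinj).1 e)).2
  have hβD : ∀ (t : Kˣ) (b : K), B 0 (szS K k t ^ 2 * (t : K) ^ 2 * b) =
      szS F m (φ t) ^ 2 * ((φ t : Fˣ) : F) ^ 2 * B 0 b := by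
    intro t b
    have e := dG_conj_tG hK t 0 b
    rw [mul_zero] at e
    have e' := congrArg α e
    rw [map_mul, map_mul, map_inv, hφ, hβ', hβ', dG_conj_tG, mul_zero] at e'
    exact ((tG_inj hF e').2).symm
  have hc : B 0 1 ≠ 0 := fun h => one_ne_zero (hβinj 1 h)
  have hψν : ∀ t : Kˣ, B 0 (szS K k t ^ 2 * (t : K) ^ 2) / B 0 1 =
      szS F m (φ t) ^ 2 * ((φ t : Fˣ) : F) ^ 2 := by
    intro t
    have e := hβD t 1
    rw [mul_one] at e
    rw [e]
    field_simp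
  have hψmul : ∀ s b : K, B 0 (s * b) / B 0 1 = B 0 s / B 0 1 * (B 0 b / B 0 1) := by
    intro s b
    by_cases hs : s = 0
    · subst hs
      rw [zero_mul, hβ0, zero_div, zero_mul]
    · obtain ⟨t, ht⟩ := ov_mu_surj hK hs
      rw [← ht, hβD, hψν]
      field_simp
  let ψ : K →+* F :=
    { toFun := fun s => B 0 s / B 0 1
      map_one' := div_self hc
      map_mul' := hψmul
      map_zero' := by rw [hβ0, zero_div]
      map_add' := by
        intro x y
        rw [hβadd, add_div] }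
  have hψapp : ∀ s, ψ s = B 0 s / B 0 1 := fun s => rfl
  have hφψ : ∀ t : Kˣ, ((φ t : Fˣ) : F) = ψ t := by
    intro t
    apply nu_inj hF (φ t).ne_zero ((map_ne_zero ψ).2 t.ne_zero)
    have e : szS F m (ψ t) ^ 2 * (ψ t) ^ 2 = ψ (szS K k t ^ 2 * (t : K) ^ 2) := by
      rw [szS_emb hK hdiv, map_mul, map_pow, map_pow]
    rw [e, ← hψν, hψapp]
  have hsplit : ∀ a b, α (tG hK a b) = tG hF (A a 0) (B a 0 + B 0 b) := by
    intro a b
    have e : tG hK a b = tG hK a 0 * tG hK 0 b := by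
      rw [tG_mul]
      congr 1 <;> simp
    rw [e, map_mul, hAB a 0, hβ', tG_mul]
    congr 1 <;> simp
  have hA1D : ∀ (t : Kˣ) (a : K), A ((t : K) ^ 2 * a) 0 = ((φ t : Fˣ) : F) ^ 2 * A a 0 := by
    intro t a
    have e := dG_conj_tG hK t a 0
    rw [mul_zero] at e
    have e' := congrArg α e
    rw [map_mul, map_mul, map_inv, hφ, hAB a 0, hAB _ 0, dG_conj_tG] at e'
    exact ((tG_inj hF e').1).symm
  have hA00 : A 0 0 = 0 := hA0 0
  have hA1 : ∀ s, A s 0 = ψ s * A 1 0 := by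
    intro s
    by_cases hs : s = 0
    · subst hs
      rw [hA00, map_zero, zero_mul]
    · obtain ⟨v, hv⟩ := ov_sq_surj s
      have hv0 : v ≠ 0 := by
        rintro rfl
        rw [zero_pow two_ne_zero] at hv
        exact hs hv.symm
      have e := hA1D (Units.mk0 v hv0) 1
      rw [mul_one, Units.val_mk0, hv, hφψ, Units.val_mk0, ← map_pow, hv] at e
      exact e
  have hsq : szS F m (A 1 0) * A 1 0 = B 0 1 := by
    have e := congrArg α (tG_sq hK 1 0)
    rw [map_mul, hAB 1 0, tG_sq, map_one, one_mul, hβ'] at e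
    exact (tG_inj hF e).2
  have he0 : A 1 0 ≠ 0 := by
    intro h
    rw [h, mul_zero] at hsq
    exact hc hsq.symm
  have hBo : ∀ h ∈ Bo K k, α h ∈ Bo F m := by
    intro h hh
    obtain ⟨a, b, t, rfl⟩ := (mem_Bo_iff hK hk).1 hh
    rw [map_mul, hAB, hφ]
    exact mul_mem (tG_mem_Bo hF _ _) (dG_mem_Bo hF _)
  have hrel : ∀ y : K, y ≠ 0 → A (y / szS K k y) 0 = B 0 y / szS F m (B 0 y) ∧
      B (y / szS K k y) 0 = 0 := by
    intro y hy
    obtain ⟨h, hh, e⟩ := bruhat_rel hK hy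
    have e' := congrArg α e
    rw [map_mul, map_mul, map_mul, map_mul, hW, hβ', hAB _ 0] at e'
    exact bruhat_unique hF (fun h0 => hy (hβinj y h0)) (hBo h hh) e'
  have he1 : A 1 0 = 1 := by
    have e := (hrel 1 one_ne_zero).1
    rw [map_one, div_one] at e
    have hsc : szS F m (B 0 1) ≠ 0 := by simpa using hc
    have hse : szS F m (A 1 0) ≠ 0 := by simpa using he0
    have e3 : A 1 0 * szS F m (B 0 1) = B 0 1 := by
      rw [e]
      field_simp
    rw [← hsq, map_mul, szS_szS hF] at e3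
    have e4 : (A 1 0 ^ 2 - 1) * (szS F m (A 1 0) * A 1 0) = 0 := by linear_combination e3
    rcases mul_eq_zero.1 e4 with h | h
    · have e5 : (A 1 0 - 1) ^ 2 = 0 := by linear_combination h + (1 - A 1 0) * h2
      exact sub_eq_zero.1 ((pow_eq_zero_iff two_ne_zero).1 e5)
    · exact absurd h (mul_ne_zero hse he0)
  have hc1 : B 0 1 = 1 := by
    rw [← hsq, he1, map_one, one_mul]
  have hB1 : ∀ z, B z 0 = 0 := by
    intro z
    by_cases hz : z = 0
    · subst hz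
      exact hβ0
    · obtain ⟨y, hy, hyz⟩ := sigma_div_surj hK hz
      rw [← hyz]
      exact (hrel y hy).2
  refine ⟨ψ, ?_, ?_⟩
  · intro a b
    rw [hsplit, hA1, he1, mul_one, hB1, zero_add, hψapp b, hc1, div_one]
  · intro t
    rw [hφ]
    congr 1
    apply Units.ext
    rw [hφψ]
    rfl

include hK in
/-- every injective homomorphism between Suzuki groups is, up to conjugacy, induced by a field
embedding; in particular its range is conjugate to the standard subfield subgroup -/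
theorem emb_range (hm : 1 ≤ m) (hk : 1 ≤ k) (hdiv : 2 * k + 1 ∣ 2 * m + 1)
    (α : ↥(Cfsg.Sz K k) →* ↥(Cfsg.Sz F m)) (hinj : Function.Injective α) :
    ∃ c : ↥(Cfsg.Sz F m), (α.range).map (MulAut.conj c).toMonoidHom =
      stdSub hF (2 ^ (2 * k + 1)) := by
  obtain ⟨c₁, h1⟩ := emb_norm1 hF hK hm hk α
  have hinj1 : Function.Injective ((MulAut.conj c₁).toMonoidHom.comp α) :=
    (MulAut.conj c₁).injective.comp hinj
  have hU1 : ∀ u ∈ Uo hK, ((MulAut.conj c₁).toMonoidHom.comp α) u ∈ Uo hF := fun u hu => h1 u hu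
  obtain ⟨c₂, hc₂, h2⟩ := emb_norm2 hF hK hm hk _ hinj1 hU1
  have hinj2 : Function.Injective
      ((MulAut.conj c₂).toMonoidHom.comp ((MulAut.conj c₁).toMonoidHom.comp α)) :=
    (MulAut.conj c₂).injective.comp hinj1
  have hU2 : ∀ u ∈ Uo hK,
      ((MulAut.conj c₂).toMonoidHom.comp ((MulAut.conj c₁).toMonoidHom.comp α)) u ∈ Uo hF :=
    fun u hu => mul_mem (mul_mem hc₂ (hU1 u hu)) (inv_mem hc₂)
  have hD2 : ∀ t : Kˣ, ∃ t' : Fˣ,
      ((MulAut.conj c₂).toMonoidHom.comp ((MulAut.conj c₁).toMonoidHom.comp α)) (dG hK t) =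
        dG hF t' := h2
  obtain ⟨v, h3⟩ := emb_norm3 hF hK hm hk _ hinj2 hD2
  have hinj3 : Function.Injective ((MulAut.conj (dG hF v)).toMonoidHom.comp
      ((MulAut.conj c₂).toMonoidHom.comp ((MulAut.conj c₁).toMonoidHom.comp α))) :=
    (MulAut.conj (dG hF v)).injective.comp hinj2
  have hU3 : ∀ u ∈ Uo hK, ((MulAut.conj (dG hF v)).toMonoidHom.comp
      ((MulAut.conj c₂).toMonoidHom.comp ((MulAut.conj c₁).toMonoidHom.comp α))) u ∈ Uo hF :=
    fun u hu => Uo_conj_of_Bo hF hm (dG_mem_Bo hF v) (hU2 u hu)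
  have hD3 : ∀ t : Kˣ, ∃ t' : Fˣ, ((MulAut.conj (dG hF v)).toMonoidHom.comp
      ((MulAut.conj c₂).toMonoidHom.comp ((MulAut.conj c₁).toMonoidHom.comp α))) (dG hK t) =
        dG hF t' := by
    intro t
    obtain ⟨t', ht'⟩ := hD2 t
    refine ⟨t', ?_⟩
    show dG hF v * ((MulAut.conj c₂).toMonoidHom.comp ((MulAut.conj c₁).toMonoidHom.comp α))
      (dG hK t) * (dG hF v)⁻¹ = dG hF t'
    rw [ht', ← dG_mul, mul_comm, dG_mul, mul_inv_cancel_right]
  obtain ⟨ψ, hT, hD⟩ := emb_norm4 hF hK hm hk hdiv _ hinj3 hU3 hD3 h3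
  have hr := range_eq_stdSub hF hK hk ψ _ hT hD h3
  refine ⟨dG hF v * c₂ * c₁, ?_⟩
  have hcomp : (MulAut.conj (dG hF v)).toMonoidHom.comp
      ((MulAut.conj c₂).toMonoidHom.comp ((MulAut.conj c₁).toMonoidHom.comp α)) =
      (MulAut.conj (dG hF v * c₂ * c₁)).toMonoidHom.comp α := by
    apply MonoidHom.ext
    intro x
    show dG hF v * (c₂ * (c₁ * α x * c₁⁻¹) * c₂⁻¹) * (dG hF v)⁻¹ =
      (dG hF v * c₂ * c₁) * α x * (dG hF v * c₂ * c₁)⁻¹
    group
  rw [← hr, hcomp, MonoidHom.range_eq_map, MonoidHom.range_eq_map, Subgroup.map_map]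

include hK in
/-- a subgroup isomorphic to a smaller Suzuki group is conjugate to the standard one -/
theorem sub_conj_std (hm : 1 ≤ m) (hk : 1 ≤ k) (hdiv : 2 * k + 1 ∣ 2 * m + 1)
    (S : Subgroup ↥(Cfsg.Sz F m)) (hS : Nonempty (↥S ≃* ↥(Cfsg.Sz K k))) :
    ∃ c : ↥(Cfsg.Sz F m), S.map (MulAut.conj c).toMonoidHom = stdSub hF (2 ^ (2 * k + 1)) := by
  obtain ⟨ι⟩ := hS
  have hinj : Function.Injective (S.subtype.comp ι.symm.toMonoidHom) :=
    Subtype.val_injective.comp ι.symm.injective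
  obtain ⟨c, hc⟩ := emb_range hF hK hm hk hdiv _ hinj
  refine ⟨c, ?_⟩
  rw [← hc]
  congr 1
  rw [MonoidHom.range_comp]
  have : ι.symm.toMonoidHom.range = ⊤ := MonoidHom.range_eq_top.2 ι.symm.surjective
  rw [this, ← MonoidHom.range_eq_map, Subgroup.range_subtype]

include hF hK in
/-- a field embedding exists when the degrees divide -/
theorem exists_field_emb (hdiv : 2 * k + 1 ∣ 2 * m + 1) : Nonempty (K →+* F) := by
  let _ : Algebra (ZMod 2) F := ZMod.algebra F 2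
  let _ : Algebra (ZMod 2) K := ZMod.algebra K 2
  have h1 : Module.finrank (ZMod 2) F = 2 * m + 1 := by
    have := FiniteField.pow_finrank_eq_card 2 F
    rw [hF] at this
    exact Nat.pow_right_injective (le_refl 2) this
  have h2 : Module.finrank (ZMod 2) K = 2 * k + 1 := by
    have := FiniteField.pow_finrank_eq_card 2 K
    rw [hK] at this
    exact Nat.pow_right_injective (le_refl 2) this
  obtain ⟨f⟩ := FiniteField.nonempty_algHom_of_finrank_dvd (F := ZMod 2) (K := K)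
    (L := F) (by rw [h1, h2]; exact hdiv)
  exact ⟨(f : K →+* F)⟩

end SzSub

end Cfsg.Agent.Helper60
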