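import Mathlib
import Cfsg.Prelude.Def_LieExceptional
import Cfsg.Agent.Helper6.SzPart
import Cfsg.Agent.Helper60.SzSub

set_option autoImplicit false
set_option linter.unusedSectionVars false
set_option linter.unusedVariables false

namespace Cfsg.Agent.Helper60

open Matrix Cfsg.Agent.Helper6
open scoped Pointwise

theorem comm_conj_iff {G : Type*} [Group G] (c a b : G) :
    (c * a * c⁻¹) * (c * b * c⁻¹) = (c * b * c⁻¹) * (c * a * c⁻¹) ↔ a * b = b * a := by
  constructor
  · intro h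
    have e : a * b = c⁻¹ * ((c * a * c⁻¹) * (c * b * c⁻¹)) * c := by group
    rw [e, h]; group
  · intro h
    have e : (c * a * c⁻¹) * (c * b * c⁻¹) = c * (a * b) * c⁻¹ := by group
    rw [e, h]; group

section SzCent
variable {F : Type*} [Field F] [Fintype F] [CharP F 2] {m : ℕ}
variable (hF : Fintype.card F = 2 ^ (2 * m + 1))

/-- every element is fixed-point-free, or conjugate to a translation, or conjugate to a
nontrivial diagonal element -/
theorem elt_cases (hm : 1 ≤ m) (g : ↥(Cfsg.Sz F m)) :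
    g ∈ szE F m ∨ (∃ (c : ↥(Cfsg.Sz F m)) (a b : F), c * g * c⁻¹ = tG hF a b) ∨
      (∃ (c : ↥(Cfsg.Sz F m)) (t : Fˣ), t ≠ 1 ∧ c * g * c⁻¹ = dG hF t) := by
  by_cases hE : g ∈ szE F m
  · exact Or.inl hE
  · right
    have hex : ∃ p ∈ Cfsg.suzukiOvoid F m, (g : SpecialLinearGroup (Fin 4) F) • p = p := by
      by_contra h
      push Not at h
      exact hE h
    obtain ⟨p, hp, hfix⟩ := hex
    obtain ⟨h, hh, hhp⟩ := sz_exists_smul_eq_inf hF hp
    have hB : (⟨h, hh⟩ : ↥(Cfsg.Sz F m)) * g * (⟨h, hh⟩ : ↥(Cfsg.Sz F m))⁻¹ ∈ Bo F m := by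
      rw [mem_Bo]
      show (h * (g : SpecialLinearGroup (Fin 4) F) * h⁻¹) • Cfsg.suzukiPointInfinity F = _
      rw [mul_smul, mul_smul, ← hhp, inv_smul_smul, hfix]
    obtain ⟨a, b, t, e⟩ := (mem_Bo_iff hF hm).1 hB
    by_cases ht : t = 1
    · left
      refine ⟨⟨h, hh⟩, a, b, ?_⟩
      rw [e, ht, dG_one, mul_one]
    · right
      obtain ⟨x, y, t', e'⟩ := TD_conj_D hF hm a b ht
      refine ⟨(tG hF x y)⁻¹ * ⟨h, hh⟩, t', ?_, ?_⟩
      · rintro rfl
        rw [dG_one] at e'
        have h1 : tG hF a b * dG hF t = 1 := by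
          have := conj_eq_one_iff (a := (tG hF x y)⁻¹) (b := tG hF a b * dG hF t)
          rw [inv_inv] at this
          exact this.1 e'
        have h2 : tG hF a b * dG hF t = tG hF 0 0 * dG hF 1 := by
          rw [h1, tG_zero, dG_one, mul_one]
        exact ht (tG_dG_inj hF h2).2.2
      · rw [← e', ← e]; group

/-- elements conjugating a nontrivial diagonal element to a diagonal element are monomial -/
theorem norm_D (hm : 1 ≤ m) {t t' : Fˣ} (ht : t ≠ 1) {n : ↥(Cfsg.Sz F m)}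
    (e : n * dG hF t = dG hF t' * n) :
    (∃ s : Fˣ, n = dG hF s) ∨ (∃ s : Fˣ, n = wG hF * dG hF s) := by
  have ht' : t' ≠ 1 := by
    rintro rfl
    rw [dG_one, one_mul] at e
    have : dG hF t = 1 := mul_left_cancel (a := n) (by rw [e, mul_one])
    exact dG_ne_one hF ht this
  have e' : (n : SpecialLinearGroup (Fin 4) F) * szD m t = szD m t' * n := congrArg Subtype.val e
  have hn := n.2
  have fixset : ∀ p ∈ Cfsg.suzukiOvoid F m, szD m t' • p = p →
      p = Cfsg.suzukiPointInfinity F ∨ p = szP m 0 0 := by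
    intro p hp hfix
    rcases (mem_ovoid_iff p).1 hp with h | ⟨x, y, h⟩
    · left; exact h
    · right
      subst h
      by_contra hne
      apply ht'
      refine szD_fix_imp hF (x := x) (y := y) ?_ hfix
      rintro ⟨rfl, rfl⟩
      exact hne rfl
  have hc1 : szD m t' • ((n : SpecialLinearGroup (Fin 4) F) • Cfsg.suzukiPointInfinity F) =
      (n : SpecialLinearGroup (Fin 4) F) • Cfsg.suzukiPointInfinity F := by
    rw [← mul_smul, ← e', mul_smul, szD_smul_inf]
  have hc2 : szD m t' • ((n : SpecialLinearGroup (Fin 4) F) • szP m (0 : F) 0) =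
      (n : SpecialLinearGroup (Fin 4) F) • szP m (0 : F) 0 := by
    rw [← mul_smul, ← e', mul_smul, szD_smul_zero hF]
  rcases fixset _ (sz_mem_smul_mem hn inf_mem_ovoid) hc1 with h1 | h1
  · rcases fixset _ (sz_mem_smul_mem hn (szP_mem_ovoid 0 0)) hc2 with h2' | h2'
    · exfalso
      exact szP_ne_inf _ _ (smul_left_cancel _ (h2'.trans h1.symm))
    · left
      obtain ⟨s, hs⟩ := sz_fix_two hm hF hn h1 h2'
      exact ⟨s, Subtype.ext hs⟩
  · rcases fixset _ (sz_mem_smul_mem hn (szP_mem_ovoid 0 0)) hc2 with h2' | h2'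
    · right
      obtain ⟨s, hs⟩ := sz_fix_two hm hF (mul_mem (szW_mem hF) hn)
        (by rw [mul_smul, h1, szW_smul_szP_zero])
        (by rw [mul_smul, h2', szW_smul_inf])
      refine ⟨s, Subtype.ext ?_⟩
      show (n : SpecialLinearGroup (Fin 4) F) = szW F * szD m s
      rw [← hs, ← mul_assoc, szW_mul_self, one_mul]
    · exfalso
      exact szP_ne_inf _ _ (smul_left_cancel _ (h1.trans h2'.symm)).symm

/-- the structure of the centraliser of an element of odd order: a cyclic torus which is the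
centraliser of each of its non-identity elements and has index dividing four in its normaliser -/
def TorProp (m : ℕ) (g : ↥(Cfsg.Sz F m)) : Prop :=
  IsCyclic (Subgroup.centralizer ({g} : Set ↥(Cfsg.Sz F m))) ∧
  Nat.card (Subgroup.centralizer ({g} : Set ↥(Cfsg.Sz F m))) ∈
    ({2 ^ (2 * m + 1) - 1, 2 ^ (2 * m + 1) + 2 ^ (m + 1) + 1,
      2 ^ (2 * m + 1) - 2 ^ (m + 1) + 1} : Set ℕ) ∧
  (∀ h : ↥(Cfsg.Sz F m), h ≠ 1 → h * g = g * h →
    ∀ y : ↥(Cfsg.Sz F m), y * h = h * y ↔ y * g = g * y) ∧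
  (∀ n : ↥(Cfsg.Sz F m), (n * g * n⁻¹) * g = g * (n * g * n⁻¹) → n ^ 4 * g = g * n ^ 4)

theorem torProp_conj (c g : ↥(Cfsg.Sz F m)) (h : TorProp m (c * g * c⁻¹)) : TorProp m g := by
  obtain ⟨h1, h2, h3, h4⟩ := h
  have hcent := ti_cent_conj g c
  have hinj : Function.Injective (MulAut.conj c).toMonoidHom := (MulAut.conj c).injective
  let e := (Subgroup.centralizer ({g} : Set ↥(Cfsg.Sz F m))).equivMapOfInjective
    (MulAut.conj c).toMonoidHom hinj
  refine ⟨?_, ?_, ?_, ?_⟩
  · rw [hcent] at h1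
    exact isCyclic_of_surjective e.symm e.symm.surjective
  · rw [hcent, ← Nat.card_congr e.toEquiv] at h2
    exact h2
  · intro k hk hkg y
    have hk' : c * k * c⁻¹ ≠ 1 := fun h => hk (conj_eq_one_iff.1 h)
    rw [← comm_conj_iff c y k, ← comm_conj_iff c y g]
    exact h3 (c * k * c⁻¹) hk' ((comm_conj_iff c k g).2 hkg) (c * y * c⁻¹)
  · intro n hn
    have e1 : (c * n * c⁻¹) * (c * g * c⁻¹) * (c * n * c⁻¹)⁻¹ = c * (n * g * n⁻¹) * c⁻¹ := by
      group
    have h5 := h4 (c * n * c⁻¹) (by rw [e1]; exact (comm_conj_iff c _ g).2 hn)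
    rw [conj_pow] at h5
    exact (comm_conj_iff c (n ^ 4) g).1 h5

include hF in
theorem torProp_free (hm : 1 ≤ m) {g : ↥(Cfsg.Sz F m)} (hg : g ∈ szE F m) : TorProp m g := by
  have hti := szE_tiData hm hF
  obtain ⟨g₁, g₂, hg₁, hg₂, hc₁, hc₂, hN₁, hN₂, hall⟩ := sz_tori_main hm hF
  have hcardN : Nat.card (Subgroup.normalizer
        ((Subgroup.centralizer ({g} : Set ↥(Cfsg.Sz F m)) : Subgroup ↥(Cfsg.Sz F m)) :
          Set ↥(Cfsg.Sz F m))) = 4 * Nat.card (Subgroup.centralizer ({g} : Set ↥(Cfsg.Sz F m))) ∧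
      (Nat.card (Subgroup.centralizer ({g} : Set ↥(Cfsg.Sz F m))) =
          2 ^ (2 * m + 1) + 2 ^ (m + 1) + 1 ∨
        Nat.card (Subgroup.centralizer ({g} : Set ↥(Cfsg.Sz F m))) =
          2 ^ (2 * m + 1) - 2 ^ (m + 1) + 1) := by
    rcases hall g hg with h | h
    · obtain ⟨e1, e2⟩ := ti_card_eq_of_mem h
      exact ⟨by rw [e2, e1, hN₁], Or.inl (e1.trans hc₁)⟩
    · obtain ⟨e1, e2⟩ := ti_card_eq_of_mem h
      exact ⟨by rw [e2, e1, hN₂], Or.inr (e1.trans hc₂)⟩
  refine ⟨szTor_cyclic hm hF hg, ?_, ?_, ?_⟩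
  · rcases hcardN.2 with h | h <;> rw [h] <;> simp
  · intro k hk hkg y
    have hkE := hti.cent_mem g hg k hkg hk
    constructor
    · intro hy
      exact hti.cent_comm k hkE y g hy hkg.symm
    · intro hy
      exact hti.cent_comm g hg y k hy hkg
  · intro n hn
    have hgc : g ∈ Subgroup.centralizer ({g} : Set ↥(Cfsg.Sz F m)) :=
      Subgroup.mem_centralizer_singleton_iff.2 rfl
    have hg1 : g ≠ 1 := fun h => hti.one_notMem (h ▸ hg)
    have hnN := ti_mem_normalizer hti hg hgc hg1 (Subgroup.mem_centralizer_singleton_iff.2 hn)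
    obtain ⟨hcN, -⟩ := hcardN
    rw [← Subgroup.mem_centralizer_singleton_iff]
    generalize Subgroup.centralizer ({g} : Set ↥(Cfsg.Sz F m)) = C at hnN hcN ⊢
    have hle : C ≤ Subgroup.normalizer (C : Set ↥(Cfsg.Sz F m)) := Subgroup.le_normalizer
    have hidx : (C.subgroupOf (Subgroup.normalizer (C : Set ↥(Cfsg.Sz F m)))).index = 4 := by
      have h1 := Subgroup.card_mul_index (C.subgroupOf (Subgroup.normalizer (C : Set ↥(Cfsg.Sz F m))))
      have h2 : Nat.card (C.subgroupOf (Subgroup.normalizer (C : Set ↥(Cfsg.Sz F m)))) = Nat.card C :=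
        Nat.card_congr (Subgroup.subgroupOfEquivOfLe hle).toEquiv
      rw [h2, hcN] at h1
      have hpos : 0 < Nat.card C := Nat.card_pos
      exact Nat.eq_of_mul_eq_mul_left hpos (by linarith)
    have hnorm : (C.subgroupOf (Subgroup.normalizer (C : Set ↥(Cfsg.Sz F m)))).Normal :=
      Subgroup.normal_in_normalizer
    have h4 := Subgroup.pow_index_mem (C.subgroupOf (Subgroup.normalizer (C : Set ↥(Cfsg.Sz F m))))
      (⟨n, hnN⟩ : Subgroup.normalizer (C : Set ↥(Cfsg.Sz F m)))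
    rw [hidx, Subgroup.mem_subgroupOf] at h4
    exact h4

theorem torProp_D (hm : 1 ≤ m) {t : Fˣ} (ht : t ≠ 1) : TorProp m (dG hF t) := by
  have hcent : Subgroup.centralizer ({dG hF t} : Set ↥(Cfsg.Sz F m)) = (szDG hF).range := by
    ext c
    rw [Subgroup.mem_centralizer_singleton_iff]
    constructor
    · intro hc
      obtain ⟨s, hs⟩ := ov_comm_D hF hm ht hc
      exact ⟨s, hs.symm⟩
    · rintro ⟨s, rfl⟩
      show dG hF s * dG hF t = dG hF t * dG hF s
      rw [← dG_mul, ← dG_mul, mul_comm]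
  refine ⟨?_, ?_, ?_, ?_⟩
  · rw [hcent]
    exact isCyclic_of_surjective (szDG hF).rangeRestrict (szDG hF).rangeRestrict_surjective
  · rw [hcent, szDG_range_card]; simp
  · intro k hk hkt y
    obtain ⟨s, rfl⟩ := ov_comm_D hF hm ht hkt
    have hs : s ≠ 1 := by rintro rfl; exact hk (dG_one hF)
    constructor
    · intro hy
      obtain ⟨r, rfl⟩ := ov_comm_D hF hm hs hy
      rw [← dG_mul, ← dG_mul, mul_comm]
    · intro hy
      obtain ⟨r, rfl⟩ := ov_comm_D hF hm ht hy
      rw [← dG_mul, ← dG_mul, mul_comm]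
  · intro n hn
    obtain ⟨t', ht'⟩ := ov_comm_D hF hm ht hn
    have e : n * dG hF t = dG hF t' * n := by rw [← ht']; group
    rcases norm_D hF hm ht e with ⟨s, rfl⟩ | ⟨s, rfl⟩
    · have e4 : dG hF s ^ 4 = dG hF (s ^ 4) := (map_pow (dGhom hF) s 4).symm
      rw [e4, ← dG_mul, ← dG_mul, mul_comm]
    · have e2 : wG hF * dG hF s * (wG hF * dG hF s) = 1 := by
        rw [← mul_assoc, wG_dG_wG, ← dG_mul, inv_mul_cancel, dG_one]
      have e4 : (wG hF * dG hF s) ^ 4 = 1 := by
        have : (wG hF * dG hF s) ^ 4 = (wG hF * dG hF s * (wG hF * dG hF s)) *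
            (wG hF * dG hF s * (wG hF * dG hF s)) := by
          simp only [pow_succ, pow_zero, one_mul, mul_assoc]
        rw [this, e2, one_mul]
      rw [e4, one_mul, mul_one]

include hF in
/-- every element which is not a `2`-element has a torus as centraliser -/
theorem torProp_of_ne (hm : 1 ≤ m) {g : ↥(Cfsg.Sz F m)} (hg : g ^ 4 ≠ 1) : TorProp m g := by
  rcases elt_cases hF hm g with h | ⟨c, a, b, e⟩ | ⟨c, t, ht, e⟩
  · exact torProp_free hF hm h
  · exfalso
    apply hg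
    have h1 : (c * g * c⁻¹) ^ 4 = 1 := by rw [e]; exact tG_pow_four' hF a b
    rw [conj_pow] at h1
    exact conj_eq_one_iff.1 h1
  · apply torProp_conj c g
    rw [e]
    exact torProp_D hF hm ht

end SzCent

end Cfsg.Agent.Helper60
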