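import Mathlib
import Cfsg.Prelude.Def_LieExceptional
import Cfsg.Agent.Helper60.SubA
import Cfsg.Agent.Helper60.SzCent

set_option autoImplicit false
set_option linter.unusedSectionVars false
set_option linter.unusedVariables false

namespace Cfsg.Agent.Helper60

open Matrix Cfsg.Agent.Helper6
open scoped Pointwise

theorem mem_map_conj_inv {G : Type*} [Group G] (H : Subgroup G) (c k : G) :
    k ∈ H.map (MulAut.conj c⁻¹).toMonoidHom ↔ c * k * c⁻¹ ∈ H := by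
  constructor
  · rintro ⟨h, hh, rfl⟩
    have : c * (MulAut.conj c⁻¹).toMonoidHom h * c⁻¹ = h := by
      simp
      group
    rw [this]
    exact hh
  · intro hk
    refine ⟨c * k * c⁻¹, hk, ?_⟩
    simp
    group

theorem le_normalizer_conj {G : Type*} [Group G] (M H : Subgroup G) (c : G)
    (h : M.map (MulAut.conj c).toMonoidHom ≤ Subgroup.normalizer (H : Set G)) :
    M ≤ Subgroup.normalizer ((H.map (MulAut.conj c⁻¹).toMonoidHom : Subgroup G) : Set G) := by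
  rw [Subgroup.le_normalizer_iff] at h ⊢
  intro g hg k hk
  rw [mem_map_conj_inv] at hk ⊢
  have h1 : c * g * c⁻¹ ∈ M.map (MulAut.conj c).toMonoidHom := ⟨g, hg, rfl⟩
  have h2 := h _ h1 _ hk
  have e : c * (g * k * g⁻¹) * c⁻¹ = c * g * c⁻¹ * (c * k * c⁻¹) * (c * g * c⁻¹)⁻¹ := by group
  rw [e]
  exact h2

section SzSubB
variable {F : Type*} [Field F] [Fintype F] [CharP F 2] {m : ℕ}
variable (hF : Fintype.card F = 2 ^ (2 * m + 1))

/-- the conclusion of the subgroup theorem -/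
def SzConcl (F : Type*) [Field F] [Fintype F] (m : ℕ) (M : Subgroup ↥(Cfsg.Sz F m)) : Prop :=
  (∃ P : Sylow 2 ↥(Cfsg.Sz F m), M ≤ Subgroup.normalizer ((P : Subgroup ↥(Cfsg.Sz F m)) : Set ↥(Cfsg.Sz F m))) ∨
    (∃ U : Subgroup ↥(Cfsg.Sz F m), IsCyclic ↥U ∧ Nat.card ↥U ∈ ({2 ^ (2 * m + 1) - 1, 2 ^ (2 * m + 1) + 2 ^ (m + 1) + 1, 2 ^ (2 * m + 1) - 2 ^ (m + 1) + 1} : Set ℕ) ∧
      M ≤ Subgroup.normalizer (U : Set ↥(Cfsg.Sz F m))) ∨
    (∃ (K : Type) (_ : Field K) (_ : Fintype K) (k : ℕ), 1 ≤ k ∧ k < m ∧ Fintype.card K = 2 ^ (2 * k + 1) ∧ 2 * k + 1 ∣ 2 * m + 1 ∧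
      ∃ S : Subgroup ↥(Cfsg.Sz F m), Nonempty (↥S ≃* ↥(Cfsg.Sz K k)) ∧ M ≤ S)

omit [CharP F 2] in
/-- the conclusion is invariant under conjugation -/
theorem szConcl_conj (c : ↥(Cfsg.Sz F m)) (M : Subgroup ↥(Cfsg.Sz F m))
    (h : SzConcl F m (M.map (MulAut.conj c).toMonoidHom)) : SzConcl F m M := by
  have hinj : Function.Injective (MulAut.conj c⁻¹).toMonoidHom := (MulAut.conj c⁻¹).injective
  rcases h with ⟨P, hP⟩ | ⟨U, hcyc, hcard, hU⟩ | ⟨K, iK, iK', k, hk, hkm, hK, hdiv, S, ⟨ι⟩, hS⟩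
  · left
    refine ⟨c⁻¹ • P, ?_⟩
    have := le_normalizer_conj M (P : Subgroup ↥(Cfsg.Sz F m)) c hP
    rw [Sylow.coe_subgroup_smul]
    exact this
  · right; left
    let e := U.equivMapOfInjective (MulAut.conj c⁻¹).toMonoidHom hinj
    refine ⟨U.map (MulAut.conj c⁻¹).toMonoidHom, isCyclic_of_surjective e e.surjective, ?_,
      le_normalizer_conj M U c hU⟩
    rw [← Nat.card_congr e.toEquiv]
    exact hcard
  · right; right
    let e := S.equivMapOfInjective (MulAut.conj c⁻¹).toMonoidHom hinj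
    refine ⟨K, iK, iK', k, hk, hkm, hK, hdiv, S.map (MulAut.conj c⁻¹).toMonoidHom,
      ⟨e.symm.trans ι⟩, ?_⟩
    intro g hg
    rw [mem_map_conj_inv]
    exact hS ⟨g, hg, rfl⟩

include hF in
/-- subgroups without `2`-elements are trivial or contained in a torus -/
theorem caseA (hm : 1 ≤ m) (M : Subgroup ↥(Cfsg.Sz F m))
    (hM : ∀ g ∈ M, g ^ 4 = 1 → g = 1) :
    M = ⊥ ∨ ∃ x ∈ M, x ≠ 1 ∧ M ≤ Subgroup.centralizer ({x} : Set ↥(Cfsg.Sz F m)) := by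
  by_cases hbot : M = ⊥
  · exact Or.inl hbot
  · right
    obtain ⟨x, hxM, hx1⟩ : ∃ x ∈ M, x ≠ 1 := by
      by_contra hcon
      push Not at hcon
      exact hbot ((Subgroup.eq_bot_iff_forall M).2 hcon)
    refine ⟨x, hxM, hx1, ?_⟩
    have tp : ∀ y ∈ M, y ≠ 1 → TorProp m y :=
      fun y hy hy1 => torProp_of_ne hF hm (fun h => hy1 (hM y hy h))
    have h1 : ∀ x y : ↥M, x ≠ 1 → y ≠ 1 → x * y = y * x →
        ∀ z : ↥M, z * y = y * z → z * x = x * z := by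
      intro x y hx hy hxy z hz
      have hx' : (x : ↥(Cfsg.Sz F m)) ≠ 1 := fun h => hx (Subtype.ext h)
      have hy' : (y : ↥(Cfsg.Sz F m)) ≠ 1 := fun h => hy (Subtype.ext h)
      obtain ⟨-, -, h3, -⟩ := tp x x.2 hx'
      have hyx : (y : ↥(Cfsg.Sz F m)) * x = x * y := (congrArg Subtype.val hxy).symm
      have := (h3 y hy' hyx z).1 (congrArg Subtype.val hz)
      exact Subtype.ext this
    have h2 : ∀ x : ↥M, x ≠ 1 → ∀ n : ↥M, (n * x * n⁻¹) * x = x * (n * x * n⁻¹) →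
        n * x = x * n := by
      intro x hx n hn
      have hx' : (x : ↥(Cfsg.Sz F m)) ≠ 1 := fun h => hx (Subtype.ext h)
      obtain ⟨-, -, -, h4⟩ := tp x x.2 hx'
      have h5 := h4 n (congrArg Subtype.val hn)
      have h6 : (n : ↥(Cfsg.Sz F m)) ∈
          Subgroup.centralizer ({(x : ↥(Cfsg.Sz F m))} : Set ↥(Cfsg.Sz F m)) := by
        apply mem_of_pow_four_mem
        · exact Subgroup.mem_centralizer_singleton_iff.2 h5
        · intro k hk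
          exact hM _ (M.pow_mem n.2 k) hk
      exact Subtype.ext (Subgroup.mem_centralizer_singleton_iff.1 h6)
    have key := ca_abelian h1 h2 ⟨x, hxM⟩ (fun h => hx1 (congrArg Subtype.val h))
    intro g hg
    have hmem : (⟨g, hg⟩ : ↥M) ∈ Subgroup.centralizer ({⟨x, hxM⟩} : Set ↥M) := by
      rw [key]; exact Subgroup.mem_top _
    rw [Subgroup.mem_centralizer_singleton_iff] at hmem ⊢
    exact congrArg Subtype.val hmem

include hF in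
theorem caseA_concl (hm : 1 ≤ m) (M : Subgroup ↥(Cfsg.Sz F m))
    (hM : ∀ g ∈ M, g ^ 4 = 1 → g = 1) : SzConcl F m M := by
  rcases caseA hF hm M hM with hbot | ⟨x, hxM, hx1, hle⟩
  · left
    refine ⟨UoSylow hF hm, ?_⟩
    rw [hbot]
    exact bot_le
  · right; left
    have hx4 : x ^ 4 ≠ 1 := fun h => hx1 (hM x hxM h)
    obtain ⟨hcyc, hcard, -, -⟩ := torProp_of_ne hF hm hx4
    exact ⟨Subgroup.centralizer {x}, hcyc, hcard, hle.trans Subgroup.le_normalizer⟩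

/-- after conjugation, every `2`-element of the subgroup is conjugate in the subgroup to a
translation -/
theorem exists_sylNorm (hm : 1 ≤ m) (M : Subgroup ↥(Cfsg.Sz F m)) :
    ∃ c : ↥(Cfsg.Sz F m), ∀ z ∈ M.map (MulAut.conj c).toMonoidHom, z ^ 4 = 1 →
      ∃ h ∈ M.map (MulAut.conj c).toMonoidHom, h * z * h⁻¹ ∈ Uo hF := by
  have : Fact (Nat.Prime 2) := ⟨Nat.prime_two⟩
  obtain ⟨Q⟩ : Nonempty (Sylow 2 ↥M) := inferInstance
  have hQ' : IsPGroup 2 ((Q : Subgroup ↥M).map M.subtype) := Q.isPGroup'.map M.subtype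
  obtain ⟨R, hR⟩ := hQ'.exists_le_sylow
  obtain ⟨c, hc⟩ := MulAction.exists_smul_eq ↥(Cfsg.Sz F m) (UoSylow hF hm) R
  refine ⟨c⁻¹, ?_⟩
  rintro _ ⟨z, hzM, rfl⟩ hz4
  have hz4' : z ^ 4 = 1 := by
    have e : (MulAut.conj c⁻¹).toMonoidHom z ^ 4 = (MulAut.conj c⁻¹).toMonoidHom (z ^ 4) :=
      (map_pow _ _ _).symm
    rw [e] at hz4
    exact (map_eq_one_iff _ (MulAut.conj c⁻¹).injective).1 hz4
  have hp : IsPGroup 2 (Subgroup.zpowers (⟨z, hzM⟩ : ↥M)) := by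
    rintro ⟨g, hg⟩
    obtain ⟨n, rfl⟩ := Subgroup.mem_zpowers_iff.1 hg
    refine ⟨2, Subtype.ext ?_⟩
    show ((⟨z, hzM⟩ : ↥M) ^ n) ^ 2 ^ 2 = 1
    have e : ((⟨z, hzM⟩ : ↥M) ^ n) ^ 2 ^ 2 = ((⟨z, hzM⟩ : ↥M) ^ 4) ^ n := by
      rw [← zpow_natCast, ← zpow_natCast, ← _root_.zpow_mul, ← _root_.zpow_mul, mul_comm]
      norm_num
    rw [e]
    have : (⟨z, hzM⟩ : ↥M) ^ 4 = 1 := Subtype.ext hz4'
    rw [this, _root_.one_zpow]
  obtain ⟨Q₂, hQ₂⟩ := hp.exists_le_sylow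
  obtain ⟨h, hh⟩ := MulAction.exists_smul_eq ↥M Q Q₂
  have hzQ : (⟨z, hzM⟩ : ↥M) ∈ ((h • Q : Sylow 2 ↥M) : Subgroup ↥M) := by
    rw [hh]
    exact hQ₂ (Subgroup.mem_zpowers _)
  rw [Sylow.coe_subgroup_smul, mem_conj_smul_iff] at hzQ
  have hzR : ((h⁻¹ * ⟨z, hzM⟩ * h : ↥M) : ↥(Cfsg.Sz F m)) ∈ (R : Subgroup ↥(Cfsg.Sz F m)) :=
    hR ⟨_, hzQ, rfl⟩
  rw [← hc, Sylow.coe_subgroup_smul, coe_UoSylow, mem_conj_smul_iff] at hzR
  refine ⟨(MulAut.conj c⁻¹).toMonoidHom (h⁻¹ : ↥M), ⟨_, (h⁻¹).2, rfl⟩, ?_⟩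
  have e : (MulAut.conj c⁻¹).toMonoidHom ((h⁻¹ : ↥M) : ↥(Cfsg.Sz F m)) *
      (MulAut.conj c⁻¹).toMonoidHom z * ((MulAut.conj c⁻¹).toMonoidHom ((h⁻¹ : ↥M) : ↥(Cfsg.Sz F m)))⁻¹ =
      c⁻¹ * ((h⁻¹ * ⟨z, hzM⟩ * h : ↥M) : ↥(Cfsg.Sz F m)) * c := by
    simp only [MulEquiv.toMonoidHom_eq_coe, MonoidHom.coe_coe, MulAut.conj_apply,
      Subgroup.coe_mul, InvMemClass.coe_inv]
    group
  rw [e]
  exact hzR

include hF in
/-- subgroups of the point stabiliser -/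
theorem caseB1 (hm : 1 ≤ m) (M : Subgroup ↥(Cfsg.Sz F m)) (h : M ≤ Bo F m) : SzConcl F m M := by
  left
  refine ⟨UoSylow hF hm, ?_⟩
  rw [coe_UoSylow, normalizer_Uo hF hm]
  exact h

/-- subgroups meeting the point stabiliser in a nontrivial `2`-group -/
theorem caseB2 (hm : 1 ≤ m) (M : Subgroup ↥(Cfsg.Sz F m))
    (hS : ∀ z ∈ M, z ^ 4 = 1 → ∃ h ∈ M, h * z * h⁻¹ ∈ Uo hF)
    (hBU : ∀ g ∈ M, g ∈ Bo F m → g ∈ Uo hF) (hnB : ¬ M ≤ Bo F m)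
    (hP : ∃ z ∈ M, z ∈ Uo hF ∧ z ≠ 1) : SzConcl F m M := by
  obtain ⟨z, hzM, hzU, hz1⟩ := hP
  set H : Subgroup ↥M := (Uo hF).subgroupOf M with hH
  have hHmem : ∀ g : ↥M, g ∈ H ↔ (g : ↥(Cfsg.Sz F m)) ∈ Uo hF := fun g => Subgroup.mem_subgroupOf
  have hFC : Cfsg.IsFrobeniusComplement H := by
    refine ⟨?_, ?_, ?_⟩
    · intro h
      have : (⟨z, hzM⟩ : ↥M) ∈ H := (hHmem _).2 hzU
      rw [h, Subgroup.mem_bot] at this
      exact hz1 (congrArg Subtype.val this)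
    · intro h
      apply hnB
      intro g hg
      have : (⟨g, hg⟩ : ↥M) ∈ H := by rw [h]; exact Subgroup.mem_top _
      exact Uo_le_Bo hF ((hHmem _).1 this)
    · intro g hg
      rw [eq_bot_iff]
      intro k hk
      rw [Subgroup.mem_bot]
      by_contra hk1
      obtain ⟨hk1', hk2⟩ := Subgroup.mem_inf.1 hk
      rw [mem_conj_smul_iff] at hk2
      rw [hHmem] at hk1' hk2
      apply hg
      rw [hHmem]
      apply hBU _ g.2
      obtain ⟨a, b, hab⟩ := hk1'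
      obtain ⟨a', b', hab'⟩ := hk2
      refine Uo_TI hF (x := (g : ↥(Cfsg.Sz F m))) (a := a) (b := b) (a' := a') (b' := b') ?_ ?_
      · rintro ⟨rfl, rfl⟩
        rw [tG_zero] at hab
        exact hk1 (Subtype.ext hab)
      · rw [← hab, ← hab']
        simp only [Subgroup.coe_mul, InvMemClass.coe_inv]
        group
  obtain ⟨N, hN, hNn, hNc⟩ := Cfsg.Agent.Helper11.frobenius_kernel_subgroup H hFC
  have hNH : ∀ g : ↥M, g ∈ N → g ∈ H → g = 1 := by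
    intro g hgN hgH
    exact (Subgroup.disjoint_def.1 hNc.disjoint) hgN hgH
  have hO2 : ∀ g ∈ N.map M.subtype, g ^ 4 = 1 → g = 1 := by
    rintro _ ⟨o, hoN, rfl⟩ h4
    obtain ⟨h, hhM, hhU⟩ := hS _ o.2 h4
    have h1 : (⟨h, hhM⟩ : ↥M) * o * (⟨h, hhM⟩ : ↥M)⁻¹ ∈ N := hNn.conj_mem o hoN _
    have h2 : (⟨h, hhM⟩ : ↥M) * o * (⟨h, hhM⟩ : ↥M)⁻¹ ∈ H := (hHmem _).2 hhU
    have h3 := hNH _ h1 h2
    have h4' : o = 1 := conj_eq_one_iff.1 h3
    rw [h4']; rfl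
  rcases caseA hF hm (N.map M.subtype) hO2 with hbot | ⟨x, hxO, hx1, hle⟩
  · exfalso
    have hNbot : N = ⊥ := by
      rw [eq_bot_iff]
      intro n hn
      have : (n : ↥(Cfsg.Sz F m)) ∈ N.map M.subtype := ⟨n, hn, rfl⟩
      rw [hbot, Subgroup.mem_bot] at this
      exact Subgroup.mem_bot.2 (Subtype.ext this)
    rw [hNbot] at hNc
    exact hFC.2.1 (Subgroup.isComplement'_bot_left.1 hNc)
  · right; left
    have hx4 : x ^ 4 ≠ 1 := fun h => hx1 (hO2 x hxO h)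
    obtain ⟨hcyc, hcard, h3, -⟩ := torProp_of_ne hF hm hx4
    refine ⟨Subgroup.centralizer {x}, hcyc, hcard, ?_⟩
    rw [Subgroup.le_normalizer_iff]
    intro g hg k hk
    rw [Subgroup.mem_centralizer_singleton_iff] at hk ⊢
    obtain ⟨o, hoN, rfl⟩ := hxO
    have hgo1 : (⟨g, hg⟩ : ↥M) * o * (⟨g, hg⟩ : ↥M)⁻¹ ∈ N := hNn.conj_mem o hoN _
    have hgo : (g * (o : ↥(Cfsg.Sz F m)) * g⁻¹) ∈ N.map M.subtype :=
      Subgroup.mem_map.2 ⟨(⟨g, hg⟩ : ↥M) * o * (⟨g, hg⟩ : ↥M)⁻¹, hgo1, rfl⟩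
    have hcomm := Subgroup.mem_centralizer_singleton_iff.1 (hle hgo)
    have hne : g * (o : ↥(Cfsg.Sz F m)) * g⁻¹ ≠ 1 := fun h => hx1 (conj_eq_one_iff.1 h)
    have key := h3 (g * o * g⁻¹) hne hcomm (g * k * g⁻¹)
    exact key.1 ((comm_conj_iff g k _).2 hk)

end SzSubB

end Cfsg.Agent.Helper60
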