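import Mathlib
import Cfsg.Prelude.Def_LieExceptional
import Cfsg.Agent.Helper60.SzSubB

set_option autoImplicit false
set_option linter.unusedSectionVars false
set_option linter.unusedVariables false
set_option linter.unusedSimpArgs false

namespace Cfsg.Agent.Helper60

open Matrix Cfsg.Agent.Helper6
open scoped Pointwise

section SzSubC
variable {F : Type*} [Field F] [Fintype F] [CharP F 2] {m : ℕ}
variable (hF : Fintype.card F = 2 ^ (2 * m + 1))

/-! ### the Bruhat decomposition -/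

theorem bruhat_ex {g : ↥(Cfsg.Sz F m)} (hg : g ∉ Bo F m) :
    ∃ (a b : F), ∃ β ∈ Bo F m, g = tG hF a b * wG hF * β := by
  rcases (mem_ovoid_iff _).1 (sz_mem_smul_mem g.2 (inf_mem_ovoid (F := F) (m := m)))
    with h' | ⟨a, b, h'⟩
  · exact absurd h' hg
  · refine ⟨a, b, (tG hF a b * wG hF)⁻¹ * g, ?_, by group⟩
    rw [mem_Bo]
    show ((szT m a b * szW F)⁻¹ * (g : SpecialLinearGroup (Fin 4) F)) •
      Cfsg.suzukiPointInfinity F = Cfsg.suzukiPointInfinity F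
    rw [mul_smul, h', inv_smul_eq_iff, mul_smul, szW_smul_inf (m := m), szT_smul_zero hF]

theorem bruhat_uniq {a b a' b' : F} {β β' : ↥(Cfsg.Sz F m)} (hβ : β ∈ Bo F m)
    (hβ' : β' ∈ Bo F m) (e : tG hF a b * wG hF * β = tG hF a' b' * wG hF * β') :
    a = a' ∧ b = b' := by
  have e1 : szT m a b * szW F * (β : SpecialLinearGroup (Fin 4) F) =
      szT m a' b' * szW F * (β' : SpecialLinearGroup (Fin 4) F) := congrArg Subtype.val e
  have e2 := congrArg (fun g : SpecialLinearGroup (Fin 4) F => g • Cfsg.suzukiPointInfinity F) e1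
  simp only [mul_smul] at e2
  rw [mem_Bo] at hβ hβ'
  rw [hβ, hβ', szW_smul_inf (m := m), szT_smul_zero hF, szT_smul_zero hF] at e2
  exact szP_inj e2

theorem bruhat_notMem {a b : F} {β : ↥(Cfsg.Sz F m)} (hβ : β ∈ Bo F m) :
    tG hF a b * wG hF * β ∉ Bo F m := by
  intro h
  rw [mem_Bo] at h hβ
  have h1 : (szT m a b * szW F * (β : SpecialLinearGroup (Fin 4) F)) •
      Cfsg.suzukiPointInfinity F = Cfsg.suzukiPointInfinity F := h
  rw [mul_smul, mul_smul, hβ, szW_smul_inf (m := m), szT_smul_zero hF] at h1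
  exact szP_ne_inf a b h1

/-- the intersection of the point stabiliser with its opposite is the diagonal group -/
theorem opp_inter (hm : 1 ≤ m) {β : ↥(Cfsg.Sz F m)} (hβ : β ∈ Bo F m)
    (h : wG hF * β * wG hF ∈ Bo F m) : ∃ s : Fˣ, β = dG hF s := by
  obtain ⟨x, y, s, rfl⟩ := (mem_Bo_iff hF hm).1 hβ
  have e1 : wG hF * (tG hF x y * dG hF s) * wG hF * dG hF s = wG hF * tG hF x y * wG hF := by
    have e : wG hF * (tG hF x y * dG hF s) * wG hF * dG hF s =
        wG hF * tG hF x y * (dG hF s * wG hF) * dG hF s := by group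
    rw [e, dG_mul_wG]
    have e' : wG hF * tG hF x y * (wG hF * dG hF s⁻¹) * dG hF s =
        wG hF * tG hF x y * wG hF * (dG hF s⁻¹ * dG hF s) := by group
    rw [e', ← dG_mul, inv_mul_cancel, dG_one, mul_one]
  have h1 : wG hF * tG hF x y * wG hF ∈ Bo F m := by
    rw [← e1]; exact mul_mem h (dG_mem_Bo hF s)
  have e2 : tG hF x y * wG hF * 1 = tG hF 0 0 * wG hF * (wG hF * tG hF x y * wG hF) := by
    rw [tG_zero, one_mul, mul_one, ← mul_assoc, ← mul_assoc, wG_mul_self, one_mul]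
  obtain ⟨rfl, rfl⟩ := bruhat_uniq hF (one_mem _) h1 e2
  exact ⟨s, by rw [tG_zero, one_mul]⟩

/-- involutions of the point stabiliser are central translations -/
theorem Bo_invol (hm : 1 ≤ m) {g : ↥(Cfsg.Sz F m)} (hg : g ∈ Bo F m) (h2 : g * g = 1) :
    ∃ b : F, g = tG hF 0 b := by
  have hc2 : (2 : F) = 0 := sz_two
  obtain ⟨a, b, t, rfl⟩ := (mem_Bo_iff hF hm).1 hg
  have e : tG hF a b * dG hF t * (tG hF a b * dG hF t) =
      tG hF (a + (t : F) ^ 2 * a)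
        (b + szS F m t ^ 2 * (t : F) ^ 2 * b + szS F m a * ((t : F) ^ 2 * a)) *
        dG hF (t * t) := by
    rw [mul_assoc, ← mul_assoc (dG hF t), dG_mul_tG, mul_assoc, ← dG_mul, ← mul_assoc, tG_mul]
  have h2' := h2
  rw [e] at h2'
  have h3 : tG hF (a + (t : F) ^ 2 * a)
        (b + szS F m t ^ 2 * (t : F) ^ 2 * b + szS F m a * ((t : F) ^ 2 * a)) *
        dG hF (t * t) = tG hF 0 0 * dG hF 1 := by
    rw [h2', tG_zero, dG_one, mul_one]
  have ht := (tG_dG_inj hF h3).2.2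
  have ht1 : t = 1 := by
    apply Units.ext
    have e5 : (t : F) * t = 1 := by
      have := congrArg Units.val ht
      rwa [Units.val_mul, Units.val_one] at this
    have e6 : ((t : F) - 1) ^ 2 = 0 := by linear_combination e5 + (1 - (t : F)) * hc2
    rw [Units.val_one]
    exact sub_eq_zero.1 ((pow_eq_zero_iff two_ne_zero).1 e6)
  subst ht1
  rw [dG_one, mul_one] at h2 ⊢
  have ha := tG_involution hF h2
  exact ⟨b, by rw [ha]⟩

/-- an element conjugating a central involution into the point stabiliser lies in it -/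
theorem invol_conj_Bo (hm : 1 ≤ m) {b : F} (hb : b ≠ 0) {g : ↥(Cfsg.Sz F m)}
    (h : g * tG hF 0 b * g⁻¹ ∈ Bo F m) : g ∈ Bo F m := by
  have h2 : (g * tG hF 0 b * g⁻¹) * (g * tG hF 0 b * g⁻¹) = 1 := by
    have e : (g * tG hF 0 b * g⁻¹) * (g * tG hF 0 b * g⁻¹) =
        g * (tG hF 0 b * tG hF 0 b) * g⁻¹ := by group
    rw [e, tG_sq, map_zero, zero_mul, tG_zero, mul_one, mul_inv_cancel]
  obtain ⟨b', hb'⟩ := Bo_invol hF hm h h2
  refine Uo_TI hF (a := 0) (b := b') (a' := 0) (b' := b) ?_ hb'.symm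
  rintro ⟨-, rfl⟩
  rw [tG_zero] at hb'
  have := conj_eq_one_iff.1 hb'
  exact hb ((tG_eq_one_iff hF).1 this).2

/-! ### splitting the point stabiliser of a subgroup -/

theorem comm_D_inj (hm : 1 ≤ m) {t : Fˣ} (ht : t ≠ 1) {u v : ↥(Cfsg.Sz F m)} (hu : u ∈ Uo hF)
    (hv : v ∈ Uo hF) (e : u * dG hF t * u⁻¹ = v * dG hF t * v⁻¹) : u = v := by
  have hc : (v⁻¹ * u) * dG hF t = dG hF t * (v⁻¹ * u) := by
    have : (v⁻¹ * u) * dG hF t = v⁻¹ * (u * dG hF t * u⁻¹) * u := by group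
    rw [this, e]; group
  obtain ⟨s, hs⟩ := ov_comm_D hF hm ht hc
  obtain ⟨x, y, hxy⟩ := (Uo hF).mul_mem ((Uo hF).inv_mem hv) hu
  have e' : tG hF x y * dG hF 1 = tG hF 0 0 * dG hF s := by
    rw [dG_one, mul_one, tG_zero, one_mul, ← hxy, hs]
  obtain ⟨rfl, rfl, -⟩ := tG_dG_inj hF e'
  rw [tG_zero] at hxy
  exact (inv_mul_eq_one.1 hxy).symm

/-- a translation conjugating a nontrivial diagonal element of the subgroup into the subgroup
lies in the subgroup -/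
theorem mem_of_conj_D (hm : 1 ≤ m) (M : Subgroup ↥(Cfsg.Sz F m)) {t : Fˣ} (ht : t ≠ 1)
    (hd : dG hF t ∈ M) {u : ↥(Cfsg.Sz F m)} (hu : u ∈ Uo hF)
    (h : u * dG hF t * u⁻¹ ∈ M) : u ∈ M := by
  have key : ∀ v : ↥(Cfsg.Sz F m), v ∈ Uo hF → v * dG hF t * v⁻¹ ∈ M →
      v * dG hF t * v⁻¹ * (dG hF t)⁻¹ ∈ M ∧ v * dG hF t * v⁻¹ * (dG hF t)⁻¹ ∈ Uo hF := by
    intro v hv hvM
    refine ⟨mul_mem hvM (inv_mem hd), ?_⟩
    have : v * dG hF t * v⁻¹ * (dG hF t)⁻¹ = v * (dG hF t * v⁻¹ * (dG hF t)⁻¹) := by group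
    rw [this]
    exact mul_mem hv (Uo_conj_of_Bo hF hm (dG_mem_Bo hF t) (inv_mem hv))
  let P : Set ↥(Cfsg.Sz F m) := {v | v ∈ M ∧ v ∈ Uo hF}
  have hφ : ∀ v : P, (v : ↥(Cfsg.Sz F m)) * dG hF t * (v : ↥(Cfsg.Sz F m))⁻¹ *
      (dG hF t)⁻¹ ∈ P := by
    intro v
    exact key v v.2.2 (mul_mem (mul_mem v.2.1 hd) (inv_mem v.2.1))
  let φ : P → P := fun v => ⟨_, hφ v⟩
  have hinj : Function.Injective φ := by
    intro v w hvw
    have e : (v : ↥(Cfsg.Sz F m)) * dG hF t * (v : ↥(Cfsg.Sz F m))⁻¹ * (dG hF t)⁻¹ =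
        (w : ↥(Cfsg.Sz F m)) * dG hF t * (w : ↥(Cfsg.Sz F m))⁻¹ * (dG hF t)⁻¹ :=
      congrArg Subtype.val hvw
    exact Subtype.ext (comm_D_inj hF hm ht v.2.2 w.2.2 (mul_right_cancel e))
  have hsurj := Finite.injective_iff_surjective.1 hinj
  have hmem : u * dG hF t * u⁻¹ * (dG hF t)⁻¹ ∈ P := key u hu h
  obtain ⟨v, hv⟩ := hsurj ⟨_, hmem⟩
  have e : (v : ↥(Cfsg.Sz F m)) * dG hF t * (v : ↥(Cfsg.Sz F m))⁻¹ * (dG hF t)⁻¹ =
      u * dG hF t * u⁻¹ * (dG hF t)⁻¹ := congrArg Subtype.val hv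
  rw [← comm_D_inj hF hm ht v.2.2 hu (mul_right_cancel e)]
  exact v.2.1

/-- the point stabiliser of a subgroup containing a nontrivial diagonal element splits -/
theorem split_Bo (hm : 1 ≤ m) (M : Subgroup ↥(Cfsg.Sz F m)) {t₁ : Fˣ} (ht₁ : t₁ ≠ 1)
    (hd : dG hF t₁ ∈ M) {a b : F} {t : Fˣ} (h : tG hF a b * dG hF t ∈ M) :
    tG hF a b ∈ M ∧ dG hF t ∈ M := by
  have e : tG hF a b * dG hF t₁ * (tG hF a b)⁻¹ =
      (tG hF a b * dG hF t) * dG hF t₁ * (tG hF a b * dG hF t)⁻¹ := by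
    have : (tG hF a b * dG hF t) * dG hF t₁ * (tG hF a b * dG hF t)⁻¹ =
        tG hF a b * (dG hF t * dG hF t₁ * (dG hF t)⁻¹) * (tG hF a b)⁻¹ := by group
    rw [this, ← dG_mul, mul_comm t t₁, dG_mul, mul_inv_cancel_right]
  have hu : tG hF a b ∈ M := by
    apply mem_of_conj_D hF hm M ht₁ hd (tG_mem_Uo hF a b)
    rw [e]
    exact mul_mem (mul_mem h hd) (inv_mem h)
  refine ⟨hu, ?_⟩
  have : dG hF t = (tG hF a b)⁻¹ * (tG hF a b * dG hF t) := by group
  rw [this]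
  exact mul_mem (inv_mem hu) h

/-- a translation conjugating a nontrivial diagonal element into the subgroup lies in the
subgroup, provided the subgroup has some nontrivial diagonal element -/
theorem mem_of_conj_D' (hm : 1 ≤ m) (M : Subgroup ↥(Cfsg.Sz F m)) {t₁ : Fˣ} (ht₁ : t₁ ≠ 1)
    (hd : dG hF t₁ ∈ M) {r : Fˣ} (hr : r ≠ 1) {u : ↥(Cfsg.Sz F m)} (hu : u ∈ Uo hF)
    (h : u * dG hF r * u⁻¹ ∈ M) : u ∈ M := by
  have hU : u * (dG hF r * u⁻¹ * (dG hF r)⁻¹) ∈ Uo hF :=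
    mul_mem hu (Uo_conj_of_Bo hF hm (dG_mem_Bo hF r) (inv_mem hu))
  obtain ⟨a, b, hab⟩ := hU
  have e : u * dG hF r * u⁻¹ = tG hF a b * dG hF r := by rw [← hab]; group
  rw [e] at h
  have hdr := (split_Bo hF hm M ht₁ hd h).2
  rw [← e] at h
  exact mem_of_conj_D hF hm M hr hdr hu h

theorem conj_UDU_center (c d : F) (r : Fˣ) (y : F) :
    (tG hF c d * dG hF r * (tG hF c d)⁻¹) * tG hF 0 y * (tG hF c d * dG hF r * (tG hF c d)⁻¹)⁻¹ =
      tG hF 0 (szS F m r ^ 2 * (r : F) ^ 2 * y) := by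
  have e : (tG hF c d * dG hF r * (tG hF c d)⁻¹) * tG hF 0 y *
      (tG hF c d * dG hF r * (tG hF c d)⁻¹)⁻¹ =
      tG hF c d * (dG hF r * ((tG hF c d)⁻¹ * tG hF 0 y * ((tG hF c d)⁻¹)⁻¹) * (dG hF r)⁻¹) *
        (tG hF c d)⁻¹ := by group
  have hcen : ∀ y' : F, (tG hF c d)⁻¹ * tG hF 0 y' * ((tG hF c d)⁻¹)⁻¹ = tG hF 0 y' := by
    intro y'
    calc (tG hF c d)⁻¹ * tG hF 0 y' * ((tG hF c d)⁻¹)⁻¹ =
        (tG hF c d)⁻¹ * (tG hF c d * tG hF 0 y' * (tG hF c d)⁻¹) * ((tG hF c d)⁻¹)⁻¹ := by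
          rw [tG_center]
      _ = tG hF 0 y' := by group
  rw [e, hcen, dG_conj_tG, mul_zero, tG_center]

/-! ### the involution count -/

/-- **Bruhat decomposition of a subgroup**: a subgroup containing a central involution of the
translation group and a nontrivial diagonal element, and not contained in the point stabiliser,
acts doubly transitively on the orbit of the point at infinity -/
theorem count_main (hm : 1 ≤ m) (M : Subgroup ↥(Cfsg.Sz F m)) {b₀ : F} (hb₀ : b₀ ≠ 0)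
    (hz : tG hF 0 b₀ ∈ M) {t₁ : Fˣ} (ht₁ : t₁ ≠ 1) (hd : dG hF t₁ ∈ M) :
    ∀ g ∈ M, g ∉ Bo F m → ∃ u ∈ Uo hF, u ∈ M ∧ ∃ β ∈ Bo F m, g = u * wG hF * β := by
  classical
  set I₀ : Set ↥(Cfsg.Sz F m) := {z | z ∈ M ∧ ∃ b : F, b ≠ 0 ∧ z = tG hF 0 b} with hI₀
  set X : Set ↥(Cfsg.Sz F m) := {u | u ∈ Uo hF ∧ ∃ β ∈ Bo F m, u * wG hF * β ∈ M} with hX
  set Y : Set ↥(Cfsg.Sz F m) := {u | u ∈ X ∧ u ∈ M} with hY
  set J : Set ↥(Cfsg.Sz F m) := {t | t ∈ M ∧ t ∉ Bo F m ∧ t * t = 1} with hJ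
  have hpt : ∀ t : ↥(Cfsg.Sz F m), t ∉ Bo F m →
      ∃ u : ↥(Cfsg.Sz F m), u ∈ Uo hF ∧ ∃ β ∈ Bo F m, t = u * wG hF * β := by
    intro t ht
    obtain ⟨a, b, β, hβ, e⟩ := bruhat_ex hF ht
    exact ⟨tG hF a b, tG_mem_Uo hF a b, β, hβ, e⟩
  choose! pt hpt using hpt
  have huniq : ∀ u u' : ↥(Cfsg.Sz F m), u ∈ Uo hF → u' ∈ Uo hF → ∀ β β' : ↥(Cfsg.Sz F m),
      β ∈ Bo F m → β' ∈ Bo F m → u * wG hF * β = u' * wG hF * β' → u = u' := by
    rintro _ _ ⟨a, b, rfl⟩ ⟨a', b', rfl⟩ β β' hβ hβ' e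
    obtain ⟨rfl, rfl⟩ := bruhat_uniq hF hβ hβ' e
    rfl
  have hnotB : ∀ u ∈ Uo hF, ∀ β ∈ Bo F m, u * wG hF * β ∉ Bo F m := by
    rintro _ ⟨a, b, rfl⟩ β hβ
    exact bruhat_notMem hF hβ
  have hgX : ∀ u ∈ X, ∃ g : ↥(Cfsg.Sz F m), g ∈ M ∧ ∃ β ∈ Bo F m, g = u * wG hF * β := by
    rintro u ⟨hu, β, hβ, h⟩
    exact ⟨_, h, β, hβ, rfl⟩
  choose! gX hgX using hgX
  have hptX : ∀ t ∈ J, pt t ∈ X := by
    rintro t ⟨htM, htB, -⟩
    obtain ⟨hU, β, hβ, e⟩ := hpt t htB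
    exact ⟨hU, β, hβ, e ▸ htM⟩
  -- the stabiliser of two points
  have hstab : ∀ t ∈ J, ∀ t' ∈ J, pt t = pt t' →
      ∃ r : Fˣ, (pt t)⁻¹ * (t * t') * pt t = dG hF r := by
    rintro t ⟨htM, htB, ht2⟩ t' ⟨ht'M, ht'B, ht'2⟩ hpp
    obtain ⟨hU, β, hβ, e⟩ := hpt t htB
    obtain ⟨hU', β', hβ', e'⟩ := hpt t' ht'B
    rw [← hpp] at e'
    generalize pt t = u at hU e e'
    have htinv : t⁻¹ = t := inv_eq_of_mul_eq_one_left ht2
    have ht'inv : t'⁻¹ = t' := inv_eq_of_mul_eq_one_left ht'2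
    have hδ : t * t' = β⁻¹ * β' := by
      calc t * t' = t⁻¹ * t' := by rw [htinv]
        _ = (u * wG hF * β)⁻¹ * (u * wG hF * β') := by rw [← e, ← e']
        _ = β⁻¹ * β' := by group
    have h1 : u⁻¹ * (t * t') * u ∈ Bo F m := by
      rw [hδ]
      exact mul_mem (mul_mem (inv_mem (Uo_le_Bo hF hU)) (mul_mem (inv_mem hβ) hβ'))
        (Uo_le_Bo hF hU)
    have h2 : wG hF * (u⁻¹ * (t * t') * u) * wG hF ∈ Bo F m := by
      have e3 : wG hF * (u⁻¹ * (t * t') * u) * wG hF = β * (t⁻¹ * (t * t') * t) * β⁻¹ := by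
        have ht_e : t⁻¹ * (t * t') * t =
            (u * wG hF * β)⁻¹ * (t * t') * (u * wG hF * β) := by rw [← e]
        rw [ht_e]
        have e5 : β * ((u * wG hF * β)⁻¹ * (t * t') * (u * wG hF * β)) * β⁻¹ =
            (wG hF)⁻¹ * (u⁻¹ * (t * t') * u) * wG hF := by group
        rw [e5, wG_inv]
      rw [e3]
      have e4 : t⁻¹ * (t * t') * t = (β⁻¹ * β')⁻¹ := by
        rw [← hδ, _root_.mul_inv_rev, ht'inv, htinv, ← mul_assoc, ht2, one_mul]
      rw [e4]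
      exact mul_mem (mul_mem hβ (inv_mem (mul_mem (inv_mem hβ) hβ'))) (inv_mem hβ)
    exact opp_inter hF hm h1 h2
  -- the lower bound
  have hΦ : ∀ p ∈ X ×ˢ I₀, gX p.1 * p.2 * (gX p.1)⁻¹ ∈ J := by
    rintro ⟨u, z⟩ ⟨hu, hzM, b, hb, rfl⟩
    obtain ⟨hgM, β, hβ, hg⟩ := hgX u hu
    refine ⟨mul_mem (mul_mem hgM hzM) (inv_mem hgM), ?_, ?_⟩
    · intro hB
      have h3 := invol_conj_Bo hF hm hb hB
      rw [hg] at h3
      exact hnotB u hu.1 β hβ h3
    · have e : gX u * tG hF 0 b * (gX u)⁻¹ * (gX u * tG hF 0 b * (gX u)⁻¹) =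
          gX u * (tG hF 0 b * tG hF 0 b) * (gX u)⁻¹ := by group
      rw [e, tG_sq, map_zero, zero_mul, tG_zero, mul_one, mul_inv_cancel]
  have hΦinj : Set.InjOn (fun p : ↥(Cfsg.Sz F m) × ↥(Cfsg.Sz F m) => gX p.1 * p.2 * (gX p.1)⁻¹)
      (X ×ˢ I₀) := by
    rintro ⟨u, z⟩ ⟨hu, hzM, b, hb, rfl⟩ ⟨u', z'⟩ ⟨hu', hz'M, b', hb', rfl⟩ e
    have e0 : gX u * tG hF 0 b * (gX u)⁻¹ = gX u' * tG hF 0 b' * (gX u')⁻¹ := e
    obtain ⟨hgM, β, hβ, hg⟩ := hgX u hu
    obtain ⟨hgM', β', hβ', hg'⟩ := hgX u' hu'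
    have e1 : ((gX u')⁻¹ * gX u) * tG hF 0 b * ((gX u')⁻¹ * gX u)⁻¹ = tG hF 0 b' := by
      have : ((gX u')⁻¹ * gX u) * tG hF 0 b * ((gX u')⁻¹ * gX u)⁻¹ =
          (gX u')⁻¹ * (gX u * tG hF 0 b * (gX u)⁻¹) * gX u' := by group
      rw [this, e0]; group
    have hB : (gX u')⁻¹ * gX u ∈ Bo F m := by
      apply invol_conj_Bo hF hm hb
      rw [e1]; exact tG_mem_Bo hF 0 b'
    have huu : u = u' := by
      apply huniq u u' hu.1 hu'.1 β (β' * ((gX u')⁻¹ * gX u)) hβ (mul_mem hβ' hB)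
      rw [← hg, ← mul_assoc, ← hg']; group
    subst huu
    have ezz : tG hF 0 b = tG hF 0 b' := mul_left_cancel (mul_right_cancel e0)
    rw [ezz]
  -- at least two central involutions
  have hι : 2 ≤ I₀.ncard := by
    have hz1 : tG hF 0 b₀ ∈ I₀ := ⟨hz, b₀, hb₀, rfl⟩
    have hz2 : tG hF 0 (szS F m t₁ ^ 2 * (t₁ : F) ^ 2 * b₀) ∈ I₀ := by
      refine ⟨?_, _, ?_, rfl⟩
      · have := mul_mem (mul_mem hd hz) (inv_mem hd)
        rwa [dG_conj_tG, mul_zero] at this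
      · exact mul_ne_zero (mul_ne_zero (pow_ne_zero 2 (szS_unit_ne_zero (m := m) t₁))
          (pow_ne_zero 2 t₁.ne_zero)) hb₀
    have hne : tG hF 0 b₀ ≠ tG hF 0 (szS F m t₁ ^ 2 * (t₁ : F) ^ 2 * b₀) := by
      intro h
      have h1 := (tG_inj hF h).2
      have h2 : szS F m (t₁ : F) ^ 2 * (t₁ : F) ^ 2 = szS F m 1 ^ 2 * (1 : F) ^ 2 := by
        simp only [map_one, one_pow, mul_one]
        have : (szS F m t₁ ^ 2 * (t₁ : F) ^ 2 - 1) * b₀ = 0 := by linear_combination -h1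
        rcases mul_eq_zero.1 this with h' | h'
        · exact sub_eq_zero.1 h'
        · exact absurd h' hb₀
      have h3 := nu_inj hF t₁.ne_zero one_ne_zero h2
      exact ht₁ (Units.ext h3)
    have hsub : ({tG hF 0 b₀, tG hF 0 (szS F m t₁ ^ 2 * (t₁ : F) ^ 2 * b₀)} :
        Set ↥(Cfsg.Sz F m)) ⊆ I₀ := by
      intro x hx
      rcases hx with rfl | rfl
      · exact hz1
      · exact hz2
    calc 2 = ({tG hF 0 b₀, tG hF 0 (szS F m t₁ ^ 2 * (t₁ : F) ^ 2 * b₀)} :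
          Set ↥(Cfsg.Sz F m)).ncard := (Set.ncard_pair hne).symm
      _ ≤ I₀.ncard := Set.ncard_le_ncard hsub (Set.toFinite _)
  -- involutions through points outside the orbit of the subgroup's translations
  have hJ1 : Set.InjOn pt {t | t ∈ J ∧ pt t ∉ M} := by
    rintro t ⟨htJ, htn⟩ t' ⟨ht'J, ht'n⟩ hpp
    obtain ⟨r, hr⟩ := hstab t htJ t' ht'J hpp
    have hδ : t * t' = pt t * dG hF r * (pt t)⁻¹ := by rw [← hr]; group
    by_cases hr1 : r = 1
    · rw [hr1, dG_one, mul_one, mul_inv_cancel] at hδ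
      have htinv : t⁻¹ = t := inv_eq_of_mul_eq_one_left htJ.2.2
      exact htinv.symm.trans (inv_eq_of_mul_eq_one_right hδ)
    · exfalso
      apply htn
      apply mem_of_conj_D' hF hm M ht₁ hd hr1 (hpt t htJ.2.1).1
      rw [← hδ]
      exact mul_mem htJ.1 ht'J.1
  -- involutions through points in the orbit of the subgroup's translations
  have hbase : ∀ u : ↥(Cfsg.Sz F m), (∃ t, t ∈ J ∧ pt t = u) → ∃ t, t ∈ J ∧ pt t = u :=
    fun u h => h
  choose! t₀ ht₀ using hbase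
  have hΨ : ∀ t ∈ {t | t ∈ J ∧ pt t ∈ M},
      (pt t, (t₀ (pt t) * t) * tG hF 0 b₀ * (t₀ (pt t) * t)⁻¹) ∈ Y ×ˢ I₀ := by
    rintro t ⟨htJ, htM⟩
    obtain ⟨h0J, h0p⟩ := ht₀ (pt t) ⟨t, htJ, rfl⟩
    refine ⟨⟨hptX t htJ, htM⟩, ?_⟩
    obtain ⟨r, hr⟩ := hstab (t₀ (pt t)) h0J t htJ h0p
    rw [h0p] at hr
    have hδ : t₀ (pt t) * t = pt t * dG hF r * (pt t)⁻¹ := by rw [← hr]; group
    refine ⟨mul_mem (mul_mem (mul_mem h0J.1 htJ.1) hz) (inv_mem (mul_mem h0J.1 htJ.1)),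
      szS F m r ^ 2 * (r : F) ^ 2 * b₀, ?_, ?_⟩
    · exact mul_ne_zero (mul_ne_zero (pow_ne_zero 2 (szS_unit_ne_zero (m := m) r))
        (pow_ne_zero 2 r.ne_zero)) hb₀
    · show (t₀ (pt t) * t) * tG hF 0 b₀ * (t₀ (pt t) * t)⁻¹ = _
      rw [hδ]
      obtain ⟨c, d, hcd⟩ := (hpt t htJ.2.1).1
      rw [hcd]
      exact conj_UDU_center hF c d r b₀
  have hΨinj : Set.InjOn (fun t : ↥(Cfsg.Sz F m) =>
      (pt t, (t₀ (pt t) * t) * tG hF 0 b₀ * (t₀ (pt t) * t)⁻¹)) {t | t ∈ J ∧ pt t ∈ M} := by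
    rintro t ⟨htJ, htM⟩ t' ⟨ht'J, ht'M⟩ e
    have e1 : pt t = pt t' := congrArg Prod.fst e
    have e2 : (t₀ (pt t) * t) * tG hF 0 b₀ * (t₀ (pt t) * t)⁻¹ =
        (t₀ (pt t') * t') * tG hF 0 b₀ * (t₀ (pt t') * t')⁻¹ := congrArg Prod.snd e
    rw [← e1] at e2
    obtain ⟨h0J, h0p⟩ := ht₀ (pt t) ⟨t, htJ, rfl⟩
    obtain ⟨r, hr⟩ := hstab (t₀ (pt t)) h0J t htJ h0p
    obtain ⟨r', hr'⟩ := hstab (t₀ (pt t)) h0J t' ht'J (h0p.trans e1)
    rw [h0p] at hr hr'
    have hδ : t₀ (pt t) * t = pt t * dG hF r * (pt t)⁻¹ := by rw [← hr]; group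
    have hδ' : t₀ (pt t) * t' = pt t * dG hF r' * (pt t)⁻¹ := by rw [← hr']; group
    obtain ⟨c, d, hcd⟩ := (hpt t htJ.2.1).1
    rw [hδ, hδ', hcd, conj_UDU_center, conj_UDU_center] at e2
    have e3 := (tG_inj hF e2).2
    have e4 : szS F m (r : F) ^ 2 * (r : F) ^ 2 = szS F m (r' : F) ^ 2 * (r' : F) ^ 2 :=
      mul_right_cancel₀ hb₀ e3
    have e5 : r = r' := Units.ext (nu_inj hF r.ne_zero r'.ne_zero e4)
    rw [e5] at hδ
    exact mul_left_cancel (hδ.trans hδ'.symm)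
  -- counting
  have hfin : ∀ s : Set ↥(Cfsg.Sz F m), s.Finite := fun s => Set.toFinite s
  have hfin2 : ∀ s : Set (↥(Cfsg.Sz F m) × ↥(Cfsg.Sz F m)), s.Finite := fun s => Set.toFinite s
  have c1 : X.ncard * I₀.ncard ≤ J.ncard := by
    rw [← Set.ncard_prod]
    exact Set.ncard_le_ncard_of_injOn _ hΦ hΦinj (hfin J)
  have hYX : Y ⊆ X := fun u hu => hu.1
  have c2 : {t | t ∈ J ∧ pt t ∉ M}.ncard ≤ (X \ Y).ncard :=
    Set.ncard_le_ncard_of_injOn pt (fun t ht => ⟨hptX t ht.1, fun hY => ht.2 hY.2⟩) hJ1 (hfin _)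
  have c3 : {t | t ∈ J ∧ pt t ∈ M}.ncard ≤ Y.ncard * I₀.ncard := by
    rw [← Set.ncard_prod]
    exact Set.ncard_le_ncard_of_injOn _ hΨ hΨinj (hfin2 _)
  have c4 : J.ncard ≤ {t | t ∈ J ∧ pt t ∉ M}.ncard + {t | t ∈ J ∧ pt t ∈ M}.ncard := by
    have hsub : J ⊆ {t | t ∈ J ∧ pt t ∉ M} ∪ {t | t ∈ J ∧ pt t ∈ M} := by
      intro t ht
      by_cases h : pt t ∈ M
      · exact Or.inr ⟨ht, h⟩
      · exact Or.inl ⟨ht, h⟩
    exact (Set.ncard_le_ncard hsub (hfin _)).trans (Set.ncard_union_le _ _)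
  have c5 : (X \ Y).ncard = X.ncard - Y.ncard := Set.ncard_sdiff hYX (hfin Y)
  have c6 : Y.ncard ≤ X.ncard := Set.ncard_le_ncard hYX (hfin X)
  have hXY : X.ncard ≤ Y.ncard := by
    by_contra hlt
    push Not at hlt
    have h7 : X.ncard * I₀.ncard ≤ (X.ncard - Y.ncard) + Y.ncard * I₀.ncard := by
      calc X.ncard * I₀.ncard ≤ J.ncard := c1
        _ ≤ {t | t ∈ J ∧ pt t ∉ M}.ncard + {t | t ∈ J ∧ pt t ∈ M}.ncard := c4
        _ ≤ (X.ncard - Y.ncard) + Y.ncard * I₀.ncard := by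
          rw [← c5]; exact Nat.add_le_add c2 c3
    obtain ⟨d, hd⟩ : ∃ d, X.ncard = Y.ncard + d + 1 := ⟨X.ncard - Y.ncard - 1, by omega⟩
    rw [hd] at h7
    have e : Y.ncard + d + 1 - Y.ncard = d + 1 := by omega
    rw [e] at h7
    nlinarith [Nat.mul_le_mul_left (d + 1) hι]
  have hXeqY : Y = X := Set.eq_of_subset_of_ncard_le hYX hXY (hfin X)
  intro g hgM hgB
  obtain ⟨hU, β, hβ, e⟩ := hpt g hgB
  have hmem : pt g ∈ X := ⟨hU, β, hβ, e ▸ hgM⟩
  rw [← hXeqY] at hmem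
  exact ⟨pt g, hU, hmem.2, β, hβ, e⟩

/-- a subgroup as in `count_main` contains an element interchanging the two base points -/
theorem exists_w (hm : 1 ≤ m) (M : Subgroup ↥(Cfsg.Sz F m)) {b₀ : F} (hb₀ : b₀ ≠ 0)
    (hz : tG hF 0 b₀ ∈ M) {t₁ : Fˣ} (ht₁ : t₁ ≠ 1) (hd : dG hF t₁ ∈ M)
    (hnB : ¬ M ≤ Bo F m) : ∃ s : Fˣ, wG hF * dG hF s ∈ M := by
  have hcount := count_main hF hm M hb₀ hz ht₁ hd
  obtain ⟨g, hgM, hgB⟩ : ∃ g ∈ M, g ∉ Bo F m := by
    by_contra h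
    push Not at h
    exact hnB h
  obtain ⟨u, hu, huM, β, hβ, e⟩ := hcount g hgM hgB
  have h1 : wG hF * β ∈ M := by
    have : wG hF * β = u⁻¹ * g := by rw [e]; group
    rw [this]; exact mul_mem (inv_mem huM) hgM
  obtain ⟨a, b, t, e2⟩ := (mem_Bo_iff hF hm).1 (inv_mem hβ)
  have e3 : (wG hF * β)⁻¹ = tG hF a b * wG hF * dG hF t⁻¹ := by
    rw [_root_.mul_inv_rev, e2, wG_inv, mul_assoc, dG_mul_wG, ← mul_assoc]
  have hB3 : (wG hF * β)⁻¹ ∉ Bo F m := by
    rw [e3]; exact bruhat_notMem hF (dG_mem_Bo hF _)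
  obtain ⟨u', hu', hu'M, β', hβ', e4⟩ := hcount _ (inv_mem h1) hB3
  obtain ⟨a', b', rfl⟩ := hu'
  rw [e3] at e4
  obtain ⟨rfl, rfl⟩ := bruhat_uniq hF (dG_mem_Bo hF _) hβ' e4
  refine ⟨t⁻¹, ?_⟩
  have e5 : wG hF * dG hF t⁻¹ = (wG hF * β) * tG hF a b := by
    have eβ : β = (tG hF a b * dG hF t)⁻¹ := by rw [← e2, inv_inv]
    rw [eβ, _root_.mul_inv_rev, dG_inv]; group
  rw [e5]; exact mul_mem h1 hu'M

/-- a finite field of order `2 ^ n`, as a type in the lowest universe -/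
theorem exists_field_card (n : ℕ) (hn : n ≠ 0) :
    ∃ (K : Type) (_ : Field K) (_ : Fintype K), Fintype.card K = 2 ^ n := by
  haveI : Fintype (GaloisField 2 n) := Fintype.ofFinite _
  refine ⟨GaloisField 2 n, inferInstance, inferInstance, ?_⟩
  rw [← Nat.card_eq_fintype_card]
  exact GaloisField.card 2 n hn

/-- **the subfield subgroups**: a proper subgroup containing a central involution of the
translation group, a nontrivial diagonal element and the inversion is contained in a subfield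
subgroup -/
theorem endgame (hm : 1 ≤ m) (M : Subgroup ↥(Cfsg.Sz F m)) (hM : M ≠ ⊤) {b₀ : F} (hb₀ : b₀ ≠ 0)
    (hz : tG hF 0 b₀ ∈ M) {t₁ : Fˣ} (ht₁ : t₁ ≠ 1) (hd : dG hF t₁ ∈ M) (hW : wG hF ∈ M) :
    SzConcl F m M := by
  have h2 : (2 : F) = 0 := sz_two
  have hbru := count_main hF hm M hb₀ hz ht₁ hd
  have hsplit : ∀ (a b : F) (t : Fˣ), tG hF a b * dG hF t ∈ M → tG hF a b ∈ M ∧ dG hF t ∈ M :=
    fun a b t h => split_Bo hF hm M ht₁ hd h
  have hBadd : ∀ x y : F, tG hF 0 x ∈ M → tG hF 0 y ∈ M → tG hF 0 (x + y) ∈ M := by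
    intro x y hx hy
    have h3 := mul_mem hx hy
    rw [tG_mul] at h3
    simpa using h3
  have hA : ∀ y : F, y ≠ 0 → tG hF 0 y ∈ M → tG hF (y / szS F m y) 0 ∈ M := by
    intro y hy hyM
    obtain ⟨h, hh, e⟩ := bruhat_rel hF hy
    have hmem : wG hF * tG hF 0 y * wG hF ∈ M := mul_mem (mul_mem hW hyM) hW
    have hnb : wG hF * tG hF 0 y * wG hF ∉ Bo F m := by
      rw [e]; exact bruhat_notMem hF hh
    obtain ⟨u, ⟨a, b, rfl⟩, huM, β, hβ, e'⟩ := hbru _ hmem hnb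
    obtain ⟨rfl, rfl⟩ := bruhat_unique hF hy hβ e'
    exact huM
  have hBinv : ∀ y : F, y ≠ 0 → tG hF 0 y ∈ M → tG hF 0 y⁻¹ ∈ M := by
    intro y hy hyM
    have h1 := hA y hy hyM
    have h3 := mul_mem h1 h1
    rw [tG_sq] at h3
    have hsy : szS F m y ≠ 0 := by simpa using hy
    have e : szS F m (y / szS F m y) * (y / szS F m y) = y⁻¹ := by
      rw [map_div₀, szS_szS hF]
      field_simp
    rwa [e] at h3
  have hD : ∀ y : F, y ≠ 0 → tG hF 0 y ∈ M → ∀ t : Fˣ, (t : F) = szS F m y / y →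
      dG hF t ∈ M := by
    intro y hy hyM t ht
    have hsy : szS F m y ≠ 0 := by simpa using hy
    obtain ⟨c, d, hk⟩ := ov_key hm hF t
    have htinv : (t : F)⁻¹ = y / szS F m y := by rw [ht, inv_div]
    have e1 : szS F m ((t : F)⁻¹) * (t : F)⁻¹ = y⁻¹ := by
      rw [htinv, map_div₀, szS_szS hF]
      field_simp
    have e2 : (t : F) * szS F m t = y := by
      rw [ht, map_div₀, szS_szS hF]
      field_simp
    have hT1 : tG hF ((t : F)⁻¹) (szS F m ((t : F)⁻¹) * (t : F)⁻¹) ∈ M := by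
      rw [e1, htinv]
      have h3 := mul_mem (hA y hy hyM) (hBinv y hy hyM)
      rw [tG_mul] at h3
      simpa using h3
    have hT2 : tG hF 0 ((t : F) * szS F m t) ∈ M := by rw [e2]; exact hyM
    have hprod : wG hF * tG hF ((t : F)⁻¹) (szS F m ((t : F)⁻¹) * (t : F)⁻¹) * wG hF *
        tG hF 0 ((t : F) * szS F m t) * wG hF = tG hF c d * dG hF t := Subtype.ext hk
    have h5 := mul_mem (mul_mem (mul_mem (mul_mem hW hT1) hW) hT2) hW
    rw [hprod] at h5
    exact (hsplit c d t h5).2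
  have hBmul : ∀ y b : F, y ≠ 0 → tG hF 0 y ∈ M → tG hF 0 b ∈ M → tG hF 0 (y ^ 2 * b) ∈ M := by
    intro y b hy hyM hbM
    have hsy : szS F m y ≠ 0 := by simpa using hy
    have ht0 : szS F m y / y ≠ 0 := div_ne_zero hsy hy
    have hdt := hD y hy hyM (Units.mk0 _ ht0) rfl
    have h3 := mul_mem (mul_mem hdt hbM) (inv_mem hdt)
    rw [dG_conj_tG, mul_zero, Units.val_mk0] at h3
    have e : szS F m (szS F m y / y) ^ 2 * (szS F m y / y) ^ 2 * b = y ^ 2 * b := by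
      rw [map_div₀, szS_szS hF]
      field_simp
    rwa [e] at h3
  have hpow : ∀ k : ℕ, tG hF 0 (b₀ ^ (2 * k + 1)) ∈ M := by
    intro k
    induction k with
    | zero => simpa using hz
    | succ k ih =>
      have h3 := hBmul b₀ _ hb₀ hz ih
      have e : b₀ ^ 2 * b₀ ^ (2 * k + 1) = b₀ ^ (2 * (k + 1) + 1) := by ring
      rwa [e] at h3
  have h1M : tG hF 0 1 ∈ M := by
    have hq : b₀ ^ (Fintype.card F - 1) = 1 := FiniteField.pow_card_sub_one_eq_one b₀ hb₀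
    have e : Fintype.card F - 1 = 2 * (2 ^ (2 * m) - 1) + 1 := by
      rw [hF, pow_succ]
      have : 1 ≤ 2 ^ (2 * m) := Nat.one_le_two_pow
      omega
    rw [e] at hq
    rw [← hq]; exact hpow _
  have hBsq : ∀ y : F, tG hF 0 y ∈ M → tG hF 0 (y ^ 2) ∈ M := by
    intro y hyM
    by_cases hy : y = 0
    · subst hy
      simpa using hyM
    · have h3 := hBmul y 1 hy hyM h1M
      rwa [mul_one] at h3
  have hBsqrt : ∀ x : F, tG hF 0 (x ^ 2) ∈ M → tG hF 0 x ∈ M := by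
    intro x hx
    let S : Set F := {y | tG hF 0 y ∈ M}
    let f : S → S := fun y => ⟨(y : F) ^ 2, hBsq y y.2⟩
    have hinj : Function.Injective f := by
      intro y y' h
      have e : (y : F) ^ 2 = (y' : F) ^ 2 := congrArg Subtype.val h
      apply Subtype.ext
      have e6 : ((y : F) - y') ^ 2 = 0 := by
        linear_combination e + ((y' : F) * y' - y * y') * h2
      exact sub_eq_zero.1 ((pow_eq_zero_iff two_ne_zero).1 e6)
    obtain ⟨c, hc⟩ := (Finite.injective_iff_surjective.1 hinj) ⟨x ^ 2, hx⟩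
    have e : (c : F) ^ 2 = x ^ 2 := congrArg Subtype.val hc
    have e6 : ((c : F) - x) ^ 2 = 0 := by linear_combination e + (x * x - c * x) * h2
    have hcx : (c : F) = x := sub_eq_zero.1 ((pow_eq_zero_iff two_ne_zero).1 e6)
    rw [← hcx]; exact c.2
  have hBmul' : ∀ x y : F, tG hF 0 x ∈ M → tG hF 0 y ∈ M → tG hF 0 (x * y) ∈ M := by
    intro x y hx hy
    obtain ⟨c, hc⟩ := ov_sq_surj x
    have hcM : tG hF 0 c ∈ M := hBsqrt c (by rw [hc]; exact hx)
    by_cases hc0 : c = 0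
    · subst hc0
      have e0 : x * y = 0 := by rw [← hc]; ring
      rw [e0, tG_zero]
      exact one_mem M
    · have h3 := hBmul c y hc0 hcM hy
      rwa [hc] at h3
  let K' : Subfield F :=
    { carrier := {y | tG hF 0 y ∈ M}
      mul_mem' := fun {x y} hx hy => hBmul' x y hx hy
      one_mem' := h1M
      add_mem' := fun {x y} hx hy => hBadd x y hx hy
      zero_mem' := by
        show tG hF 0 0 ∈ M
        rw [tG_zero]; exact one_mem M
      neg_mem' := fun {x} hx => by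
        show tG hF 0 (-x) ∈ M
        have : -x = x := by linear_combination (-x) * h2
        rw [this]; exact hx
      inv_mem' := fun x hx => by
        show tG hF 0 x⁻¹ ∈ M
        by_cases hx0 : x = 0
        · rw [hx0, _root_.inv_zero, tG_zero]; exact one_mem M
        · exact hBinv x hx0 hx }
  have hK'mem : ∀ y : F, y ∈ K' ↔ tG hF 0 y ∈ M := fun y => Iff.rfl
  have hσ : ∀ y ∈ K', szS F m y ∈ K' := fun y hy => by
    rw [szS_apply]; exact pow_mem hy _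
  have hTK : ∀ t : Fˣ, dG hF t ∈ M → (t : F) ∈ K' := by
    intro t ht
    have h1 := mul_mem (mul_mem ht h1M) (inv_mem ht)
    rw [dG_conj_tG, mul_zero, mul_one] at h1
    have e : szS F m t ^ 2 * (t : F) ^ 2 = (szS F m t * t) ^ 2 := by ring
    rw [e] at h1
    have hw : szS F m t * (t : F) ∈ K' := hBsqrt _ h1
    have hst := szS_unit_ne_zero (m := m) t
    have hx : szS F m (szS F m t * (t : F)) / (szS F m t * (t : F)) ∈ K' := div_mem (hσ _ hw) hw
    have hxe : szS F m (szS F m t * (t : F)) / (szS F m t * (t : F)) = t := by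
      rw [map_mul, szS_szS hF]
      have := t.ne_zero
      field_simp
    rw [← hxe]; exact hx
  have hUK : ∀ a b : F, tG hF a b ∈ M → a ∈ K' ∧ b ∈ K' := by
    intro a b hab
    have h1 := mul_mem hab hab
    rw [tG_sq] at h1
    have hw : szS F m a * a ∈ K' := h1
    have ha : a ∈ K' := by
      by_cases ha0 : a = 0
      · rw [ha0]; exact zero_mem K'
      · have hsa : szS F m a ≠ 0 := by simpa using ha0
        have e : szS F m (szS F m a * a) / (szS F m a * a) = a := by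
          rw [map_mul, szS_szS hF]
          field_simp
        rw [← e]; exact div_mem (hσ _ hw) hw
    refine ⟨ha, ?_⟩
    by_cases ha0 : a = 0
    · subst ha0; exact hab
    · have hsa : szS F m a ≠ 0 := by simpa using ha0
      have hy0 : (a * szS F m a)⁻¹ ≠ 0 := inv_ne_zero (mul_ne_zero ha0 hsa)
      have hyK : (a * szS F m a)⁻¹ ∈ K' := inv_mem (mul_mem ha (hσ a ha))
      have hya : (a * szS F m a)⁻¹ / szS F m ((a * szS F m a)⁻¹) = a := by
        rw [map_inv₀, map_mul, szS_szS hF]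
        field_simp
      have h3 := hA _ hy0 hyK
      rw [hya] at h3
      have h4 := mul_mem (inv_mem h3) hab
      rw [tG_inv, tG_mul] at h4
      have e2 : tG hF (a + a) (0 + szS F m a * a + b + szS F m a * a) = tG hF 0 b := by
        congr 1
        · linear_combination a * h2
        · linear_combination (szS F m a * a) * h2
      rw [e2] at h4
      exact h4
  haveI : Fintype K' := Fintype.ofFinite K'
  have hpowK : ∀ x ∈ K', x ^ Fintype.card K' = x := by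
    intro x hx
    have h3 := FiniteField.pow_card (⟨x, hx⟩ : K')
    exact congrArg Subtype.val h3
  have hMle : M ≤ stdSub hF (Fintype.card K') := by
    have hB : ∀ g ∈ M, g ∈ Bo F m → g ∈ stdSub hF (Fintype.card K') := by
      intro g hg hgB
      obtain ⟨a, b, t, rfl⟩ := (mem_Bo_iff hF hm).1 hgB
      obtain ⟨hu, hdt⟩ := hsplit a b t hg
      obtain ⟨ha, hb⟩ := hUK a b hu
      apply mul_mem
      · apply Subgroup.subset_closure
        left
        exact ⟨a, b, hpowK a ha, hpowK b hb, rfl⟩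
      · apply Subgroup.subset_closure
        right; left
        exact ⟨t, hpowK _ (hTK t hdt), rfl⟩
    have hWs : wG hF ∈ stdSub hF (Fintype.card K') :=
      Subgroup.subset_closure (Or.inr (Or.inr rfl))
    intro g hg
    by_cases hgB : g ∈ Bo F m
    · exact hB g hg hgB
    · obtain ⟨u, hu, huM, β, hβ, e⟩ := hbru g hg hgB
      have hβM : β ∈ M := by
        have : β = (u * wG hF)⁻¹ * g := by rw [e]; group
        rw [this]; exact mul_mem (inv_mem (mul_mem huM hW)) hg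
      rw [e]
      exact mul_mem (mul_mem (hB u huM (Uo_le_Bo hF hu)) hWs) (hB β hβM hβ)
  have hcardpow := Module.card_eq_pow_finrank (K := K') (V := F)
  obtain ⟨j, hj⟩ : ∃ j, Fintype.card K' = 2 ^ j := by
    have hdpos : 0 < Module.finrank K' F := Module.finrank_pos
    have hdvd : Fintype.card K' ∣ 2 ^ (2 * m + 1) := by
      rw [← hF, hcardpow]; exact dvd_pow_self _ hdpos.ne'
    obtain ⟨j, -, hj⟩ := (Nat.dvd_prime_pow Nat.prime_two).1 hdvd
    exact ⟨j, hj⟩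
  have hjdvd : j ∣ 2 * m + 1 := by
    rw [hF, hj, ← pow_mul] at hcardpow
    exact ⟨_, Nat.pow_right_injective (le_refl 2) hcardpow⟩
  have hj2 : 2 ≤ j := by
    by_contra hlt
    have hj1 : j ≤ 1 := by omega
    have hle : Fintype.card K' ≤ 2 := by
      rw [hj]
      calc 2 ^ j ≤ 2 ^ 1 := Nat.pow_le_pow_right (by norm_num) hj1
        _ = 2 := by norm_num
    have ht1K := hTK t₁ hd
    have h3 : 2 < Fintype.card K' := by
      rw [Fintype.two_lt_card_iff]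
      refine ⟨0, 1, ⟨t₁, ht1K⟩, zero_ne_one, ?_, ?_⟩
      · intro h
        exact t₁.ne_zero (congrArg Subtype.val h).symm
      · intro h
        exact ht₁ (Units.ext (congrArg Subtype.val h).symm)
    omega
  obtain ⟨k, hk⟩ : ∃ k, j = 2 * k + 1 := by
    have hodd : ¬ 2 ∣ j := fun h => by
      have := h.trans hjdvd
      omega
    exact ⟨j / 2, by omega⟩
  subst hk
  have hk1 : 1 ≤ k := by omega
  have hkm : k ≤ m := by
    have := Nat.le_of_dvd (by omega) hjdvd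
    omega
  have hklt : k < m := by
    by_contra hge
    have hkeq : k = m := by omega
    apply hM
    have hall : ∀ y : F, y ∈ K' := by
      have hcard : Fintype.card K' = Fintype.card F := by rw [hj, hF, hkeq]
      intro y
      have hsurj : Function.Surjective (Subtype.val : K' → F) :=
        ((Fintype.bijective_iff_injective_and_card _).2 ⟨Subtype.val_injective, hcard⟩).2
      obtain ⟨x, hx⟩ := hsurj y
      rw [← hx]; exact x.2
    apply eq_top_of_D_T_W hF hm (x₀ := 1) (y₀ := 0) _ one_ne_zero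
    · have h3 := hA 1 one_ne_zero (hall 1)
      rwa [map_one, div_one] at h3
    · exact hW
    · intro t
      have hst := szS_unit_ne_zero (m := m) t
      have hy0 : (t : F) * szS F m t ≠ 0 := mul_ne_zero t.ne_zero hst
      apply hD _ hy0 (hall _) t
      rw [map_mul, szS_szS hF]
      have := t.ne_zero
      field_simp
  right; right
  obtain ⟨K, iK, iKt, hK⟩ := exists_field_card (2 * k + 1) (by omega)
  have : CharP K 2 := sz_charP hK
  obtain ⟨ψ⟩ := exists_field_emb hF hK hjdvd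
  refine ⟨K, iK, iKt, k, hk1, hklt, hK, hjdvd, (szEmb hF hK hk1 hjdvd ψ).range,
    ⟨(MonoidHom.ofInjective (szEmb_injective hF hK hk1 hjdvd ψ)).symm⟩, ?_⟩
  rw [range_eq_stdSub hF hK hk1 ψ (szEmb hF hK hk1 hjdvd ψ) (szEmb_tG hF hK hk1 hjdvd ψ)
    (szEmb_dG hF hK hk1 hjdvd ψ) (szEmb_wG hF hK hk1 hjdvd ψ), ← hj]
  exact hMle

omit [CharP F 2] in
theorem map_conj_ne_top (M : Subgroup ↥(Cfsg.Sz F m)) (c : ↥(Cfsg.Sz F m)) (hM : M ≠ ⊤) :
    M.map (MulAut.conj c).toMonoidHom ≠ ⊤ := by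
  intro h
  apply hM
  rw [eq_top_iff]
  intro g _
  have h1 : c * g * c⁻¹ ∈ M.map (MulAut.conj c).toMonoidHom := by
    rw [h]; exact Subgroup.mem_top _
  obtain ⟨g', hg', e⟩ := h1
  have e' : (MulAut.conj c) g' = (MulAut.conj c) g := e
  rw [← (MulAut.conj c).injective e']
  exact hg'

/-- subgroups containing a central involution of the translation group and a nontrivial
diagonal element, not contained in the point stabiliser -/
theorem caseB3 (hm : 1 ≤ m) (M : Subgroup ↥(Cfsg.Sz F m)) (hM : M ≠ ⊤) {b₀ : F} (hb₀ : b₀ ≠ 0)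
    (hz : tG hF 0 b₀ ∈ M) {t₁ : Fˣ} (ht₁ : t₁ ≠ 1) (hd : dG hF t₁ ∈ M)
    (hnB : ¬ M ≤ Bo F m) : SzConcl F m M := by
  obtain ⟨s, hs⟩ := exists_w hF hm M hb₀ hz ht₁ hd hnB
  obtain ⟨v, hv⟩ := ov_sq_surj (s : F)
  have hv0 : v ≠ 0 := by
    rintro rfl
    rw [zero_pow two_ne_zero] at hv
    exact s.ne_zero hv.symm
  apply szConcl_conj (dG hF (Units.mk0 v hv0)) M
  have hmem : ∀ g ∈ M, dG hF (Units.mk0 v hv0) * g * (dG hF (Units.mk0 v hv0))⁻¹ ∈
      M.map (MulAut.conj (dG hF (Units.mk0 v hv0))).toMonoidHom := fun g hg => ⟨g, hg, rfl⟩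
  have hst := szS_unit_ne_zero (m := m) (Units.mk0 v hv0)
  refine endgame hF hm _ (map_conj_ne_top M _ hM)
    (b₀ := szS F m (Units.mk0 v hv0 : Fˣ) ^ 2 * ((Units.mk0 v hv0 : Fˣ) : F) ^ 2 * b₀) ?_ ?_
    ht₁ ?_ ?_
  · exact mul_ne_zero (mul_ne_zero (pow_ne_zero 2 hst) (pow_ne_zero 2 (Units.mk0 v hv0).ne_zero))
      hb₀
  · have h1 := hmem _ hz
    rwa [dG_conj_tG, mul_zero] at h1
  · have h1 := hmem _ hd
    rwa [← dG_mul, mul_comm, dG_mul, mul_inv_cancel_right] at h1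
  · have h1 := hmem _ hs
    have e : dG hF (Units.mk0 v hv0) * (wG hF * dG hF s) * (dG hF (Units.mk0 v hv0))⁻¹ =
        wG hF := by
      rw [← mul_assoc, dG_mul_wG, dG_inv, mul_assoc, mul_assoc, ← dG_mul, ← dG_mul]
      have e1 : (Units.mk0 v hv0)⁻¹ * (s * (Units.mk0 v hv0)⁻¹) = 1 := by
        apply Units.ext
        simp only [Units.val_mul, Units.val_inv_eq_inv_val, Units.val_mk0, Units.val_one]
        rw [← hv]
        field_simp
      rw [e1, dG_one, mul_one]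
    rwa [e] at h1

include hF in
/-- **Suzuki's theorem on the subgroups of the Suzuki groups** -/
theorem sz_subgroups (hm : 1 ≤ m) (M : Subgroup ↥(Cfsg.Sz F m)) (hM : M ≠ ⊤) :
    SzConcl F m M := by
  obtain ⟨c, hc⟩ := exists_sylNorm hF hm M
  apply szConcl_conj c M
  have hM' := map_conj_ne_top M c hM
  generalize M.map (MulAut.conj c).toMonoidHom = M' at hc hM'
  by_cases hP : ∃ z ∈ M', z ∈ Uo hF ∧ z ≠ 1
  · by_cases hB : M' ≤ Bo F m
    · exact caseB1 hF hm M' hB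
    · by_cases hBU : ∀ g ∈ M', g ∈ Bo F m → g ∈ Uo hF
      · exact caseB2 hF hm M' hc hBU hB hP
      · push Not at hBU
        obtain ⟨g, hgM, hgB, hgU⟩ := hBU
        obtain ⟨a, b, t, rfl⟩ := (mem_Bo_iff hF hm).1 hgB
        have ht : t ≠ 1 := by
          rintro rfl
          apply hgU
          rw [dG_one, mul_one]
          exact tG_mem_Uo hF a b
        obtain ⟨x, y, t', e⟩ := TD_conj_D hF hm a b ht
        have ht' : t' ≠ 1 := by
          rintro rfl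
          rw [dG_one] at e
          have h1 : tG hF a b * dG hF t = 1 := by
            have := conj_eq_one_iff (a := (tG hF x y)⁻¹) (b := tG hF a b * dG hF t)
            rw [inv_inv] at this
            exact this.1 e
          have h2 : tG hF a b * dG hF t = tG hF 0 0 * dG hF 1 := by
            rw [h1, tG_zero, dG_one, mul_one]
          exact ht (tG_dG_inj hF h2).2.2
        apply szConcl_conj (tG hF x y)⁻¹ M'
        have hmem : ∀ g ∈ M', (tG hF x y)⁻¹ * g * tG hF x y ∈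
            M'.map (MulAut.conj (tG hF x y)⁻¹).toMonoidHom := by
          intro g hg
          refine ⟨g, hg, ?_⟩
          show (tG hF x y)⁻¹ * g * ((tG hF x y)⁻¹)⁻¹ = _
          rw [inv_inv]
        have hM'' := map_conj_ne_top M' (tG hF x y)⁻¹ hM'
        have hd : dG hF t' ∈ M'.map (MulAut.conj (tG hF x y)⁻¹).toMonoidHom := by
          rw [← e]; exact hmem _ hgM
        have hnB : ¬ M'.map (MulAut.conj (tG hF x y)⁻¹).toMonoidHom ≤ Bo F m := by
          intro h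
          apply hB
          intro g hg
          have h1 := h (hmem g hg)
          have e1 : g = tG hF x y * ((tG hF x y)⁻¹ * g * tG hF x y) * (tG hF x y)⁻¹ := by group
          rw [e1]
          exact mul_mem (mul_mem (tG_mem_Bo hF x y) h1) (inv_mem (tG_mem_Bo hF x y))
        obtain ⟨z, hzM, hzU, hz1⟩ := hP
        have hzU' : (tG hF x y)⁻¹ * z * tG hF x y ∈ Uo hF :=
          mul_mem (mul_mem (inv_mem (tG_mem_Uo hF x y)) hzU) (tG_mem_Uo hF x y)
        obtain ⟨a₂, b₂, e2⟩ := hzU'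
        have hz' := hmem z hzM
        rw [e2] at hz'
        have hne : ¬ (a₂ = 0 ∧ b₂ = 0) := by
          rintro ⟨rfl, rfl⟩
          rw [tG_zero] at e2
          apply hz1
          have := conj_eq_one_iff (a := (tG hF x y)⁻¹) (b := z)
          rw [inv_inv] at this
          exact this.1 e2
        generalize M'.map (MulAut.conj (tG hF x y)⁻¹).toMonoidHom = M'' at hM'' hd hnB hz'
        by_cases ha₂ : a₂ = 0
        · subst ha₂
          have hb₂ : b₂ ≠ 0 := fun h => hne ⟨rfl, h⟩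
          exact caseB3 hF hm M'' hM'' hb₂ hz' ht' hd hnB
        · have hsq := mul_mem hz' hz'
          rw [tG_sq] at hsq
          have hsa : szS F m a₂ ≠ 0 := by simpa using ha₂
          exact caseB3 hF hm M'' hM'' (mul_ne_zero hsa ha₂) hsq ht' hd hnB
  · apply caseA_concl hF hm M'
    intro g hg h4
    obtain ⟨h, hhM, hhU⟩ := hc g hg h4
    by_contra hg1
    exact hP ⟨h * g * h⁻¹, mul_mem (mul_mem hhM hg) (inv_mem hhM), hhU,
      fun e => hg1 (conj_eq_one_iff.1 e)⟩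

end SzSubC

end Cfsg.Agent.Helper60
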