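import Mathlib
import Cfsg.Prelude.Def_LieExceptional
import Cfsg.Agent.Helper60.SzOvoid3
import Cfsg.Agent.Helper60.SzSimple

set_option autoImplicit false
set_option linter.unusedSimpArgs false
set_option linter.unusedVariables false
set_option linter.unusedSectionVars false

namespace Cfsg.Agent.Helper60

open Matrix Cfsg.Agent.Helper6
open Cfsg.Agent.S3639 (gi r0 r1 r2 r3 Jm Jm_mul)

section Bridge
variable {F : Type*} [Field F] [Fintype F] [CharP F 2] {m : ℕ}

/-- conjugation by the antidiagonal matrix -/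
def brM (g : ↥(Cfsg.Lie.Sz F (2 ^ (m + 1)))) : Matrix (Fin 4) (Fin 4) F :=
  Jm F * mat g * Jm F

omit [Fintype F] in
theorem brM_apply (g : ↥(Cfsg.Lie.Sz F (2 ^ (m + 1)))) (i j : Fin 4) :
    brM g i j = mat g (Fin.rev i) (Fin.rev j) := by
  unfold brM
  rw [mul_Jm, Jm_mul']

omit [Fintype F] in
theorem brM_mul (g h : ↥(Cfsg.Lie.Sz F (2 ^ (m + 1)))) : brM (g * h) = brM g * brM h := by
  unfold brM
  rw [mat_mul]
  calc Jm F * (mat g * mat h) * Jm F = Jm F * mat g * 1 * mat h * Jm F := by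
        simp only [Matrix.mul_assoc, Matrix.one_mul]
    _ = Jm F * mat g * Jm F * (Jm F * mat h * Jm F) := by
        rw [← Jm_mul F]
        simp only [Matrix.mul_assoc]

omit [Fintype F] in
theorem brM_one : brM (1 : ↥(Cfsg.Lie.Sz F (2 ^ (m + 1)))) = 1 := by
  unfold brM
  rw [mat_one, Matrix.mul_one, Jm_mul]

omit [Fintype F] in
theorem gi_eq (A : Matrix (Fin 4) (Fin 4) F) : gi A = Jm F * Aᵀ * Jm F := by
  ext i j
  rw [mul_Jm, Jm_mul']
  rfl

omit [Fintype F] in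
theorem Jm_det_sq : (Jm F).det * (Jm F).det = 1 := by
  rw [← Matrix.det_mul, Jm_mul, Matrix.det_one]

omit [Fintype F] in
theorem mat_det (g : ↥(Cfsg.Lie.Sz F (2 ^ (m + 1)))) : (mat g).det = 1 := by
  have h2 : (2 : F) = 0 := CharTwo.two_eq_zero
  have h := congrArg Matrix.det (mat_gi g)
  rw [Matrix.det_mul, gi_eq, Matrix.det_mul, Matrix.det_mul, Matrix.det_transpose,
    Matrix.det_one] at h
  have hJ := Jm_det_sq (F := F)
  have h3 : ((mat g).det - 1) ^ 2 = 0 := by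
    linear_combination h + (1 - (mat g).det) * h2 + (-(mat g).det ^ 2) * hJ
  exact sub_eq_zero.1 ((pow_eq_zero_iff two_ne_zero).1 h3)

omit [Fintype F] in
theorem brM_det (g : ↥(Cfsg.Lie.Sz F (2 ^ (m + 1)))) : (brM g).det = 1 := by
  unfold brM
  rw [Matrix.det_mul, Matrix.det_mul, mat_det]
  have hJ := Jm_det_sq (F := F)
  linear_combination hJ

/-- the bridge, as a homomorphism to the special linear group -/
def brHom : ↥(Cfsg.Lie.Sz F (2 ^ (m + 1))) →* SpecialLinearGroup (Fin 4) F where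
  toFun g := ⟨brM g, brM_det g⟩
  map_one' := Subtype.ext brM_one
  map_mul' g h := Subtype.ext (brM_mul g h)

omit [Fintype F] in
theorem brHom_val (g : ↥(Cfsg.Lie.Sz F (2 ^ (m + 1)))) :
    ((brHom g : SpecialLinearGroup (Fin 4) F) : Matrix (Fin 4) (Fin 4) F) = brM g := rfl

omit [Fintype F] in
theorem brHom_injective :
    Function.Injective (brHom : ↥(Cfsg.Lie.Sz F (2 ^ (m + 1))) →* SpecialLinearGroup (Fin 4) F) := by
  intro g h e
  apply mat_injective
  have e1 : brM g = brM h := congrArg Subtype.val e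
  ext i j
  have e2 := congrFun (congrFun e1 (Fin.rev i)) (Fin.rev j)
  rwa [brM_apply, brM_apply, Fin.rev_rev, Fin.rev_rev] at e2

omit [Fintype F] in
theorem th_eq_szS : th F (m + 1) = szS F m := rfl

omit [Fintype F] in
theorem brHom_uel [SzField F (m + 1)] (x y : F) : brHom (uel F (m + 1) x y) = szT m x y := by
  apply Subtype.ext
  show brM (uel F (m + 1) x y) = szTm m x y
  ext i j
  rw [brM_apply, mat_uel, th_eq_szS]
  fin_cases i <;> fin_cases j <;>
    simp [Umat, szTm, zf, szf, Fin.rev] <;> ring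

omit [Fintype F] in
theorem brHom_jel : brHom (jel F (m + 1)) = szW F := by
  apply Subtype.ext
  show brM (jel F (m + 1)) = szWm F
  ext i j
  rw [brM_apply]
  show Jm F (Fin.rev i) (Fin.rev j) = szWm F i j
  fin_cases i <;> fin_cases j <;> simp [Jm, szWm, Fin.rev]

theorem brHom_tel [SzField F (m + 1)] (hF : Fintype.card F = 2 ^ (2 * m + 1)) (a t : Fˣ)
    (h : (a : F) * (szS F m t * (t : F) ^ 2) = 1) : brHom (tel F (m + 1) a) = szD m t := by
  apply Subtype.ext
  show brM (tel F (m + 1) a) = szDm m t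
  have ha : (a : F) ≠ 0 := a.ne_zero
  have ht : (t : F) ≠ 0 := t.ne_zero
  have hst := szS_unit_ne_zero (m := m) t
  have hsa : szS F m (a : F) ≠ 0 := by simp
  have hss : szS F m (szS F m (t : F)) = (t : F) ^ 2 := szS_szS hF _
  have h' := congrArg (szS F m) h
  rw [map_mul, map_mul, map_pow, hss, map_one] at h'
  have hinv : ((a⁻¹ : Fˣ) : F) = szS F m t * (t : F) ^ 2 := by
    rw [Units.val_inv_eq_inv_val]
    exact inv_eq_of_mul_eq_one_right h
  ext i j
  rw [brM_apply, mat_tel, th_eq_szS, hinv]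
  fin_cases i <;> fin_cases j <;>
    simp [Tmat, szDm, Fin.rev, Matrix.diagonal]
  · rw [hss]
    linear_combination (szS F m (t : F)) * h
  · apply eq_inv_of_mul_eq_one_left
    linear_combination h'
  · rw [← mul_inv]
    apply eq_inv_of_mul_eq_one_left
    linear_combination h

theorem exists_t_of_a (hF : Fintype.card F = 2 ^ (2 * m + 1)) (a : Fˣ) :
    ∃ t : Fˣ, (a : F) * (szS F m t * (t : F) ^ 2) = 1 := by
  obtain ⟨s, hs⟩ := ov_sigma_mul_surj hF ((a⁻¹ : Fˣ) : F)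
  have hs0 : s ≠ 0 := by
    rintro rfl
    rw [map_zero, zero_mul] at hs
    exact (a⁻¹).ne_zero hs.symm
  have hinj : Function.Injective (szS F m) := (szS F m).injective
  obtain ⟨t, ht⟩ := (Finite.injective_iff_surjective.1 hinj) s
  have ht0 : t ≠ 0 := by
    rintro rfl
    rw [map_zero] at ht
    exact hs0 ht.symm
  refine ⟨Units.mk0 t ht0, ?_⟩
  rw [Units.val_mk0, ← szS_szS hF t, ht, mul_comm s, hs]
  exact Units.mul_inv a

theorem brHom_mem [SzField F (m + 1)] (hF : Fintype.card F = 2 ^ (2 * m + 1))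
    (g : ↥(Cfsg.Lie.Sz F (2 ^ (m + 1)))) : brHom g ∈ Cfsg.Sz F m := by
  have hB : ∀ b ∈ Bsub F (m + 1), brHom b ∈ Cfsg.Sz F m := by
    intro b hb
    obtain ⟨a, x, y, rfl⟩ := Bsub_eq hb
    obtain ⟨t, ht⟩ := exists_t_of_a hF a
    rw [map_mul, brHom_uel, brHom_tel hF a t ht]
    exact mul_mem (szT_mem hF x y) (szD_mem hF t)
  rcases mk_cases (QuotientGroup.mk g : _ ⧸ Bsub F (m + 1)) with h | ⟨w, hw, h⟩
  · rw [eq_comm, QuotientGroup.eq, inv_one, one_mul] at h
    exact hB g h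
  · rw [eq_comm, QuotientGroup.eq] at h
    obtain ⟨x, y, rfl⟩ : ∃ x y, w = uel F (m + 1) x y := ⟨_, _, Usub_eq hw⟩
    have e : g = uel F (m + 1) x y * jel F (m + 1) *
        ((uel F (m + 1) x y * jel F (m + 1))⁻¹ * g) := by group
    rw [e, map_mul, map_mul, brHom_uel, brHom_jel]
    exact mul_mem (mul_mem (szT_mem hF _ _) (szW_mem hF)) (hB _ h)

theorem brHom_surj [SzField F (m + 1)] (hm : 1 ≤ m) (hF : Fintype.card F = 2 ^ (2 * m + 1))
    {h : SpecialLinearGroup (Fin 4) F} (hh : h ∈ Cfsg.Sz F m) :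
    ∃ g : ↥(Cfsg.Lie.Sz F (2 ^ (m + 1))), brHom g = h := by
  have hD : ∀ t : Fˣ, ∃ g : ↥(Cfsg.Lie.Sz F (2 ^ (m + 1))), brHom g = szD m t := by
    intro t
    have hst := szS_unit_ne_zero (m := m) t
    have hne : szS F m t * (t : F) ^ 2 ≠ 0 := mul_ne_zero hst (pow_ne_zero 2 t.ne_zero)
    refine ⟨tel F (m + 1) (Units.mk0 _ hne)⁻¹, brHom_tel hF _ t ?_⟩
    rw [Units.val_inv_eq_inv_val, Units.val_mk0, inv_mul_cancel₀ hne]
  have hB : ∀ b ∈ Cfsg.Sz F m,
      b • Cfsg.suzukiPointInfinity F = Cfsg.suzukiPointInfinity F →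
      ∃ g : ↥(Cfsg.Lie.Sz F (2 ^ (m + 1))), brHom g = b := by
    intro b hb hinf
    obtain ⟨x, y, t, rfl⟩ := sz_fix_inf hm hF hb hinf
    obtain ⟨g, hg⟩ := hD t
    exact ⟨uel F (m + 1) x y * g, by rw [map_mul, brHom_uel, hg]⟩
  rcases sz_cases hF hh with h1 | ⟨a, b, k, hk, hkinf, rfl⟩
  · exact hB h hh h1
  · obtain ⟨g, hg⟩ := hB k hk hkinf
    exact ⟨uel F (m + 1) a b * jel F (m + 1) * g, by
      rw [map_mul, map_mul, brHom_uel, brHom_jel, hg]⟩

/-- the isomorphism between the two models of the Suzuki group -/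
noncomputable def szBridge (hm : 1 ≤ m) (hF : Fintype.card F = 2 ^ (2 * m + 1)) :
    ↥(Cfsg.Lie.Sz F (2 ^ (m + 1))) ≃* ↥(Cfsg.Sz F m) :=
  haveI := szField_of_card hF
  MulEquiv.ofBijective (brHom.codRestrict (Cfsg.Sz F m) (brHom_mem hF))
    ⟨fun g h e => brHom_injective (congrArg Subtype.val e),
     fun h => by
      obtain ⟨g, hg⟩ := brHom_surj hm hF h.2
      exact ⟨g, Subtype.ext hg⟩⟩

theorem szBridge_val (hm : 1 ≤ m) (hF : Fintype.card F = 2 ^ (2 * m + 1))
    (g : ↥(Cfsg.Lie.Sz F (2 ^ (m + 1)))) :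
    ((szBridge hm hF g : ↥(Cfsg.Sz F m)) : SpecialLinearGroup (Fin 4) F) = brHom g := rfl

theorem szBridge_uel [SzField F (m + 1)] (hm : 1 ≤ m) (hF : Fintype.card F = 2 ^ (2 * m + 1))
    (x y : F) : szBridge hm hF (uel F (m + 1) x y) = tG hF x y :=
  Subtype.ext (by rw [szBridge_val, brHom_uel]; rfl)

theorem szBridge_jel (hm : 1 ≤ m) (hF : Fintype.card F = 2 ^ (2 * m + 1)) :
    szBridge hm hF (jel F (m + 1)) = wG hF :=
  Subtype.ext (by rw [szBridge_val, brHom_jel]; rfl)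

theorem szBridge_tel [SzField F (m + 1)] (hm : 1 ≤ m) (hF : Fintype.card F = 2 ^ (2 * m + 1))
    (a t : Fˣ) (h : (a : F) * (szS F m t * (t : F) ^ 2) = 1) :
    szBridge hm hF (tel F (m + 1) a) = dG hF t :=
  Subtype.ext (by rw [szBridge_val, brHom_tel hF a t h]; rfl)

end Bridge

end Cfsg.Agent.Helper60
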