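/-
helper60: piece NT1 of helper25's CALL BG18 (row S1538): `K ≠ 1` excludes Type I.
A group of Frobenius type has an element of order `p` acting without fixed points on `M_F`
for each prime `p` dividing `|M|` but not `|M_F|`; for `p ∣ |K|` the Sylow `p`-subgroups of `M`
are cyclic, so that element is a power of a conjugate of an element of `K`, which centralises
`K* ≠ 1` inside `M_F` (S1364).
-/
import Cfsg.Agent.S1364
import Cfsg.Agent.Helper54.BG14T2
import Cfsg.Agent.Helper23.Trans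

set_option autoImplicit false

namespace Cfsg.Agent.Helper60

open Cfsg Subgroup

universe u

/-- In a finite cyclic group, an element of prime order `r` lies in the group generated by any
other element of order `r`. -/
theorem bg18_cyc_mem_zpowers {Q : Type*} [Group Q] [Finite Q] [IsCyclic Q] {r : ℕ} (hr : r.Prime)
    {b c : Q} (hb : orderOf b = r) (hc : orderOf c = r) : b ∈ zpowers c := by
  classical
  have := Fintype.ofFinite Q
  by_contra hbc
  have hle := IsCyclic.card_pow_eq_one_le (α := Q) (n := r) hr.pos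
  let S : Finset Q := (Finset.range r).image (fun i => c ^ i)
  have hScard : S.card = r := by
    rw [Finset.card_image_of_injOn, Finset.card_range]
    intro i hi j hj hij
    have hi' : i < orderOf c := by rw [hc]; exact Finset.mem_range.mp hi
    have hj' : j < orderOf c := by rw [hc]; exact Finset.mem_range.mp hj
    exact pow_injOn_Iio_orderOf hi' hj' hij
  have hbS : b ∉ S := by
    intro hbS
    obtain ⟨i, -, hi⟩ := Finset.mem_image.mp hbS
    exact hbc (hi ▸ Subgroup.pow_mem _ (Subgroup.mem_zpowers c) i)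
  have h1 : (insert b S).card ≤ r := by
    refine le_trans (Finset.card_le_card ?_) hle
    intro x hx
    rw [Finset.mem_filter]
    refine ⟨Finset.mem_univ _, ?_⟩
    rcases Finset.mem_insert.mp hx with rfl | hx
    · rw [← hb]; exact pow_orderOf_eq_one _
    · obtain ⟨i, -, rfl⟩ := Finset.mem_image.mp hx
      rw [← pow_mul, mul_comm, pow_mul, ← hc, pow_orderOf_eq_one, one_pow]
  rw [Finset.card_insert_of_notMem hbS, hScard] at h1
  omega

/-- If the Sylow `r`-subgroups of `H` are cyclic, two elements of order `r` generate conjugate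
subgroups. -/
theorem bg18_conj_of_cyclic_sylow {H : Type u} [Group H] [Finite H] {r : ℕ} [Fact r.Prime]
    (hc : ∀ P : Sylow r H, IsCyclic (P : Subgroup H)) {a b : H} (ha : orderOf a = r)
    (hb : orderOf b = r) : ∃ m : H, b ∈ zpowers (m * a * m⁻¹) := by
  have hr : r.Prime := Fact.out
  have hpa : IsPGroup r (zpowers a) :=
    IsPGroup.of_card (n := 1) (by rw [Nat.card_zpowers, ha, pow_one])
  have hpb : IsPGroup r (zpowers b) :=
    IsPGroup.of_card (n := 1) (by rw [Nat.card_zpowers, hb, pow_one])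
  obtain ⟨P, hP⟩ := hpa.exists_le_sylow
  obtain ⟨Q, hQ⟩ := hpb.exists_le_sylow
  obtain ⟨m, hm⟩ := MulAction.exists_smul_eq H P Q
  refine ⟨m, ?_⟩
  have haP : a ∈ (P : Subgroup H) := hP (mem_zpowers a)
  have hbQ : b ∈ (Q : Subgroup H) := hQ (mem_zpowers b)
  have hcQ : m * a * m⁻¹ ∈ (Q : Subgroup H) := by
    rw [← hm, Sylow.coe_subgroup_smul]
    have h := Subgroup.smul_mem_pointwise_smul a (MulAut.conj m) (P : Subgroup H) haP
    simpa [MulAut.smul_def] using h
  have := hc Q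
  have hco : orderOf (m * a * m⁻¹) = r := by
    have h := MulEquiv.orderOf_eq (MulAut.conj m) a
    rw [MulAut.conj_apply] at h
    rw [h, ha]
  have key := bg18_cyc_mem_zpowers (Q := ↥(Q : Subgroup H)) hr (b := ⟨b, hbQ⟩)
    (c := ⟨m * a * m⁻¹, hcQ⟩) (by rw [Subgroup.orderOf_mk]; exact hb)
    (by rw [Subgroup.orderOf_mk]; exact hco)
  obtain ⟨j, hj⟩ := Subgroup.mem_zpowers_iff.mp key
  rw [Subgroup.mem_zpowers_iff]
  refine ⟨j, ?_⟩
  have h := congrArg Subtype.val hj
  simpa using h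

/-- In a group of Frobenius type, for a prime `r` dividing `|H|` but not `|H_F|` there is an
element of order `r` acting without fixed points on `H_F`. -/
theorem bg18_typeF_elt {H : Type u} [Group H] [Finite H] (hF : IsOfTypeF H) {r : ℕ}
    (hr : r.Prime) (hrd : r ∣ Nat.card H) (hrF : ¬ r ∣ Nat.card (fittingHall H)) :
    ∃ u : H, orderOf u = r ∧ ∀ x ∈ fittingHall H, u * x = x * u → x = 1 := by
  obtain ⟨-, -, -, -, U, -, hcompl, -, U₀, hU₀U, hexp, hfpf⟩ := hF
  have := Fact.mk hr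
  have hcard : Nat.card (fittingHall H) * Nat.card U = Nat.card H := hcompl.card_mul_card
  have hrU : r ∣ Nat.card U := by
    rw [← hcard] at hrd
    exact (hr.dvd_mul.mp hrd).resolve_left hrF
  obtain ⟨v, hv⟩ := exists_prime_orderOf_dvd_card' (G := U) r hrU
  have h1 : r ∣ Monoid.exponent U := hv ▸ Monoid.order_dvd_exponent v
  rw [← hexp] at h1
  have h2 : r ∣ Nat.card U₀ := h1.trans Group.exponent_dvd_nat_card
  obtain ⟨w, hw⟩ := exists_prime_orderOf_dvd_card' (G := U₀) r h2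
  refine ⟨(w : H), by rw [Subgroup.orderOf_coe]; exact hw, ?_⟩
  intro x hx hcomm
  refine hfpf (w : H) w.2 ?_ x hx hcomm
  intro h1'
  have h3 : orderOf (w : H) = 1 := by rw [h1']; exact orderOf_one
  rw [Subgroup.orderOf_coe, hw] at h3
  exact hr.one_lt.ne' h3

variable {G : Type u} [Group G] [Finite G]

/-- NT1. `K ≠ 1`: `M` is not of Type I. -/
theorem bg18_not_I (hG : IsMinSimpleOddOrder G) {M K U : Subgroup G} (hM : IsCoatom M)
    (hKU : IsSigmaDecomposition M K U) (hK1 : K ≠ ⊥) : ¬ IsOfTypeI M := by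
  intro hI
  have hF : IsOfTypeF ↥M := hI.1
  have hKcard : Nat.card K ≠ 1 := by
    intro h
    exact hK1 (Subgroup.card_eq_one.mp h)
  obtain ⟨p, hp, hpK⟩ := Nat.exists_prime_and_dvd hKcard
  have := Fact.mk hp
  have hpκ : p ∈ kappa M := hKU.hall.2.1 p hp hpK
  obtain ⟨-, hpM, hpσ, hcyc⟩ := hpκ
  have hpF : ¬ p ∣ Nat.card (fittingHall ↥M) := by
    intro hd
    have h1 : Nat.card (fittingHallOf M) = Nat.card (fittingHall ↥M) :=
      Subgroup.card_map_of_injective M.subtype_injective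
    rw [← h1] at hd
    exact hpσ (Cfsg.Agent.Helper23.mem_of_dvd_card_piCoreOf (sigma M) M hp
      (hd.trans (Subgroup.card_dvd_of_le (Cfsg.Agent.Helper54.bg14t_fittingHall_le hG hM))))
  obtain ⟨u, huo, hureg⟩ := bg18_typeF_elt hF hp hpM hpF
  obtain ⟨k', hk'⟩ := exists_prime_orderOf_dvd_card' (G := K) p hpK
  have hkM : (k' : G) ∈ M := hKU.hall.1 k'.2
  have hko : orderOf (⟨(k' : G), hkM⟩ : ↥M) = p := by
    rw [Subgroup.orderOf_mk, Subgroup.orderOf_coe]
    exact hk'
  obtain ⟨m, hm⟩ := bg18_conj_of_cyclic_sylow (fun P => (hcyc P).1) hko huo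
  obtain ⟨-, hKs1, hKsF, -⟩ := Cfsg.Agent.S1364.result hG M hM K U hKU hK1
  obtain ⟨⟨y, hy⟩, hyne⟩ := Subgroup.ne_bot_iff_exists_ne_one.mp hKs1
  have hy1 : y ≠ 1 := fun h => hyne (Subtype.ext h)
  obtain ⟨y', hy'F, hy'⟩ := Subgroup.mem_map.mp (hKsF hy)
  have hky : (k' : G) * y = y * (k' : G) :=
    Subgroup.mem_centralizer_iff.mp hy.2 (k' : G) k'.2
  have hkcomm : (⟨(k' : G), hkM⟩ : ↥M) * y' = y' * ⟨(k' : G), hkM⟩ := by
    apply Subtype.ext
    rw [Subgroup.coe_mul, Subgroup.coe_mul]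
    have h2 : ((y' : ↥M) : G) = y := hy'
    rw [h2]
    exact hky
  have hxF : m * y' * m⁻¹ ∈ fittingHall ↥M := (fittingHall_normal ↥M).conj_mem y' hy'F m
  have hc1 : Commute (m * ⟨(k' : G), hkM⟩ * m⁻¹) (m * y' * m⁻¹) := by
    have h3 : (m * ⟨(k' : G), hkM⟩ * m⁻¹) * (m * y' * m⁻¹)
        = m * (⟨(k' : G), hkM⟩ * y') * m⁻¹ := by group
    have h4 : (m * y' * m⁻¹) * (m * ⟨(k' : G), hkM⟩ * m⁻¹)
        = m * (y' * ⟨(k' : G), hkM⟩) * m⁻¹ := by group
    show (m * ⟨(k' : G), hkM⟩ * m⁻¹) * (m * y' * m⁻¹)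
      = (m * y' * m⁻¹) * (m * ⟨(k' : G), hkM⟩ * m⁻¹)
    rw [h3, h4, hkcomm]
  obtain ⟨j, hj⟩ := Subgroup.mem_zpowers_iff.mp hm
  have hc2 : u * (m * y' * m⁻¹) = (m * y' * m⁻¹) * u := by
    rw [← hj]
    exact (Commute.zpow_left hc1 j).eq
  have hx1 := hureg _ hxF hc2
  have hy'1 : y' = 1 := by
    have h5 : y' = m⁻¹ * (m * y' * m⁻¹) * m := by group
    rw [h5, hx1]
    group
  apply hy1
  rw [← hy', hy'1]
  rfl

end Cfsg.Agent.Helper60
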