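import Cfsg.Agent.Helper24.BG14B1
import Cfsg.Agent.S1403

/-!
# CALL BGC, piece CP
-/

set_option autoImplicit false

namespace Cfsg.Agent.Helper60

open Cfsg Subgroup

universe u

variable {G : Type u} [Group G] [Finite G]

omit [Finite G] in
/-- the centralizer of `x ∈ E` splits along a complement decomposition `N = E S` -/
theorem bgc_cp_cent_compl {N S E : Subgroup G} (hE : IsComplIn E S N)
    (hSn : N ≤ normalizer (S : Set G)) {x : G} (hx : x ∈ E)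
    (hCN : centralizer ({x} : Set G) ≤ N) :
    IsComplIn (E ⊓ centralizer ({x} : Set G)) (S ⊓ centralizer ({x} : Set G))
      (centralizer ({x} : Set G)) := by
  have hcx : ∀ c, c ∈ centralizer ({x} : Set G) ↔ x * c = c * x := by
    intro c
    rw [Subgroup.mem_centralizer_iff]
    constructor
    · intro h
      exact h x rfl
    · intro h y hy
      rw [Set.mem_singleton_iff.1 hy]
      exact h
  refine ⟨inf_le_right, inf_le_right, ?_, ?_⟩
  · rw [eq_bot_iff, ← hE.2.2.1]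
    exact inf_le_inf inf_le_left inf_le_left
  · intro c hc
    have hcx' := (hcx c).1 hc
    obtain ⟨e₀, he₀, s₀, hs₀, rfl⟩ := hE.2.2.2 c (hCN hc)
    have hxN : x ∈ N := hE.1 hx
    have hxn := hSn hxN
    rw [Subgroup.mem_normalizer_iff] at hxn
    have hk1 : e₀⁻¹ * x * e₀ * x⁻¹ ∈ E :=
      E.mul_mem (E.mul_mem (E.mul_mem (E.inv_mem he₀) hx) he₀) (E.inv_mem hx)
    have hk2 : e₀⁻¹ * x * e₀ * x⁻¹ = s₀ * (x * s₀⁻¹ * x⁻¹) := by
      have h1 : e₀⁻¹ * x * e₀ = s₀ * x * s₀⁻¹ := by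
        calc e₀⁻¹ * x * e₀ = e₀⁻¹ * (x * (e₀ * s₀)) * s₀⁻¹ := by group
          _ = e₀⁻¹ * (e₀ * s₀ * x) * s₀⁻¹ := by rw [hcx']
          _ = s₀ * x * s₀⁻¹ := by group
      rw [h1]
      group
    have hk3 : s₀ * (x * s₀⁻¹ * x⁻¹) ∈ S := S.mul_mem hs₀ ((hxn s₀⁻¹).1 (S.inv_mem hs₀))
    have hk : e₀⁻¹ * x * e₀ * x⁻¹ = 1 := by
      have h1 : e₀⁻¹ * x * e₀ * x⁻¹ ∈ E ⊓ S := ⟨hk1, hk2 ▸ hk3⟩
      rw [hE.2.2.1] at h1
      exact Subgroup.mem_bot.1 h1
    have he₀x : x * e₀ = e₀ * x := by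
      have h1 : x * e₀ = e₀ * (e₀⁻¹ * x * e₀ * x⁻¹) * x := by group
      rw [h1, hk, mul_one]
    have hs₀x : x * s₀ = s₀ * x := by
      have h1 : e₀ * (x * s₀) = e₀ * (s₀ * x) := by
        calc e₀ * (x * s₀) = (e₀ * x) * s₀ := by group
          _ = x * e₀ * s₀ := by rw [he₀x]
          _ = x * (e₀ * s₀) := by group
          _ = e₀ * s₀ * x := hcx'
          _ = e₀ * (s₀ * x) := by group
      exact mul_left_cancel h1
    exact ⟨e₀, ⟨he₀, (hcx e₀).2 he₀x⟩, s₀, ⟨hs₀, (hcx s₀).2 hs₀x⟩, rfl⟩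

/-- CP. Coprimality for S1374. -/
theorem bgc_coprime (hG : IsMinSimpleOddOrder G) {M N : Subgroup G} (hM : IsCoatom M)
    (hN : IsCoatom N) (hE : IsComplIn (M ⊓ N) (sigmaCore N) N) {x : G} (hxM : x ∈ M)
    (hxN : centralizer ({x} : Set G) ≤ N) :
    (Nat.card ↥(M ⊓ centralizer ({x} : Set G))).Coprime
      ((M ⊓ centralizer ({x} : Set G)).relIndex (centralizer ({x} : Set G))) := by
  have hU : Cfsg.Agent.Helper22.BGUniq G :=
    fun K hK h1 h2 => Cfsg.Agent.S1403.result hG K hK h1 h2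
  obtain ⟨hH, -, -⟩ := Cfsg.Agent.Helper22.bg10_sigma_hall hG hU hN
  have hxC : x ∈ centralizer ({x} : Set G) := by
    rw [Subgroup.mem_centralizer_iff]
    intro y hy
    rw [Set.mem_singleton_iff.1 hy]
  have hxE : x ∈ M ⊓ N := ⟨hxM, hxN hxC⟩
  have hSn : N ≤ normalizer (sigmaCore N : Set G) :=
    Cfsg.Agent.Helper23.le_normalizer_piCoreOf (sigma N) N
  have hCD := bgc_cp_cent_compl hE hSn hxE hxN
  have hMC : M ⊓ centralizer ({x} : Set G) = (M ⊓ N) ⊓ centralizer ({x} : Set G) := by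
    rw [inf_assoc, inf_eq_right.2 hxN]
  rw [hMC]
  obtain ⟨C, hC⟩ : ∃ C : Subgroup G, C = centralizer ({x} : Set G) := ⟨_, rfl⟩
  rw [← hC] at hCD ⊢
  have hcardC := Cfsg.Agent.Helper23.card_of_isComplIn _ _ _ hCD
  have hrel : ((M ⊓ N) ⊓ C).relIndex C = Nat.card ↥(sigmaCore N ⊓ C) := by
    have h1 := Subgroup.relIndex_mul_relIndex ⊥ ((M ⊓ N) ⊓ C) C bot_le inf_le_right
    rw [Subgroup.relIndex_bot_left, Subgroup.relIndex_bot_left, hcardC] at h1
    exact Nat.eq_of_mul_eq_mul_left Nat.card_pos h1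
  rw [hrel]
  have hcardN := Cfsg.Agent.Helper23.card_of_isComplIn _ _ _ hE
  have hcop : (Nat.card ↥(sigmaCore N)).Coprime (Nat.card ↥(M ⊓ N)) := by
    apply Nat.coprime_of_dvd
    intro p hp hpS hpE
    have hpσ := hH.2.1 p hp hpS
    have hnd := hH.2.2 p hp hpσ
    have h1 := Subgroup.relIndex_mul_relIndex ⊥ (sigmaCore N) N bot_le hH.1
    rw [Subgroup.relIndex_bot_left, Subgroup.relIndex_bot_left, hcardN,
      mul_comm (Nat.card ↥(M ⊓ N))] at h1
    have h3 := Nat.eq_of_mul_eq_mul_left Nat.card_pos h1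
    rw [h3] at hnd
    exact hnd hpE
  exact Nat.Coprime.coprime_dvd_left (Subgroup.card_dvd_of_le inf_le_left)
    (Nat.Coprime.coprime_dvd_right (Subgroup.card_dvd_of_le inf_le_left) hcop.symm)

end Cfsg.Agent.Helper60
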