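import Cfsg.Agent.Helper24.BG14B1
import Cfsg.Agent.Helper41.BG13P1
import Cfsg.Agent.S1403

/-!
# CALL BGC, piece SC
-/

set_option autoImplicit false

namespace Cfsg.Agent.Helper60

open Cfsg Subgroup
open scoped Pointwise

universe u

variable {G : Type u} [Group G] [Finite G]

/-- `σ` of a conjugate. -/
theorem bgc_sigma_conj (M : Subgroup G) (g : G) :
    sigma (MulAut.conj g • M) = sigma M := by
  ext p
  constructor
  · intro hp
    have h1 := Cfsg.Agent.Helper41.bg13_sigma_conj hp g⁻¹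
    rwa [Cfsg.Agent.Helper35.conj_smul_conj_smul, inv_mul_cancel, map_one, one_smul] at h1
  · intro hp
    exact Cfsg.Agent.Helper41.bg13_sigma_conj hp g

/-- SC. `σ`-core of a conjugate. -/
theorem bgc_sigmaCore_conj (hG : IsMinSimpleOddOrder G) {M : Subgroup G} (hM : IsCoatom M)
    (g : G) :
    sigmaCore (M.map (MulAut.conj g).toMonoidHom) =
      (sigmaCore M).map (MulAut.conj g).toMonoidHom := by
  have hU : Cfsg.Agent.Helper22.BGUniq G :=
    fun K hK h1 h2 => Cfsg.Agent.S1403.result hG K hK h1 h2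
  rw [← Cfsg.Agent.Helper23.smul_eq_map_conj, ← Cfsg.Agent.Helper23.smul_eq_map_conj]
  have hM' : IsCoatom (MulAut.conj g • M) := Cfsg.Agent.Helper23.isCoatom_conj_smul g hM
  obtain ⟨hH, -, -⟩ := Cfsg.Agent.Helper22.bg10_sigma_hall hG hU hM
  obtain ⟨-, -, huniq⟩ := Cfsg.Agent.Helper22.bg10_sigma_hall hG hU hM'
  symm
  apply huniq
  · exact Cfsg.Agent.Helper35.conj_smul_le_normalizer
      (Cfsg.Agent.Helper23.le_normalizer_piCoreOf (sigma M) M) g
  · have hle : MulAut.conj g • sigmaCore M ≤ MulAut.conj g • M :=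
      Cfsg.Agent.Helper35.conj_smul_le_conj_smul hH.1
    refine ⟨hle, ?_, ?_⟩
    · intro p hp hdvd
      rw [Cfsg.Agent.Helper35.card_conj_smul] at hdvd
      rw [bgc_sigma_conj]
      exact hH.2.1 p hp hdvd
    · intro p hp hpσ
      rw [bgc_sigma_conj] at hpσ
      have h1 := Subgroup.relIndex_mul_relIndex ⊥ (sigmaCore M) M bot_le hH.1
      have h2 := Subgroup.relIndex_mul_relIndex ⊥ (MulAut.conj g • sigmaCore M)
        (MulAut.conj g • M) bot_le hle
      rw [Subgroup.relIndex_bot_left, Subgroup.relIndex_bot_left] at h1 h2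
      rw [Cfsg.Agent.Helper35.card_conj_smul, Cfsg.Agent.Helper35.card_conj_smul, ← h1] at h2
      have h3 : (MulAut.conj g • sigmaCore M).relIndex (MulAut.conj g • M)
          = (sigmaCore M).relIndex M :=
        Nat.eq_of_mul_eq_mul_left Nat.card_pos h2
      rw [h3]
      exact hH.2.2 p hp hpσ

end Cfsg.Agent.Helper60
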