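import Cfsg.Agent.Helper24.BG14B1
import Cfsg.Agent.S1378
import Cfsg.Agent.S1409
import Cfsg.Agent.S1424

/-!
# CALL BGC, piece ST
-/

set_option autoImplicit false

namespace Cfsg.Agent.Helper60

open Cfsg Subgroup

universe u

variable {G : Type u} [Group G] [Finite G]

/-- ST (S1424 + S1378 + S1409 + `Helper24.bg14_compl_of_norm`). -/
theorem bgc_struct (hG : IsMinSimpleOddOrder G) {M N X₀ : Subgroup G} {u : ℕ} (hM : IsCoatom M)
    (hN : IsCoatom N) (hNM : N ≠ M) (hu : u.Prime) (hX₀ : Nat.card X₀ = u)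
    (hX₀M : X₀ ≤ sigmaCore M) (hNX : normalizer (X₀ : Set G) ≤ N) :
    (∀ g : G, N ≠ M.map (MulAut.conj g).toMonoidHom) ∧ (∀ q : ℕ, q ∈ sigma M → q ∉ sigma N) ∧
      u ∈ tau2 N ∧ IsComplIn (M ⊓ N) (sigmaCore N) N := by
  have hfu : Fact u.Prime := ⟨hu⟩
  have huM : u ∈ sigma M := by
    apply Cfsg.Agent.Helper23.mem_of_dvd_card_piCoreOf (sigma M) M hu
    have h1 : Nat.card X₀ ∣ Nat.card (sigmaCore M) := Subgroup.card_dvd_of_le hX₀M
    rw [hX₀] at h1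
    exact h1
  have hXu : IsPGroup u X₀ := IsPGroup.of_card (n := 1) (by rw [hX₀, pow_one])
  have hX1 : X₀ ≠ ⊥ := by
    intro h
    rw [h, Subgroup.card_bot] at hX₀
    exact hu.one_lt.ne' hX₀.symm
  have hXM : X₀ ≤ M := hX₀M.trans (Subgroup.map_subtype_le _)
  have hXMN : X₀ ≤ M ⊓ N := le_inf hXM (le_normalizer.trans hNX)
  obtain ⟨S, hSsyl, hXS⟩ := Cfsg.Agent.Helper23.exists_isSylowOf_ge hXu hXMN
  obtain ⟨S₀, hS₀⟩ := hSsyl.exists_sylow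
  have hS₀map : (S₀ : Subgroup ↥(M ⊓ N)).map (M ⊓ N).subtype = S := by
    rw [hS₀, Subgroup.map_subgroupOf_eq_of_le hSsyl.1]
  obtain ⟨hconj, -, -⟩ := Cfsg.Agent.S1424.result hG M hM u huM X₀ hXu hX1 hXM N hN hNM hNX S₀
    (by rw [hS₀map]; exact hXS)
  have hdisj : ∀ q : ℕ, q ∈ sigma M → q ∉ sigma N := by
    intro q hqM hqN
    obtain ⟨g, hg⟩ := (Cfsg.Agent.S1378.result hG).2 M N hM hN ⟨q, hqM, hqN⟩
    exact hconj g hg
  have huN : u ∉ sigma N := hdisj u huM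
  refine ⟨hconj, hdisj, ?_, ?_⟩
  · obtain ⟨hrank, -, -⟩ := Cfsg.Agent.S1409.result hG N hN u huN X₀ hX₀ hNX
    exact ⟨hu, huN, hrank.1, hrank.2⟩
  · exact Cfsg.Agent.Helper24.bg14_compl_of_norm hG hM hN hNM huM huN hXM hXu hX1 hNX

end Cfsg.Agent.Helper60
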