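import Mathlib
import Cfsg.Agent.Helper60.MDTools

/-!
# S2332, piece MSIOTA: the embedding `SL(ker φ) → SL(V)` into the normaliser of `Qsub φ`
-/

set_option autoImplicit false

namespace Cfsg.Agent.Helper60

open Module Cfsg.Agent.Helper90.MD Cfsg.Agent.Helper60.MinIdx Cfsg.Agent.Helper60.MD

section
variable {F V0 : Type*} [Field F] [Finite F] [AddCommGroup V0] [Module F V0] [Module.Finite F V0]

theorem exists_iota (hn : 3 ≤ finrank F V0) {φ : Dual F V0} (hφ : φ ≠ 0) :
    ∃ (ι : SpecialLinearGroup F (LinearMap.ker φ) →* SpecialLinearGroup F V0)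
      (γ : SpecialLinearGroup F (LinearMap.ker φ)) (ψ : Dual F V0) (b : V0),
      (∀ e, ι e ∈ normSub (Qsub φ)) ∧ LinearIndependent F ![φ, ψ] ∧ φ b = 0 ∧ ψ b = 0 ∧ b ≠ 0 ∧
        ι γ = tv ψ b := by
  classical
  obtain ⟨e₀, he₀⟩ : ∃ e₀, φ e₀ = 1 := by
    obtain ⟨x, hx⟩ : ∃ x, φ x ≠ 0 := by
      by_contra h
      exact hφ (LinearMap.ext fun y => by_contra fun hy => h ⟨y, hy⟩)
    exact ⟨(φ x)⁻¹ • x, by rw [map_smul, smul_eq_mul, inv_mul_cancel₀ hx]⟩
  have hK : 2 ≤ finrank F (LinearMap.ker φ) := by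
    have := Module.Dual.finrank_ker_add_one_of_ne_zero hφ
    omega
  let π : V0 →ₗ[F] LinearMap.ker φ :=
    LinearMap.codRestrict (LinearMap.ker φ) (LinearMap.id - φ.smulRight e₀) (fun v => by
      rw [LinearMap.mem_ker, LinearMap.sub_apply, LinearMap.id_apply, LinearMap.smulRight_apply,
        map_sub, map_smul, he₀, smul_eq_mul, mul_one, sub_self])
  have hπ : ∀ v : V0, ((π v : LinearMap.ker φ) : V0) = v - φ v • e₀ := fun v => rfl
  have hπK : ∀ x : LinearMap.ker φ, π (x : V0) = x := by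
    intro x
    apply Subtype.ext
    rw [hπ, LinearMap.mem_ker.mp x.2, zero_smul, sub_zero]
  have hπe : π e₀ = 0 := by
    apply Subtype.ext
    rw [hπ, he₀, one_smul, sub_self]
    rfl
  have hdec : ∀ v : V0, ((π v : LinearMap.ker φ) : V0) + φ v • e₀ = v := by
    intro v
    rw [hπ]
    abel
  let P : SpecialLinearGroup F (LinearMap.ker φ) → SpecialLinearGroup F V0 → Prop :=
    fun e g => (∀ x : LinearMap.ker φ, g (x : V0) = ((e x : LinearMap.ker φ) : V0)) ∧ g e₀ = e₀
  have hval : ∀ e g, P e g →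
      ∀ v : V0, g v = ((e (π v) : LinearMap.ker φ) : V0) + φ v • e₀ := by
    intro e g hP v
    calc g v = g (((π v : LinearMap.ker φ) : V0) + φ v • e₀) := by rw [hdec v]
      _ = _ := by rw [sl_map_add, sl_map_smul, hP.1, hP.2]
  have huniq : ∀ e g g', P e g → P e g' → g = g' := by
    intro e g g' h h'
    apply SpecialLinearGroup.ext
    intro v
    rw [hval e g h, hval e g' h']
  have hPtv : ∀ (f : Dual F (LinearMap.ker φ)) (a : LinearMap.ker φ), f a = 0 →
      P (tv f a) (tv (f ∘ₗ π) (a : V0)) := by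
    intro f a hfa
    have h0 : (f ∘ₗ π) (a : V0) = 0 := by rw [LinearMap.comp_apply, hπK, hfa]
    refine ⟨fun x => ?_, ?_⟩
    · rw [tv_apply h0, tv_apply hfa, LinearMap.comp_apply, hπK]
      rfl
    · rw [tv_apply h0, LinearMap.comp_apply, hπe, map_zero, zero_smul, add_zero]
  let E : Subgroup (SpecialLinearGroup F (LinearMap.ker φ)) :=
    { carrier := {e | ∃ g : SpecialLinearGroup F V0, P e g}
      one_mem' := ⟨1, fun x => rfl, rfl⟩
      mul_mem' := by
        rintro e₁ e₂ ⟨g₁, h₁, h₁'⟩ ⟨g₂, h₂, h₂'⟩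
        refine ⟨g₁ * g₂, fun x => ?_, ?_⟩
        · rw [sl_mul_apply, h₂, h₁, sl_mul_apply]
        · rw [sl_mul_apply, h₂', h₁']
      inv_mem' := by
        rintro e₁ ⟨g₁, h₁, h₁'⟩
        refine ⟨g₁⁻¹, fun x => ?_, ?_⟩
        · have h3 : g₁ ((e₁⁻¹ x : LinearMap.ker φ) : V0) = (x : V0) := by
            rw [h₁, sl_apply_inv_apply]
          rw [← h3, sl_inv_apply_apply]
        · calc g₁⁻¹ e₀ = g₁⁻¹ (g₁ e₀) := by rw [h₁']
            _ = e₀ := sl_inv_apply_apply _ _ }
  have hE : E = ⊤ := by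
    apply tv_generate hK
    intro f a hfa
    exact ⟨_, hPtv f a hfa⟩
  have hex : ∀ e : SpecialLinearGroup F (LinearMap.ker φ),
      ∃ g : SpecialLinearGroup F V0, P e g := by
    intro e
    have h1 : e ∈ E := by rw [hE]; trivial
    exact h1
  let ι : SpecialLinearGroup F (LinearMap.ker φ) →* SpecialLinearGroup F V0 :=
    { toFun := fun e => Classical.choose (hex e)
      map_one' := huniq 1 _ 1 (Classical.choose_spec (hex 1)) ⟨fun x => rfl, rfl⟩
      map_mul' := fun e e' => huniq (e * e') _ _ (Classical.choose_spec (hex (e * e')))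
        ⟨fun x => by
          rw [sl_mul_apply, (Classical.choose_spec (hex e')).1,
            (Classical.choose_spec (hex e)).1, sl_mul_apply],
         by rw [sl_mul_apply, (Classical.choose_spec (hex e')).2,
            (Classical.choose_spec (hex e)).2]⟩ }
  have hι : ∀ e, P e (ι e) := fun e => Classical.choose_spec (hex e)
  have hpos : 0 < finrank F (LinearMap.ker φ) := by omega
  obtain ⟨b', hb'⟩ : ∃ b' : LinearMap.ker φ, b' ≠ 0 :=
    Module.finrank_pos_iff_exists_ne_zero.mp hpos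
  obtain ⟨c', hc'⟩ := exists_linearIndependent_pair_of_one_lt_finrank
    (show 1 < finrank F (LinearMap.ker φ) by omega) hb'
  have hc'' : c' ∉ Submodule.span F {b'} := by
    intro h
    obtain ⟨β, hβ⟩ := Submodule.mem_span_singleton.mp h
    rw [LinearIndependent.pair_iff] at hc'
    have h1 := (hc' β (-1) (by rw [hβ, neg_smul, one_smul, add_neg_cancel])).2
    exact one_ne_zero (neg_eq_zero.mp h1)
  obtain ⟨ψ₀, hψ₀b, hψ₀c⟩ := exists_dual_zero_one hc''
  refine ⟨ι, tv ψ₀ b', ψ₀ ∘ₗ π, (b' : V0), ?_, ?_, LinearMap.mem_ker.mp b'.2, ?_, ?_, ?_⟩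
  · intro e
    have h1 : ∀ v : V0, φ (ι e v) = φ v := by
      intro v
      rw [hval e _ (hι e), map_add, map_smul, he₀, LinearMap.mem_ker.mp (e (π v)).2, zero_add,
        smul_eq_mul, mul_one]
    have h2 : cg (ι e) φ = (1 : F) • φ := by
      ext v
      rw [cg_apply, one_smul, ← h1 ((ι e)⁻¹ v), sl_apply_inv_apply]
    exact normBy_qsub_of_cg one_ne_zero h2
  · rw [LinearIndependent.pair_iff]
    intro s t hst
    have h1 := congrArg (fun f : Dual F V0 => f e₀) hst
    simp only [LinearMap.add_apply, LinearMap.smul_apply, LinearMap.comp_apply, hπe, map_zero,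
      he₀, smul_eq_mul, mul_one, mul_zero, add_zero, LinearMap.zero_apply] at h1
    have h2 := congrArg (fun f : Dual F V0 => f (c' : V0)) hst
    simp only [LinearMap.add_apply, LinearMap.smul_apply, LinearMap.comp_apply, hπK, hψ₀c, h1,
      smul_eq_mul, mul_one, zero_mul, zero_add, LinearMap.zero_apply] at h2
    exact ⟨h1, h2⟩
  · rw [LinearMap.comp_apply, hπK, hψ₀b]
  · intro h
    exact hb' (Subtype.ext h)
  · exact huniq _ _ _ (hι _) (hPtv ψ₀ b' hψ₀b)

end

end Cfsg.Agent.Helper60
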