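import Mathlib
import Cfsg.Agent.Helper60.MDTools
import Cfsg.Agent.Helper66.MDMSNORM

/-!
# S2332, piece MST4: property (T) at level one for `n = 4`, `q ≥ 4`
-/

set_option autoImplicit false

namespace Cfsg.Agent.Helper60

open Module Cfsg.Agent.Helper90.MD Cfsg.Agent.Helper60.MinIdx Cfsg.Agent.Helper60.MD

section
variable {F V0 : Type*} [Field F] [AddCommGroup V0] [Module F V0]

/-- A character of `Qsub φ` trivial on `[Qsub φ, tv ψ b]` kills the transvections with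
centre on the line `F b`. -/
theorem md_bsub_kl {φ ψ : Dual F V0} {b : V0} (hli : LinearIndependent F ![φ, ψ])
    (hφb : φ b = 0) (hψb : ψ b = 0) {lam : SpecialLinearGroup F V0 → ℂ}
    (htriv : ∀ x ∈ bsub (Qsub φ) (tv ψ b), lam x = 1) : ∀ t : F, lam (tv φ (t • b)) = 1 := by
  obtain ⟨-, ⟨a₁, hφa₁, hψa₁⟩⟩ := indep2_sep hli
  intro t
  apply htriv
  have h1 : φ ((-t) • a₁) = 0 := by rw [map_smul, hφa₁, smul_zero]
  have h2 := Cfsg.Agent.Helper66.msnorm_comm_gen (ψ := φ) (ψ' := ψ) (b := b) (c := (-t) • a₁)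
    h1 hφb hψb
  have h3 : -(ψ ((-t) • a₁) • b) = t • b := by
    rw [map_smul, hψa₁, smul_eq_mul, mul_one, neg_smul, neg_neg]
  rw [h3] at h2
  rw [← h2]
  exact Subgroup.subset_closure ⟨tv φ ((-t) • a₁), ⟨_, h1, rfl⟩, rfl⟩

/-- The commutator case: a second vector of the kernel of the character in `ker ψ`. -/
theorem md_propT_comm {φ ψ : Dual F V0} {b c₂ : V0} {lam : SpecialLinearGroup F V0 → ℂ}
    (hlam : IsCharOn (Qsub φ) lam) (hφb : φ b = 0) (hψb : ψ b = 0)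
    (hbK : ∀ t : F, lam (tv φ (t • b)) = 1) (hφc : φ c₂ = 0) (hψc : ψ c₂ = 0)
    (hcK : ∀ t : F, lam (tv φ (t • c₂)) = 1) (hc : c₂ ∉ Submodule.span F {b}) :
    tv ψ b ∈ commSet (stabSet ⊤ (Qsub φ) lam) := by
  obtain ⟨η₁, hη₁b, hη₁c⟩ := exists_dual_zero_one hc
  have hc1 := comm_tv hη₁b hη₁c hψb hψc
  rw [← hc1]
  exact comm_mem_commSet (tv_mem_stabSet hlam hφb hη₁b hbK) (tv_mem_stabSet hlam hφc hψc hcK)

end

section
variable {F V0 : Type*} [Field F] [Finite F] [AddCommGroup V0] [Module F V0] [Module.Finite F V0]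

theorem md_exists_sq_ne_one (hq : 4 ≤ Nat.card F) : ∃ t : F, t ≠ 0 ∧ t * t ≠ 1 := by
  classical
  have := Fintype.ofFinite F
  by_contra hcon
  have h1 : (Finset.univ : Finset F) ⊆ {0, 1, -1} := by
    intro x _
    by_contra hx
    simp only [Finset.mem_insert, Finset.mem_singleton, not_or] at hx
    apply hcon
    refine ⟨x, hx.1, fun h => ?_⟩
    have h2 : (x - 1) * (x + 1) = x * x - 1 := by ring
    rw [h, sub_self] at h2
    rcases mul_eq_zero.mp h2 with h3 | h3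
    · exact hx.2.1 (sub_eq_zero.mp h3)
    · exact hx.2.2 (eq_neg_of_add_eq_zero_left h3)
  have h2 := Finset.card_le_card h1
  rw [Finset.card_univ, ← Nat.card_eq_fintype_card] at h2
  have h3 : ({0, 1, -1} : Finset F).card ≤ 3 := Finset.card_le_three
  omega

/-- The torus case: a vector `b₀` of the kernel of the character with `ψ b₀ = 1`. -/
theorem md_propT_torus (hq : 4 ≤ Nat.card F) {φ ψ : Dual F V0} {b b₀ : V0}
    {lam : SpecialLinearGroup F V0 → ℂ} (hlam : IsCharOn (Qsub φ) lam) (hφb : φ b = 0)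
    (hψb : ψ b = 0) (hb : b ≠ 0) (hbK : ∀ t : F, lam (tv φ (t • b)) = 1) (hφb₀ : φ b₀ = 0)
    (hψb₀ : ψ b₀ = 1) (hb₀K : ∀ t : F, lam (tv φ (t • b₀)) = 1) :
    tv ψ b ∈ commSet (stabSet ⊤ (Qsub φ) lam) := by
  have hbb : b ∉ Submodule.span F {b₀} := by
    intro h
    obtain ⟨β, rfl⟩ := Submodule.mem_span_singleton.mp h
    rw [map_smul, hψb₀, smul_eq_mul, mul_one] at hψb
    rw [hψb, zero_smul] at hb
    exact hb rfl
  obtain ⟨υ, hυb₀, hυb⟩ := exists_dual_zero_one hbb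
  obtain ⟨t, ht0, ht1⟩ := md_exists_sq_ne_one hq
  have ht1' : t * t - 1 ≠ 0 := sub_ne_zero.mpr ht1
  set s := tor υ ψ b b₀ t with hs
  have hs_mem : s ∈ stabSet ⊤ (Qsub φ) lam :=
    tor_mem_stabSet hlam hυb₀ hψb hφb hφb₀ hbK hb₀K t
  set y : F := (t * t - 1)⁻¹ with hy
  have h2 : ψ (y • b) = 0 := by rw [map_smul, hψb, smul_zero]
  have hg_mem : tv ψ (y • b) ∈ stabSet ⊤ (Qsub φ) lam :=
    tv_mem_stabSet hlam (by rw [map_smul, hφb, smul_zero]) h2 (kl_smul hbK y)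
  have hcg : cg s ψ = t • ψ := by
    rw [hs, tor_cg hυb hυb₀ hψb hψb₀ ht0, hψb, hψb₀, mul_zero, zero_smul, add_zero, mul_one]
    module
  have hsb : s (y • b) = (y * t) • b := by
    rw [hs, tor_apply hυb hυb₀ hψb hψb₀ ht0, map_smul, map_smul, hυb, hψb, smul_zero, mul_zero,
      zero_smul, add_zero, smul_eq_mul, mul_one]
    module
  have hcomm : s * tv ψ (y • b) * s⁻¹ * (tv ψ (y • b))⁻¹ = tv ψ b := by
    have h5 : t * (y * t) - y = 1 := by
      have h6 : y * (t * t - 1) = 1 := by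
        rw [hy]
        exact inv_mul_cancel₀ ht1'
      calc t * (y * t) - y = y * (t * t - 1) := by ring
        _ = 1 := h6
    rw [tv_conj, hcg, hsb, ← tv_smul, tv_inv,
      tv_add_left (by rw [map_smul, map_smul, hψb, smul_zero, smul_zero])
        (by rw [map_neg, h2, neg_zero])]
    congr 1
    calc t • (y * t) • b + -(y • b) = (t * (y * t) - y) • b := by module
      _ = b := by rw [h5, one_smul]
  rw [← hcomm]
  exact comm_mem_commSet hs_mem hg_mem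

theorem propT_four (hn : finrank F V0 = 4) (hq : 4 ≤ Nat.card F) {φ ψ : Dual F V0} {b : V0}
    (hli : LinearIndependent F ![φ, ψ]) (hφb : φ b = 0) (hψb : ψ b = 0) (hb : b ≠ 0) :
    PropT ⊤ (Qsub φ) (bsub (Qsub φ) (tv ψ b)) (tv ψ b) := by
  intro lam hlam hnt htriv
  have hbK := md_bsub_kl hli hφb hψb htriv
  obtain ⟨x₀, ⟨a₀, hφa₀, rfl⟩, hx₀⟩ := hnt
  have hna : ¬ ∀ t : F, lam (tv φ (t • a₀)) = 1 := by
    intro h
    apply hx₀
    have h1 := h 1
    rwa [one_smul] at h1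
  obtain ⟨-, ⟨a₁, hφa₁, hψa₁⟩⟩ := indep2_sep hli
  obtain ⟨x₂, hφx₂, hψx₂, hx₂⟩ :
      ∃ x₂ : V0, φ x₂ = 0 ∧ ψ x₂ = 0 ∧ x₂ ∉ Submodule.span F {b} := by
    by_contra hcon
    have h1 : Function.Surjective (fun t : F =>
        (⟨t • b, by rw [map_smul, hφb, smul_zero], by rw [map_smul, hψb, smul_zero]⟩ :
          {a : V0 // φ a = 0 ∧ ψ a = 0})) := by
      rintro ⟨a, ha1, ha2⟩
      have ha : a ∈ Submodule.span F {b} := by
        by_contra h
        exact hcon ⟨a, ha1, ha2, h⟩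
      obtain ⟨t, ht⟩ := Submodule.mem_span_singleton.mp ha
      exact ⟨t, Subtype.ext ht⟩
    have h2 := Nat.card_le_card_of_surjective _ h1
    rw [Cfsg.Agent.Helper66.msnorm_card2 hli, hn] at h2
    have h3 : Nat.card F * Nat.card F ≤ Nat.card F := by
      have h4 : Nat.card F ^ 2 ≤ Nat.card F := h2
      rwa [sq] at h4
    nlinarith
  obtain ⟨d₁, hd₁⟩ := exists_kl hlam hφa₀ hφa₁ hna
  obtain ⟨d₂, hd₂⟩ := exists_kl hlam hφa₀ hφx₂ hna
  have hφc₁ : φ (a₁ - d₁ • a₀) = 0 := by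
    rw [map_sub, map_smul, hφa₁, hφa₀, smul_zero, sub_zero]
  have hφc₂ : φ (x₂ - d₂ • a₀) = 0 := by
    rw [map_sub, map_smul, hφx₂, hφa₀, smul_zero, sub_zero]
  have caseB : ∀ c : V0, φ c = 0 → (∀ t : F, lam (tv φ (t • c)) = 1) → ψ c ≠ 0 →
      tv ψ b ∈ commSet (stabSet ⊤ (Qsub φ) lam) := by
    intro c hφc hcK hψc
    exact md_propT_torus hq hlam hφb hψb hb hbK (b₀ := (ψ c)⁻¹ • c)
      (by rw [map_smul, hφc, smul_zero]) (by rw [map_smul, smul_eq_mul, inv_mul_cancel₀ hψc])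
      (kl_smul hcK _)
  by_cases h1 : ψ (a₁ - d₁ • a₀) = 0
  · by_cases h2 : ψ (x₂ - d₂ • a₀) = 0
    · rw [map_sub, map_smul, hψa₁, smul_eq_mul] at h1
      rw [map_sub, map_smul, hψx₂, smul_eq_mul, zero_sub, neg_eq_zero] at h2
      have h3 : ψ a₀ ≠ 0 := by
        intro h
        rw [h, mul_zero, sub_zero] at h1
        exact one_ne_zero h1
      have h4 : d₂ = 0 := by
        rcases mul_eq_zero.mp h2 with h | h
        · exact h
        · exact absurd h h3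
      subst h4
      simp only [zero_smul, sub_zero] at hd₂
      exact md_propT_comm hlam hφb hψb hbK hφx₂ hψx₂ hd₂ hx₂
    · exact caseB _ hφc₂ hd₂ h2
  · exact caseB _ hφc₁ hd₁ h1

end

end Cfsg.Agent.Helper60
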