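import Mathlib

set_option autoImplicit false
set_option linter.unusedSimpArgs false
set_option linter.unusedVariables false
set_option linter.unusedSectionVars false

namespace Cfsg.Agent.Helper60

/-- the property of admitting a minimal cover all of whose members are nilpotent -/
def HasNilMinCover (G : Type*) [Group G] : Prop :=
  ∃ 𝓐 : Finset (Subgroup G), ((∀ A ∈ 𝓐, A ≠ ⊤) ∧ (∀ g : G, ∃ A ∈ 𝓐, g ∈ A)) ∧
    (∀ 𝓑 : Finset (Subgroup G), (∀ A ∈ 𝓑, A ≠ ⊤) ∧ (∀ g : G, ∃ A ∈ 𝓑, g ∈ A) →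
      𝓐.card ≤ 𝓑.card) ∧ (∀ A ∈ 𝓐, Group.IsNilpotent ↥A)

/-- Abstract criterion: a function `κ` from the group to its subgroups which is constant on
commuting pairs of nonidentity elements bounds every nilpotent cover from below. -/
theorem not_hasNilMinCover_of_kappa {G : Type*} [Group G] [Finite G] (κ : G → Subgroup G)
    (h1 : ∀ g, g ∈ κ g)
    (h2 : ∀ g h : G, g ≠ 1 → h ≠ 1 → Commute g h → κ g = κ h)
    (h3 : ∀ g : G, g ≠ 1 → κ g ≠ ⊤)
    (u d : G) (hu : u ≠ 1) (hd : d ≠ 1) (hud : κ u ≠ κ d)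
    (hN : Subgroup.normalizer ((κ u : Subgroup G) : Set G) ≠ ⊤)
    (hdN : κ d ≤ Subgroup.normalizer ((κ u : Subgroup G) : Set G)) :
    ¬ HasNilMinCover G := by
  classical
  rintro ⟨𝓐, ⟨hAtop, hAcov⟩, hAmin, hAnil⟩
  have : Fintype G := Fintype.ofFinite G
  set V : Finset (Subgroup G) := (Finset.univ.filter (fun g : G => g ≠ 1)).image κ with hV
  have hmemV : ∀ g : G, g ≠ 1 → κ g ∈ V := fun g hg =>
    Finset.mem_image.2 ⟨g, Finset.mem_filter.2 ⟨Finset.mem_univ _, hg⟩, rfl⟩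
  have hnil : ∀ A ∈ 𝓐, ∀ g ∈ A, ∀ h ∈ A, g ≠ 1 → h ≠ 1 → κ g = κ h := by
    intro A hA g hg h hh hg1 hh1
    have := hAnil A hA
    have : Nontrivial A := ⟨⟨⟨g, hg⟩, 1, fun e => hg1 (congrArg Subtype.val e)⟩⟩
    have hc := Group.IsNilpotent.center_ne_bot (G := A)
    obtain ⟨z, hz1⟩ := (Subgroup.ne_bot_iff_exists_ne_one).1 hc
    have hzc : ∀ x : A, x * z.1 = z.1 * x := fun x => (Subgroup.mem_center_iff.1 z.2 x)
    have hz1' : ((z : A) : G) ≠ 1 := by
      intro e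
      apply hz1
      apply Subtype.ext
      apply Subtype.ext
      exact e
    have c1 : Commute g ((z : A) : G) := congrArg Subtype.val (hzc ⟨g, hg⟩)
    have c2 : Commute ((z : A) : G) h := (congrArg Subtype.val (hzc ⟨h, hh⟩)).symm
    rw [h2 g _ hg1 hz1' c1, h2 _ h hz1' hh1 c2]
  let φ : Subgroup G → Subgroup G := fun A => if h : ∃ g ∈ A, g ≠ 1 then κ h.choose else ⊥
  have hVA : V ⊆ 𝓐.image φ := by
    intro v hv
    obtain ⟨g, hg, rfl⟩ := Finset.mem_image.1 hv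
    have hg1 : g ≠ 1 := (Finset.mem_filter.1 hg).2
    obtain ⟨A, hA, hgA⟩ := hAcov g
    refine Finset.mem_image.2 ⟨A, hA, ?_⟩
    have hex : ∃ g ∈ A, g ≠ 1 := ⟨g, hgA, hg1⟩
    show (if h : ∃ g ∈ A, g ≠ 1 then κ h.choose else ⊥) = κ g
    rw [dif_pos hex]
    exact hnil A hA _ hex.choose_spec.1 _ hgA hex.choose_spec.2 hg1
  have hcard1 : V.card ≤ 𝓐.card := (Finset.card_le_card hVA).trans Finset.card_image_le
  let ψ : Subgroup G → Subgroup G := fun P => if Subgroup.normalizer (P : Set G) = ⊤ then P else Subgroup.normalizer (P : Set G)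
  have hψ_le : ∀ P, P ≤ ψ P := by
    intro P
    show P ≤ if Subgroup.normalizer (P : Set G) = ⊤ then P else Subgroup.normalizer (P : Set G)
    split_ifs
    · exact le_rfl
    · exact Subgroup.le_normalizer
  have hψ_top : ∀ P, P ≠ ⊤ → ψ P ≠ ⊤ := by
    intro P hP
    show (if Subgroup.normalizer (P : Set G) = ⊤ then P else Subgroup.normalizer (P : Set G)) ≠ ⊤
    split_ifs with h
    · exact hP
    · exact h
  have hψu : ψ (κ u) = Subgroup.normalizer ((κ u : Subgroup G) : Set G) := if_neg hN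
  set 𝓑 : Finset (Subgroup G) := (V.erase (κ d)).image ψ with hB
  have huV : κ u ∈ V.erase (κ d) := Finset.mem_erase.2 ⟨hud, hmemV u hu⟩
  have hcard2 : 𝓑.card < V.card :=
    lt_of_le_of_lt Finset.card_image_le (Finset.card_erase_lt_of_mem (hmemV d hd))
  have hBcov : (∀ A ∈ 𝓑, A ≠ ⊤) ∧ (∀ g : G, ∃ A ∈ 𝓑, g ∈ A) := by
    constructor
    · intro A hA
      obtain ⟨P, hP, rfl⟩ := Finset.mem_image.1 hA
      have hPV := Finset.mem_of_mem_erase hP
      obtain ⟨g, hg, rfl⟩ := Finset.mem_image.1 hPV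
      exact hψ_top _ (h3 g (Finset.mem_filter.1 hg).2)
    · intro g
      by_cases hg1 : g = 1
      · exact ⟨ψ (κ u), Finset.mem_image_of_mem _ huV, hg1 ▸ one_mem _⟩
      · by_cases hgd : κ g = κ d
        · refine ⟨ψ (κ u), Finset.mem_image_of_mem _ huV, ?_⟩
          rw [hψu]
          exact hdN (hgd ▸ h1 g)
        · exact ⟨ψ (κ g), Finset.mem_image_of_mem _ (Finset.mem_erase.2 ⟨hgd, hmemV g hg1⟩),
            hψ_le _ (h1 g)⟩
  have := hAmin 𝓑 hBcov
  omega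

/-- Criterion in terms of a `TI` subgroup `U` of exponent dividing 4 containing the centralisers
of its nonidentity elements, when the centralisers of the other elements are commutative. -/
theorem not_hasNilMinCover_of_TI {G : Type*} [Group G] [Finite G] (U : Subgroup G)
    (hU1 : ∀ g ∈ U, g ≠ 1 → ∀ h : G, Commute g h → h ∈ U)
    (hU2 : ∀ g : G, g ^ 4 = 1 → ∃ k : G, k * g * k⁻¹ ∈ U)
    (hU3 : ∀ g ∈ U, g ^ 4 = 1)
    (hU4 : ∀ g : G, g ^ 4 ≠ 1 → ∀ c₁ c₂ : G, Commute c₁ g → Commute c₂ g → Commute c₁ c₂)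
    (hU5 : ∃ d : G, d ^ 4 ≠ 1 ∧ ∀ c : G, Commute c d → c ∈ Subgroup.normalizer (U : Set G))
    (hU6 : Subgroup.normalizer (U : Set G) ≠ ⊤)
    (hU7 : ∀ k : G, ∀ g ∈ U, g ≠ 1 → k * g * k⁻¹ ∈ U → k ∈ Subgroup.normalizer (U : Set G))
    (hU8 : ∃ g ∈ U, g ≠ 1) : ¬ HasNilMinCover G := by
  classical
  -- the conjugates of `U`
  let P : G → Subgroup G := fun k => U.comap (MulAut.conj k).toMonoidHom
  have hP : ∀ k g, g ∈ P k ↔ k * g * k⁻¹ ∈ U := fun k g => Iff.rfl
  have hP1 : P 1 = U := by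
    ext g
    rw [hP]
    simp
  have hPU1 : ∀ k g, g ∈ P k → g ≠ 1 → ∀ h : G, Commute g h → h ∈ P k := by
    intro k g hg hg1 h hc
    rw [hP] at hg ⊢
    refine hU1 _ hg (fun e => hg1 (conj_eq_one_iff.1 e)) _ ?_
    show k * g * k⁻¹ * (k * h * k⁻¹) = k * h * k⁻¹ * (k * g * k⁻¹)
    have e1 : k * g * k⁻¹ * (k * h * k⁻¹) = k * (g * h) * k⁻¹ := by group
    have e2 : k * h * k⁻¹ * (k * g * k⁻¹) = k * (h * g) * k⁻¹ := by group
    rw [e1, e2, hc.eq]
  have hPTI : ∀ k l g, g ∈ P k → g ∈ P l → g ≠ 1 → P k = P l := by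
    intro k l g hgk hgl hg1
    rw [hP] at hgk hgl
    have hn : l * k⁻¹ ∈ Subgroup.normalizer (U : Set G) := by
      refine hU7 _ _ hgk (fun e => hg1 (conj_eq_one_iff.1 e)) ?_
      have e : l * k⁻¹ * (k * g * k⁻¹) * (l * k⁻¹)⁻¹ = l * g * l⁻¹ := by group
      rw [e]
      exact hgl
    ext x
    rw [hP, hP, (Subgroup.mem_normalizer_iff.1 hn) (k * x * k⁻¹)]
    have e : l * k⁻¹ * (k * x * k⁻¹) * (l * k⁻¹)⁻¹ = l * x * l⁻¹ := by group
    rw [e]
  have hP4 : ∀ k g, g ∈ P k → g ^ 4 = 1 := by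
    intro k g hg
    rw [hP] at hg
    have := hU3 _ hg
    rw [conj_pow] at this
    exact conj_eq_one_iff.1 this
  have hUtop : U ≠ ⊤ := by
    intro e
    apply hU6
    rw [e]
    exact Subgroup.normalizer_eq_top_iff.2 inferInstance
  have hPtop : ∀ k, P k ≠ ⊤ := by
    intro k e
    apply hUtop
    rw [eq_top_iff]
    intro x _
    have hx : k⁻¹ * x * k ∈ P k := by rw [e]; exact Subgroup.mem_top _
    rw [hP] at hx
    have e2 : k * (k⁻¹ * x * k) * k⁻¹ = x := by group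
    rwa [e2] at hx
  -- the component function
  let κ : G → Subgroup G := fun g =>
    if h : g ^ 4 = 1 then P (hU2 g h).choose else Subgroup.centralizer {g}
  have hκ4 : ∀ g, g ^ 4 = 1 → ∃ k, κ g = P k ∧ g ∈ P k := by
    intro g h
    refine ⟨(hU2 g h).choose, dif_pos h, ?_⟩
    rw [hP]
    exact (hU2 g h).choose_spec
  have hκn : ∀ g, g ^ 4 ≠ 1 → κ g = Subgroup.centralizer {g} := fun g h => dif_neg h
  have hcent : ∀ g c : G, c ∈ Subgroup.centralizer ({g} : Set G) ↔ Commute c g := by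
    intro g c
    rw [Subgroup.mem_centralizer_iff]
    constructor
    · intro h
      exact (h g rfl).symm
    · intro h x hx
      rw [Set.mem_singleton_iff.1 hx]
      exact h.eq.symm
  obtain ⟨u, huU, hu1⟩ := hU8
  obtain ⟨d, hd4, hdc⟩ := hU5
  have hd1 : d ≠ 1 := by
    rintro rfl
    exact hd4 (one_pow 4)
  have hκu : κ u = U := by
    obtain ⟨k, hk, huk⟩ := hκ4 u (hU3 u huU)
    rw [hk, ← hP1]
    apply hPTI k 1 u huk _ hu1
    rw [hP1]
    exact huU
  have hκd : κ d = Subgroup.centralizer {d} := hκn d hd4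
  have hncomm : ∀ g : G, g ^ 4 ≠ 1 → Subgroup.centralizer ({g} : Set G) ≠ ⊤ := by
    intro g hg e
    apply hUtop
    rw [eq_top_iff]
    intro x _
    apply hU1 u huU hu1 x
    apply hU4 g hg
    · rw [← hcent, e]; exact Subgroup.mem_top _
    · rw [← hcent, e]; exact Subgroup.mem_top _
  apply not_hasNilMinCover_of_kappa κ ?_ ?_ ?_ u d hu1 hd1 ?_ ?_ ?_
  · intro g
    by_cases h : g ^ 4 = 1
    · obtain ⟨k, hk, hgk⟩ := hκ4 g h
      rw [hk]
      exact hgk
    · rw [hκn g h, hcent]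
  · -- constancy along commuting pairs
    have key : ∀ g h : G, g ≠ 1 → h ≠ 1 → Commute g h → g ^ 4 = 1 → κ g = κ h := by
      intro g h hg1 hh1 hc hg4
      obtain ⟨k, hk, hgk⟩ := hκ4 g hg4
      have hhk : h ∈ P k := hPU1 k g hgk hg1 h hc
      obtain ⟨l, hl, hhl⟩ := hκ4 h (hP4 k h hhk)
      rw [hk, hl]
      exact hPTI k l h hhk hhl hh1
    intro g h hg1 hh1 hc
    by_cases hg4 : g ^ 4 = 1
    · exact key g h hg1 hh1 hc hg4
    · by_cases hh4 : h ^ 4 = 1
      · exact (key h g hh1 hg1 hc.symm hh4).symm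
      · rw [hκn g hg4, hκn h hh4]
        ext c
        rw [hcent, hcent]
        constructor
        · intro hcg
          exact hU4 g hg4 c h hcg hc.symm
        · intro hch
          exact hU4 h hh4 c g hch hc
  · intro g hg1
    by_cases h : g ^ 4 = 1
    · obtain ⟨k, hk, -⟩ := hκ4 g h
      rw [hk]
      exact hPtop k
    · rw [hκn g h]
      exact hncomm g h
  · rw [hκu, hκd]
    intro e
    apply hd4
    apply hU3
    rw [e, hcent]
  · rw [hκu]
    exact hU6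
  · rw [hκu, hκd]
    intro c hc
    exact hdc c ((hcent d c).1 hc)

theorem cover_map_mulEquiv {G H : Type*} [Group G] [Group H] (e : G ≃* H)
    (𝓑 : Finset (Subgroup G))
    (hB : (∀ A ∈ 𝓑, A ≠ ⊤) ∧ (∀ g : G, ∃ A ∈ 𝓑, g ∈ A)) :
    (∀ A ∈ 𝓑.map e.mapSubgroup.toEmbedding, A ≠ ⊤) ∧
      (∀ g : H, ∃ A ∈ 𝓑.map e.mapSubgroup.toEmbedding, g ∈ A) := by
  obtain ⟨hBtop, hBcov⟩ := hB
  constructor
  · intro A hA
    obtain ⟨A', hA', rfl⟩ := Finset.mem_map.1 hA
    intro h'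
    apply hBtop A' hA'
    apply e.mapSubgroup.injective
    rw [map_top]
    exact h'
  · intro g
    obtain ⟨A, hA, hgA⟩ := hBcov (e.symm g)
    refine ⟨e.mapSubgroup A, Finset.mem_map_of_mem _ hA, ?_⟩
    rw [MulEquiv.mapSubgroup_apply]
    exact ⟨e.symm g, hgA, e.apply_symm_apply g⟩

/-- the property is invariant under isomorphism -/
theorem hasNilMinCover_of_mulEquiv {G H : Type*} [Group G] [Group H] (e : G ≃* H)
    (h : HasNilMinCover G) : HasNilMinCover H := by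
  classical
  obtain ⟨𝓐, ⟨hAtop, hAcov⟩, hAmin, hAnil⟩ := h
  refine ⟨𝓐.map e.mapSubgroup.toEmbedding, cover_map_mulEquiv e 𝓐 ⟨hAtop, hAcov⟩, ?_, ?_⟩
  · intro 𝓑 hB
    rw [Finset.card_map]
    have := hAmin (𝓑.map e.symm.mapSubgroup.toEmbedding) (cover_map_mulEquiv e.symm 𝓑 hB)
    rwa [Finset.card_map] at this
  · intro A hA
    obtain ⟨A', hA', rfl⟩ := Finset.mem_map.1 hA
    have hn := hAnil A' hA'
    show Group.IsNilpotent ↥(A'.map e.toMonoidHom)
    exact (Group.isNilpotent_congr (e.subgroupMap A')).1 hn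

end Cfsg.Agent.Helper60
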