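import Mathlib
import Cfsg.Agent.Helper13.OrdDefs

/-!
# S2264, piece NT4: the invariant `OBnd q K s` gives `(q - 1) K < q ^ (s + 1)`
-/

set_option autoImplicit false

namespace Cfsg.Agent.Helper60

open Polynomial
open Cfsg.Agent.Helper13 (SRec OBnd)

theorem obnd_lt (q K s : ℕ) (hq : 2 ≤ q) (h : OBnd q K s) : (q - 1) * K < q ^ (s + 1) := by
  obtain ⟨V, -, hV⟩ := h
  have hq0 : 0 < q := by omega
  have key : ∀ k : ℕ, (q - 1) * ∏ v ∈ Finset.range k, (q ^ 2 ^ v + 1) + 1 = q ^ 2 ^ k := by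
    intro k
    induction k with
    | zero =>
      rw [Finset.prod_range_zero, mul_one, pow_zero, pow_one]
      omega
    | succ k ih =>
      rw [Finset.prod_range_succ, ← mul_assoc]
      have h1 : q ^ 2 ^ (k + 1) = q ^ 2 ^ k * q ^ 2 ^ k := by rw [← pow_add, pow_succ, mul_two]
      rw [h1, ← ih]
      ring
  have key2 : ∀ k : ℕ, q * ∏ v ∈ Finset.range k, q ^ 2 ^ v = q ^ 2 ^ k := by
    intro k
    induction k with
    | zero => rw [Finset.prod_range_zero, mul_one, pow_zero, pow_one]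
    | succ k ih =>
      rw [Finset.prod_range_succ, ← mul_assoc, ih, ← pow_add, pow_succ, mul_two]
  obtain ⟨k, hsub⟩ : ∃ k : ℕ, V ⊆ Finset.range k := ⟨_, Finset.subset_range_sup_succ V⟩
  have e1 : (∏ v ∈ Finset.range k \ V, (q ^ 2 ^ v + 1)) * ∏ v ∈ V, (q ^ 2 ^ v + 1) =
      ∏ v ∈ Finset.range k, (q ^ 2 ^ v + 1) := Finset.prod_sdiff hsub
  have e2 : (∏ v ∈ Finset.range k \ V, q ^ 2 ^ v) * ∏ v ∈ V, q ^ 2 ^ v =
      ∏ v ∈ Finset.range k, q ^ 2 ^ v := Finset.prod_sdiff hsub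
  have hR : ∏ v ∈ Finset.range k \ V, q ^ 2 ^ v ≤ ∏ v ∈ Finset.range k \ V, (q ^ 2 ^ v + 1) :=
    Finset.prod_le_prod (fun _ _ => Nat.zero_le _) (fun _ _ => Nat.le_succ _)
  have hRpos : 0 < ∏ v ∈ Finset.range k \ V, q ^ 2 ^ v :=
    Finset.prod_pos (fun _ _ => pow_pos hq0 _)
  have hPpos : 0 < ∏ v ∈ V, q ^ 2 ^ v := Finset.prod_pos (fun _ _ => pow_pos hq0 _)
  have k1 := key k
  have k2 := key2 k
  rw [← e1] at k1
  rw [← e2] at k2
  generalize (∏ v ∈ V, q ^ 2 ^ v) = P at *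
  generalize (∏ v ∈ V, (q ^ 2 ^ v + 1)) = P' at *
  generalize (∏ v ∈ Finset.range k \ V, q ^ 2 ^ v) = R at *
  generalize (∏ v ∈ Finset.range k \ V, (q ^ 2 ^ v + 1)) = R' at *
  have claim : (q - 1) * P' < q * P := by
    have h3 : (q - 1) * P' * R < q * P * R := by
      calc (q - 1) * P' * R ≤ (q - 1) * P' * R' := Nat.mul_le_mul_left _ hR
        _ = (q - 1) * (R' * P') := by ring
        _ < (q - 1) * (R' * P') + 1 := Nat.lt_succ_self _
        _ = q ^ 2 ^ k := k1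
        _ = q * P * R := by rw [← k2]; ring
    exact Nat.lt_of_mul_lt_mul_right h3
  have h4 : (q - 1) * K * P < q ^ (s + 1) * P := by
    calc (q - 1) * K * P = (q - 1) * (K * P) := by ring
      _ ≤ (q - 1) * (q ^ s * P') := Nat.mul_le_mul_left _ hV
      _ = q ^ s * ((q - 1) * P') := by ring
      _ < q ^ s * (q * P) := (Nat.mul_lt_mul_left (pow_pos hq0 s)).mpr claim
      _ = q ^ (s + 1) * P := by ring
  exact Nat.lt_of_mul_lt_mul_right h4

end Cfsg.Agent.Helper60
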