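/-
helper60: stage T2G of CALL S90 (helper98, row S5990): `r = p = 2`, direction `⟸`.
Glue on top of `Cfsg.Agent.Helper60.T2.t2_ell` (module `Cfsg.Agent.Helper60.T2Core`).
-/
import Mathlib
import Cfsg.Prelude.Def_GeometricClasses
import Cfsg.Prelude.Def_Classical
import Cfsg.Agent.Helper35.S88Defs
import Cfsg.Agent.Helper35.TSSTDM
import Cfsg.Agent.Helper70.TSR2Z
import Cfsg.Agent.Helper97.OForm
import Cfsg.Agent.Helper60.T2Core

set_option autoImplicit false

namespace Cfsg.Agent.Helper60.S90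

open Module Cfsg Cfsg.Geo Cfsg.Agent.Helper35.S88
open scoped MatrixGroups

variable {F : Type*} [Field F] [Fintype F]

/-- generic glue: an element `x` of `Ω(Q)` with `x ^ 2` scalar, in characteristic 2, gives an
isometry `T = toLin' x` with `T ^ 2 = 1`. -/
theorem t2_glue {ι : Type} [Fintype ι] [DecidableEq ι] [Nonempty ι] (Q : (ι → F) → F)
    (hQ : IsNondegenerateQuadraticForm Q) (h2 : (2 : F) = 0) (x : GL ι F)
    (hx : x ∈ Cfsg.Geo.omegaGL Q)
    (hx2 : ∃ z : F, ((x ^ 2 : GL ι F) : Matrix ι ι F) = z • (1 : Matrix ι ι F)) :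
    (∀ v, Q (Matrix.toLin' (x : Matrix ι ι F) v) = Q v) ∧
      (Matrix.toLin' (x : Matrix ι ι F)) ^ 2 = 1 := by
  obtain ⟨y, -, hy⟩ := Subgroup.mem_map.mp hx
  have hxy : x = (y : GL ι F) := hy.symm
  subst hxy
  have hiso : ∀ u : ι → F, Q (Matrix.mulVec ((y : GL ι F) : Matrix ι ι F) u) = Q u :=
    (Cfsg.Agent.Helper97.Gen.mem_isometryGroup_iff Q (y : GL ι F)).mp y.2
  refine ⟨fun v => by rw [Matrix.toLin'_apply]; exact hiso v, ?_⟩
  obtain ⟨z, hz⟩ := hx2
  have hMM : ((y : GL ι F) : Matrix ι ι F) * ((y : GL ι F) : Matrix ι ι F)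
      = z • (1 : Matrix ι ι F) := by
    rw [← hz, Units.val_pow_eq_pow_val, pow_two]
  have hz1 : z = 1 := by
    rcases Cfsg.Agent.Helper70.TSR2.r2_z Q hQ inferInstance _ hiso z hMM with h | h
    · exact h
    · rw [h]
      have h11 : (1 : F) + 1 = 0 := by rw [one_add_one_eq_two]; exact h2
      exact neg_eq_of_add_eq_zero_left h11
  rw [pow_two, Module.End.mul_eq_comp, ← Matrix.toLin'_mul, hMM, hz1, one_smul, Matrix.toLin'_one]
  rfl

/-- T2G of CALL S90, verbatim. -/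
theorem s90_two_even_good {p : ℕ} [Fact p.Prime] [CharP F p] (d m : ℕ) (hd : 4 ≤ d) (hm : 2 ≤ m)
    (hme : Even m) (hmn : m + 2 ≤ 2 * d) (a b : F)
    (hab : ∀ x y : F, x ^ 2 + a * x * y + b * y ^ 2 = 0 → x = 0 ∧ y = 0) (hp2 : p = 2)
    (hcond : Even d ∨ m % 4 = 2) :
    AllEll (Cfsg.quadFormMinus (d - 1) F a b) 2 m := by
  intro x hx hx2 _
  obtain ⟨hQ, hminus⟩ := Cfsg.Agent.Helper35.TS5973.ts_std_minus (d - 1) a b hab
  have h2 : (2 : F) = 0 := by
    subst hp2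
    exact_mod_cast CharP.cast_eq_zero F 2
  obtain ⟨hT, hTT⟩ := t2_glue (Cfsg.quadFormMinus (d - 1) F a b) hQ h2 x hx hx2
  have hfin : Module.finrank F ((Fin (d - 1) ⊕ Fin (d - 1)) ⊕ Fin 2 → F) = 2 * d := by
    rw [Module.finrank_fintype_fun_eq_card]
    simp only [Fintype.card_sum, Fintype.card_fin]
    omega
  unfold InvEll
  refine Cfsg.Agent.Helper60.T2.t2_ell (Cfsg.quadFormMinus (d - 1) F a b) hQ h2 _ hT hTT hminus m
    hm hme (by rw [hfin]; exact hmn) ?_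
  rw [hfin]
  rcases hcond with ⟨j, hj⟩ | h
  · left
    exact ⟨j, by omega⟩
  · right
    exact h

end Cfsg.Agent.Helper60.S90
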