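/-
helper60: stage T2G of CALL S74 (helper65, row S5974): `r = p = 2`, direction `⟸`.
Glue on top of `Cfsg.Agent.Helper60.T2.t2_hyp` (module `Cfsg.Agent.Helper60.T2Core`).
-/
import Mathlib
import Cfsg.Prelude.Def_GeometricClasses
import Cfsg.Prelude.Def_Classical
import Cfsg.Agent.Helper65.S74Defs
import Cfsg.Agent.Helper35.TSSTDP
import Cfsg.Agent.Helper60.S90T2G
import Cfsg.Agent.Helper60.T2Core

set_option autoImplicit false

namespace Cfsg.Agent.Helper60.S74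

open Module Cfsg Cfsg.Geo Cfsg.Agent.Helper65.S74
open scoped MatrixGroups

variable {F : Type*} [Field F] [Fintype F]

/-- T2G of CALL S74, verbatim. -/
theorem s74_two_even_good {p : ℕ} [Fact p.Prime] [CharP F p] {q : ℕ} (hq : Fintype.card F = q)
    (d m : ℕ) (hd : 4 ≤ d) (hm : 2 ≤ m) (hme : Even m) (hmd : m < d) (hp2 : p = 2)
    (hcond : (2 * d) % 4 = 2 ∨ m % 4 = 0 ∨ q % 4 = 1) :
    AllHyp (Cfsg.quadFormPlus d F) 2 m := by
  intro x hx hx2 _
  obtain ⟨hQ, hplus⟩ := Cfsg.Agent.Helper35.TS5973.ts_std_plus (F := F) d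
  have h2 : (2 : F) = 0 := by
    subst hp2
    exact_mod_cast CharP.cast_eq_zero F 2
  have hq2 : 2 ∣ q := by
    subst hp2
    have h0 : ((Fintype.card F : ℕ) : F) = 0 := Nat.cast_card_eq_zero F
    rw [hq] at h0
    exact (CharP.cast_eq_zero_iff F 2 q).mp h0
  have : Nonempty (Fin d ⊕ Fin d) := ⟨Sum.inl ⟨0, by omega⟩⟩
  obtain ⟨hT, hTT⟩ := Cfsg.Agent.Helper60.S90.t2_glue (Cfsg.quadFormPlus d F) hQ h2 x hx hx2
  have hfin : Module.finrank F (Fin d ⊕ Fin d → F) = 2 * d := by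
    rw [Module.finrank_fintype_fun_eq_card]
    simp only [Fintype.card_sum, Fintype.card_fin]
    omega
  rw [invHyp_iff]
  refine Cfsg.Agent.Helper60.T2.t2_hyp (Cfsg.quadFormPlus d F) hQ h2 _ hT hTT hplus m
    (by rw [hfin]; omega) ?_
  rw [hfin]
  obtain ⟨j, hj⟩ := hme
  obtain ⟨t, ht⟩ := hq2
  by_cases h4 : m % 4 = 0
  · left
    exact ⟨m / 4, by omega⟩
  · right
    exact ⟨(2 * d - m) / 4, by omega⟩

end Cfsg.Agent.Helper60.S74
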