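/-
helper60: piece G3 of CALL SL2L (helper2): the subgroups `Z ≤ L ≤ P` of order `p²` are `p + 1`
in number.
-/
import Mathlib

set_option autoImplicit false

namespace Cfsg.Agent.Helper60

open Subgroup

universe u

variable {Γ : Type u} [Group Γ] [Finite Γ]

/-- elements of `⟨a⟩ ⊔ Z` are `a ^ n * z` when `Z` commutes with `a`. -/
theorem sl2l_aux_mem {Z : Subgroup Γ} {a : Γ} (hZa : ∀ z ∈ Z, z * a = a * z) {x : Γ}
    (hx : x ∈ Subgroup.zpowers a ⊔ Z) : ∃ (n : ℤ) (z : Γ), z ∈ Z ∧ x = a ^ n * z := by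
  rw [Subgroup.sup_eq_closure] at hx
  induction hx using Subgroup.closure_induction with
  | mem y hy =>
    rcases hy with hy | hy
    · obtain ⟨n, rfl⟩ := Subgroup.mem_zpowers_iff.mp hy
      exact ⟨n, 1, Z.one_mem, by simp⟩
    · exact ⟨0, y, hy, by simp⟩
  | one => exact ⟨0, 1, Z.one_mem, by simp⟩
  | mul y y' _ _ ihy ihy' =>
    obtain ⟨n, z, hz, rfl⟩ := ihy
    obtain ⟨n', z', hz', rfl⟩ := ihy'
    refine ⟨n + n', z * z', Z.mul_mem hz hz', ?_⟩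
    have hc : Commute z (a ^ n') := (show Commute z a from hZa z hz).zpow_right n'
    calc a ^ n * z * (a ^ n' * z') = a ^ n * (z * a ^ n') * z' := by simp only [mul_assoc]
      _ = a ^ n * (a ^ n' * z) * z' := by rw [hc.eq]
      _ = a ^ (n + n') * (z * z') := by rw [zpow_add]; simp only [mul_assoc]
  | inv y _ ihy =>
    obtain ⟨n, z, hz, rfl⟩ := ihy
    refine ⟨-n, z⁻¹, Z.inv_mem hz, ?_⟩
    have hc : Commute z (a ^ n) := (show Commute z a from hZa z hz).zpow_right n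
    rw [mul_inv_rev, zpow_neg]
    exact (hc.inv_inv).eq

/-- `⟨a⟩ ⊔ Z` has at most `p²` elements when `a ^ p ∈ Z`, `|Z| = p` and `Z` commutes with `a`. -/
theorem sl2l_aux_card {p : ℕ} (hp : p.Prime) {Z : Subgroup Γ} (hZc : Nat.card Z = p) {a : Γ}
    (hZa : ∀ z ∈ Z, z * a = a * z) (hap : a ^ p ∈ Z) :
    Nat.card (Subgroup.zpowers a ⊔ Z : Subgroup Γ) ≤ p ^ 2 := by
  have hp0 : 0 < p := hp.pos
  have key : ∀ x : (Subgroup.zpowers a ⊔ Z : Subgroup Γ), ∃ q : Fin p × Z,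
      (x : Γ) = a ^ (q.1 : ℕ) * (q.2 : Γ) := by
    intro x
    obtain ⟨n, z, hz, hx⟩ := sl2l_aux_mem hZa x.2
    have h1 : 0 ≤ n % (p : ℤ) := Int.emod_nonneg n (by exact_mod_cast hp0.ne')
    have h2 : n % (p : ℤ) < p := Int.emod_lt_of_pos n (by exact_mod_cast hp0)
    refine ⟨(⟨(n % (p : ℤ)).toNat, by omega⟩,
      ⟨(a ^ p) ^ (n / (p : ℤ)) * z, Z.mul_mem (Z.zpow_mem hap _) hz⟩), ?_⟩
    show (x : Γ) = a ^ (n % (p : ℤ)).toNat * ((a ^ p) ^ (n / (p : ℤ)) * z)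
    rw [hx, ← zpow_natCast a (n % (p : ℤ)).toNat, Int.toNat_of_nonneg h1, ← zpow_natCast a p,
      ← zpow_mul, ← mul_assoc, ← zpow_add, Int.emod_add_mul_ediv]
  choose g hg using key
  have hinj : Function.Injective g := by
    intro x y hxy
    apply Subtype.ext
    rw [hg x, hg y, hxy]
  have h := Nat.card_le_card_of_injective g hinj
  rw [Nat.card_prod, hZc] at h
  simpa [pow_two] using h

/-- PIECE G3 of CALL SL2L, verbatim. -/
theorem sl2l_lines_card {p : ℕ} (hp : p.Prime) {P Z : Subgroup Γ} (hPc : Nat.card P = p ^ 3)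
    (hZP : Z ≤ P) (hZc : Nat.card Z = p) (hpow : ∀ a ∈ P, a ^ p ∈ Z)
    (hZcen : ∀ z ∈ Z, ∀ a ∈ P, z * a = a * z) :
    Nat.card {L : Subgroup Γ // Z ≤ L ∧ L ≤ P ∧ Nat.card L = p ^ 2} = p + 1 := by
  classical
  have hp2 : 2 ≤ p := hp.two_le
  -- the line through `a`
  have hM : ∀ a ∈ P, a ∉ Z → Z ≤ Subgroup.zpowers a ⊔ Z ∧ Subgroup.zpowers a ⊔ Z ≤ P ∧
      Nat.card (Subgroup.zpowers a ⊔ Z : Subgroup Γ) = p ^ 2 := by
    intro a haP haZ
    have hle : Subgroup.zpowers a ⊔ Z ≤ P := sup_le ((Subgroup.zpowers_le).mpr haP) hZP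
    refine ⟨le_sup_right, hle, ?_⟩
    have hub := sl2l_aux_card hp hZc (fun z hz => hZcen z hz a haP) (hpow a haP)
    have hdvd : Nat.card (Subgroup.zpowers a ⊔ Z : Subgroup Γ) ∣ p ^ 3 :=
      hPc ▸ Subgroup.card_dvd_of_le hle
    obtain ⟨j, hj3, hj⟩ := (Nat.dvd_prime_pow hp).mp hdvd
    have hgt : p < Nat.card (Subgroup.zpowers a ⊔ Z : Subgroup Γ) := by
      by_contra hcon
      push Not at hcon
      have hZe : Z = Subgroup.zpowers a ⊔ Z :=
        Subgroup.eq_of_le_of_card_ge le_sup_right (by rw [hZc]; exact hcon)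
      apply haZ
      rw [hZe]
      exact (le_sup_left : Subgroup.zpowers a ≤ _) (Subgroup.mem_zpowers a)
    rw [hj] at hgt hub ⊢
    have hj2 : j ≤ 2 := (Nat.pow_le_pow_iff_right hp.one_lt).mp hub
    have hj1 : 1 < j := by
      have h1 : p ^ 1 < p ^ j := by rwa [pow_one]
      exact (Nat.pow_lt_pow_iff_right hp.one_lt).mp h1
    have hj2' : j = 2 := by omega
    rw [hj2']
  have huniq : ∀ (L : {L : Subgroup Γ // Z ≤ L ∧ L ≤ P ∧ Nat.card L = p ^ 2}) (a : Γ),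
      a ∈ L.1 → a ∉ Z → L.1 = Subgroup.zpowers a ⊔ Z := by
    intro L a haL haZ
    obtain ⟨-, -, hc⟩ := hM a (L.2.2.1 haL) haZ
    have hle : Subgroup.zpowers a ⊔ Z ≤ L.1 := sup_le ((Subgroup.zpowers_le).mpr haL) L.2.1
    exact (Subgroup.eq_of_le_of_card_ge hle (by rw [hc, L.2.2.2])).symm
  have hf : Function.Bijective
      (fun x : (Σ L : {L : Subgroup Γ // Z ≤ L ∧ L ≤ P ∧ Nat.card L = p ^ 2},
          ↥((L.1 : Set Γ) \ (Z : Set Γ))) =>
        (⟨x.2.1, x.1.2.2.1 x.2.2.1, x.2.2.2⟩ : ↥((P : Set Γ) \ (Z : Set Γ)))) := by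
    constructor
    · rintro ⟨L, a, haL, haZ⟩ ⟨L', a', haL', haZ'⟩ h
      have haa : a = a' := congrArg (fun t : ↥((P : Set Γ) \ (Z : Set Γ)) => (t : Γ)) h
      subst haa
      have hLL : L = L' := Subtype.ext ((huniq L a haL haZ).trans (huniq L' a haL' haZ).symm)
      subst hLL
      rfl
    · rintro ⟨a, haP, haZ⟩
      obtain ⟨h1, h2, h3⟩ := hM a haP haZ
      exact ⟨⟨⟨Subgroup.zpowers a ⊔ Z, h1, h2, h3⟩, a,
        (le_sup_left : Subgroup.zpowers a ≤ _) (Subgroup.mem_zpowers a), haZ⟩, rfl⟩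
  have hcard := Nat.card_congr (Equiv.ofBijective _ hf)
  have : Fintype {L : Subgroup Γ // Z ≤ L ∧ L ≤ P ∧ Nat.card L = p ^ 2} := Fintype.ofFinite _
  rw [Nat.card_sigma] at hcard
  have hfib : ∀ L : {L : Subgroup Γ // Z ≤ L ∧ L ≤ P ∧ Nat.card L = p ^ 2},
      Nat.card ↥((L.1 : Set Γ) \ (Z : Set Γ)) = p ^ 2 - p := by
    intro L
    rw [Nat.card_coe_set_eq, Set.ncard_sdiff (show (Z : Set Γ) ⊆ L.1 from L.2.1),
      ← Nat.card_coe_set_eq, ← Nat.card_coe_set_eq]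
    show Nat.card L.1 - Nat.card Z = _
    rw [L.2.2.2, hZc]
  have hS : Nat.card ↥((P : Set Γ) \ (Z : Set Γ)) = p ^ 3 - p := by
    rw [Nat.card_coe_set_eq, Set.ncard_sdiff (show (Z : Set Γ) ⊆ P from hZP),
      ← Nat.card_coe_set_eq, ← Nat.card_coe_set_eq]
    show Nat.card P - Nat.card Z = _
    rw [hPc, hZc]
  rw [hS, Finset.sum_congr rfl (fun L _ => hfib L), Finset.sum_const, Finset.card_univ,
    smul_eq_mul, ← Nat.card_eq_fintype_card] at hcard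
  have h1 : p ^ 2 - p + p = p ^ 2 := Nat.sub_add_cancel (by nlinarith)
  have h2 : p ^ 3 - p + p = p ^ 3 := Nat.sub_add_cancel (by nlinarith [pow_pos hp.pos 2])
  generalize p ^ 2 - p = A at *
  generalize p ^ 3 - p = B at *
  generalize Nat.card {L : Subgroup Γ // Z ≤ L ∧ L ≤ P ∧ Nat.card L = p ^ 2} = N at *
  have hA : 0 < A := by nlinarith
  have hB : (p + 1) * A = B := by
    have h1' : (A : ℤ) + p = p ^ 2 := by exact_mod_cast h1
    have h2' : (B : ℤ) + p = p ^ 3 := by exact_mod_cast h2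
    have h3 : ((p + 1) * A : ℤ) = B := by linear_combination (p + 1 : ℤ) * h1' - h2'
    exact_mod_cast h3
  exact Nat.eq_of_mul_eq_mul_right hA (hcard.trans hB.symm)

end Cfsg.Agent.Helper60
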