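import Mathlib
import Cfsg.Agent.Helper5.SLGen
import Cfsg.Agent.Helper38.SLTrans

/-!
# Transvections in the special linear group of a vector space

A total version `tv f a` of the transvection `x ↦ x + f x • a` (trivial when `f a ≠ 0`),
its calculus, generation of `SL(V)` by transvections, and transitivity statements.
-/

set_option autoImplicit false

namespace Cfsg.Agent.Helper60.MinIdx

open Module

section Calculus

variable {F V : Type*} [Field F] [AddCommGroup V] [Module F V]

theorem sl_mul_apply (g h : SpecialLinearGroup F V) (x : V) : (g * h) x = g (h x) := rfl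

theorem sl_one_apply (x : V) : (1 : SpecialLinearGroup F V) x = x := rfl

theorem sl_inv_apply_apply (g : SpecialLinearGroup F V) (x : V) : g⁻¹ (g x) = x := by
  have h : (g⁻¹ * g) x = x := by rw [inv_mul_cancel]; rfl
  exact h

theorem sl_apply_inv_apply (g : SpecialLinearGroup F V) (x : V) : g (g⁻¹ x) = x := by
  have h : (g * g⁻¹) x = x := by rw [mul_inv_cancel]; rfl
  exact h

theorem sl_map_add (g : SpecialLinearGroup F V) (x y : V) : g (x + y) = g x + g y :=
  map_add g.1 x y

theorem sl_map_smul (g : SpecialLinearGroup F V) (c : F) (x : V) : g (c • x) = c • g x :=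
  map_smul g.1 c x

theorem sl_map_zero (g : SpecialLinearGroup F V) : g (0 : V) = 0 := map_zero g.1

theorem sl_map_sub (g : SpecialLinearGroup F V) (x y : V) : g (x - y) = g x - g y :=
  map_sub g.1 x y

theorem sl_map_neg (g : SpecialLinearGroup F V) (x : V) : g (-x) = -g x :=
  map_neg g.1 x

theorem sl_smul_eq (g : SpecialLinearGroup F V) (x : V) : g • x = g x := rfl

theorem sl_injective (g : SpecialLinearGroup F V) : Function.Injective (fun x : V => g x) :=
  g.1.injective

theorem sl_map_eq_zero_iff (g : SpecialLinearGroup F V) (x : V) : g x = 0 ↔ x = 0 := by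
  constructor
  · intro h
    have := sl_inv_apply_apply g x
    rw [h, sl_map_zero] at this
    exact this.symm
  · rintro rfl; exact sl_map_zero g

/-- The total transvection `x ↦ x + f x • a` (the identity unless `f a = 0`). -/
noncomputable def tv (f : Dual F V) (a : V) : SpecialLinearGroup F V :=
  open Classical in
  if h : f a = 0 then ⟨LinearEquiv.transvection h, LinearEquiv.transvection.det_eq_one h⟩ else 1

theorem tv_apply {f : Dual F V} {a : V} (h : f a = 0) (x : V) : tv f a x = x + f x • a := by
  unfold tv; rw [dif_pos h]; rfl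

theorem tv_of_ne {f : Dual F V} {a : V} (h : f a ≠ 0) : tv f a = 1 := by
  unfold tv; rw [dif_neg h]

/-- The action of `SL(V)` on linear forms: `f ↦ f ∘ g⁻¹`. -/
noncomputable def cg (g : SpecialLinearGroup F V) (f : Dual F V) : Dual F V :=
  f.comp ((g⁻¹ : SpecialLinearGroup F V).1 : V →ₗ[F] V)

theorem cg_apply (g : SpecialLinearGroup F V) (f : Dual F V) (x : V) : cg g f x = f (g⁻¹ x) := rfl

theorem cg_one (f : Dual F V) : cg (1 : SpecialLinearGroup F V) f = f := by
  ext x; rw [cg_apply, inv_one, sl_one_apply]

theorem cg_mul (g h : SpecialLinearGroup F V) (f : Dual F V) : cg (g * h) f = cg g (cg h f) := by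
  ext x; rw [cg_apply, cg_apply, cg_apply, mul_inv_rev, sl_mul_apply]

theorem cg_add (g : SpecialLinearGroup F V) (f f' : Dual F V) :
    cg g (f + f') = cg g f + cg g f' := by
  ext x; simp [cg_apply]

theorem cg_smul (g : SpecialLinearGroup F V) (c : F) (f : Dual F V) :
    cg g (c • f) = c • cg g f := by
  ext x; simp [cg_apply]

theorem cg_zero (g : SpecialLinearGroup F V) : cg g (0 : Dual F V) = 0 := by
  ext x; simp [cg_apply]

theorem cg_inv_cg (g : SpecialLinearGroup F V) (f : Dual F V) : cg g⁻¹ (cg g f) = f := by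
  rw [← cg_mul, inv_mul_cancel, cg_one]

theorem cg_cg_inv (g : SpecialLinearGroup F V) (f : Dual F V) : cg g (cg g⁻¹ f) = f := by
  rw [← cg_mul, mul_inv_cancel, cg_one]

theorem cg_apply_apply (g : SpecialLinearGroup F V) (f : Dual F V) (x : V) :
    cg g f (g x) = f x := by
  rw [cg_apply, sl_inv_apply_apply]

theorem cg_eq_zero_iff (g : SpecialLinearGroup F V) (f : Dual F V) : cg g f = 0 ↔ f = 0 := by
  constructor
  · intro h
    have := cg_inv_cg g f
    rw [h, cg_zero] at this
    exact this.symm
  · rintro rfl; exact cg_zero g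

theorem tv_zero_left (a : V) : tv (0 : Dual F V) a = 1 := by
  ext x
  rw [tv_apply (by simp), sl_one_apply]; simp

theorem tv_zero_right (f : Dual F V) : tv f (0 : V) = 1 := by
  ext x
  rw [tv_apply (by simp), sl_one_apply]; simp

theorem tv_add_left {f : Dual F V} {a b : V} (ha : f a = 0) (hb : f b = 0) :
    tv f a * tv f b = tv f (a + b) := by
  ext x
  have hab : f (a + b) = 0 := by rw [map_add, ha, hb, add_zero]
  rw [sl_mul_apply, tv_apply ha, tv_apply hb, tv_apply hab]
  simp only [map_add, map_smul, hb, smul_eq_mul, mul_zero, add_zero, smul_add]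
  abel

theorem tv_add_right {f g : Dual F V} {a : V} (hf : f a = 0) (hg : g a = 0) :
    tv f a * tv g a = tv (f + g) a := by
  ext x
  have hfg : (f + g) a = 0 := by rw [LinearMap.add_apply, hf, hg, add_zero]
  rw [sl_mul_apply, tv_apply hf, tv_apply hg, tv_apply hfg]
  simp only [map_add, map_smul, hf, smul_eq_mul, mul_zero, add_zero, LinearMap.add_apply,
    add_smul]
  abel

theorem tv_smul (c : F) (f : Dual F V) (a : V) : tv f (c • a) = tv (c • f) a := by
  by_cases h : f (c • a) = 0
  · have h' : (c • f) a = 0 := by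
      rw [LinearMap.smul_apply, smul_eq_mul]; rw [map_smul, smul_eq_mul] at h; exact h
    ext x
    rw [tv_apply h, tv_apply h', LinearMap.smul_apply, smul_eq_mul, smul_smul, mul_comm]
  · have h' : (c • f) a ≠ 0 := by
      rw [LinearMap.smul_apply, smul_eq_mul]; rw [map_smul, smul_eq_mul] at h; exact h
    rw [tv_of_ne h, tv_of_ne h']

theorem tv_conj (g : SpecialLinearGroup F V) (f : Dual F V) (a : V) :
    g * tv f a * g⁻¹ = tv (cg g f) (g a) := by
  by_cases h : f a = 0
  · have h' : cg g f (g a) = 0 := by rw [cg_apply_apply]; exact h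
    ext x
    rw [sl_mul_apply, sl_mul_apply, tv_apply h, tv_apply h', sl_map_add, sl_map_smul,
      sl_apply_inv_apply, cg_apply]
  · have h' : cg g f (g a) ≠ 0 := by rw [cg_apply_apply]; exact h
    rw [tv_of_ne h, tv_of_ne h', mul_one, mul_inv_cancel]

theorem tv_inv (f : Dual F V) (a : V) : (tv f a)⁻¹ = tv f (-a) := by
  by_cases h : f a = 0
  · have h' : f (-a) = 0 := by rw [map_neg, h, neg_zero]
    rw [inv_eq_iff_mul_eq_one, tv_add_left h h', add_neg_cancel, tv_zero_right]
  · have h' : f (-a) ≠ 0 := by rw [map_neg]; exact neg_ne_zero.mpr h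
    rw [tv_of_ne h, tv_of_ne h', inv_one]

theorem tv_neg_right (f : Dual F V) (a : V) : tv f (-a) = tv (-f) a := by
  have h := tv_smul (-1 : F) f a
  have h1 : (-1 : F) • a = -a := by simp
  have h2 : (-1 : F) • f = -f := by ext x; simp
  rwa [h1, h2] at h

theorem tv_eq_one_iff {f : Dual F V} {a : V} (h : f a = 0) : tv f a = 1 ↔ f = 0 ∨ a = 0 := by
  constructor
  · intro h1
    by_contra hcon
    push Not at hcon
    obtain ⟨hf, ha⟩ := hcon
    obtain ⟨x, hx⟩ : ∃ x, f x ≠ 0 := by
      by_contra hc; push Not at hc; exact hf (LinearMap.ext hc)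
    have h2 : tv f a x = x := by rw [h1, sl_one_apply]
    rw [tv_apply h] at h2
    have h3 : f x • a = 0 := by simpa using h2
    rcases smul_eq_zero.mp h3 with h4 | h4
    · exact hx h4
    · exact ha h4
  · rintro (rfl | rfl)
    · exact tv_zero_left a
    · exact tv_zero_right f

theorem tv_left_injective {f : Dual F V} (hf : f ≠ 0) {a a' : V} (ha : f a = 0) (ha' : f a' = 0)
    (h : tv f a = tv f a') : a = a' := by
  have h1 : tv f (a + -a') = 1 := by
    have hn : f (-a') = 0 := by rw [map_neg, ha', neg_zero]
    rw [← tv_add_left ha hn, ← tv_inv, h, mul_inv_cancel]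
  have h2 : f (a + -a') = 0 := by rw [map_add, map_neg, ha, ha', neg_zero, add_zero]
  rcases (tv_eq_one_iff h2).mp h1 with h3 | h3
  · exact absurd h3 hf
  · exact add_neg_eq_zero.mp h3

theorem tv_right_injective {a : V} (ha : a ≠ 0) {f f' : Dual F V} (hf : f a = 0) (hf' : f' a = 0)
    (h : tv f a = tv f' a) : f = f' := by
  have hn : (-f') a = 0 := by rw [LinearMap.neg_apply, hf', neg_zero]
  have h1 : tv (f + -f') a = 1 := by
    rw [← tv_add_right hf hn, ← tv_neg_right, ← tv_inv, h, mul_inv_cancel]
  have h2 : (f + -f') a = 0 := by rw [LinearMap.add_apply, hf, hn, add_zero]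
  rcases (tv_eq_one_iff h2).mp h1 with h3 | h3
  · exact add_neg_eq_zero.mp h3
  · exact absurd h3 ha

end Calculus

section Generation

variable {F V : Type*} [Field F] [AddCommGroup V] [Module F V] [Module.Finite F V]

/-- `SL(V)` is generated by transvections. -/
theorem tv_generate (h2 : 2 ≤ finrank F V) (M : Subgroup (SpecialLinearGroup F V))
    (hM : ∀ (f : Dual F V) (a : V), f a = 0 → tv f a ∈ M) : M = ⊤ := by
  classical
  obtain ⟨n, hn⟩ : ∃ n, finrank F V = n := ⟨_, rfl⟩
  let b : Basis (Fin n) F V := Module.finBasisOfFinrankEq F V hn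
  have : Nontrivial (Fin n) := Fin.nontrivial_iff_two_le.mpr (by omega)
  let e := Matrix.SpecialLinearGroup.toLin_equiv (R := F) b
  have key : ∀ A : Matrix.SpecialLinearGroup (Fin n) F, e A ∈ M := by
    intro A
    refine Cfsg.Agent.Helper5.SL_transvection_induction (fun A => e A ∈ M) ?_ ?_ A
    · intro i j hij c
      have h0 : (c • b.coord j) (b i) = 0 := by
        simp [hij]
      have hlin : ((e (Matrix.SpecialLinearGroup.transvection hij c)).1 : V →ₗ[F] V) =
          ((tv (c • b.coord j) (b i)).1 : V →ₗ[F] V) := by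
        apply b.ext
        intro k
        have h1 : ((tv (c • b.coord j) (b i)).1 : V →ₗ[F] V) (b k) =
            b k + (c • b.coord j) (b k) • b i := tv_apply h0 (b k)
        rw [h1, Matrix.SpecialLinearGroup.toLin_equiv.toLinearMap_eq, Matrix.toLin_self]
        simp only [Matrix.SpecialLinearGroup.transvection_coe, Matrix.add_apply, add_smul,
          Finset.sum_add_distrib, Matrix.one_apply, ite_smul, one_smul, zero_smul,
          Finset.sum_ite_eq', Finset.mem_univ, if_true, Matrix.single_apply]
        congr 1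
        by_cases hkj : k = j
        · subst hkj
          simp
        · simp [Ne.symm hkj]
      have : e (Matrix.SpecialLinearGroup.transvection hij c) = tv (c • b.coord j) (b i) := by
        apply Subtype.ext
        apply LinearEquiv.toLinearMap_injective
        exact hlin
      rw [this]
      exact hM _ _ h0
    · intro A B hA hB
      show e (A * B) ∈ M
      rw [map_mul]; exact M.mul_mem hA hB
  rw [eq_top_iff]
  intro g _
  have := key (e.symm g)
  rwa [MulEquiv.apply_symm_apply] at this

end Generation

end Cfsg.Agent.Helper60.MinIdx
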