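import Mathlib
import Cfsg.Agent.Helper42.SpModels
import Cfsg.Agent.Helper36.AltEven

/-!
# S5980, piece ALT: an invariant nondegenerate alternating form on `F[X]/(Φ)`
-/

set_option autoImplicit false

namespace Cfsg.Agent.Helper60.TFALT

open Matrix Polynomial
open scoped Kronecker

/-! ## Piece ALT -/
theorem exists_alt_form {F : Type*} [Field F] [Fintype F] (h2 : (2 : F) ≠ 0) (r : ℕ)
    (hr : r.Prime) (hr2 : r ≠ 2) (Φ : F[X]) [Fact (Irreducible Φ)] (hm : Φ.Monic)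
    (hdvd : Φ ∣ X ^ r - 1) (h1 : Φ.eval 1 ≠ 0) (e : ℕ) (he : 0 < e)
    (hre : r ∣ Fintype.card F ^ e + 1) :
    Even Φ.natDegree ∧ ∃ B : LinearMap.BilinForm F (AdjoinRoot Φ), (∀ v, B v v = 0) ∧
      (∀ v, (∀ w, B v w = 0) → v = 0) ∧
      ∀ u v, B (AdjoinRoot.root Φ * u) (AdjoinRoot.root Φ * v) = B u v := by
  classical
  have hΦ0 : Φ ≠ 0 := hm.ne_zero
  have hfd : FiniteDimensional F (AdjoinRoot Φ) := (AdjoinRoot.powerBasis hΦ0).finite
  obtain ⟨q, hq⟩ : ∃ q, q = Fintype.card F := ⟨_, rfl⟩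
  rw [← hq] at hre
  obtain ⟨ω, hω⟩ : ∃ ω : AdjoinRoot Φ, ω = AdjoinRoot.root Φ := ⟨_, rfl⟩
  have hωr : ω ^ r = 1 := by
    obtain ⟨g, hg⟩ := hdvd
    have h3 : Polynomial.eval₂ (AdjoinRoot.of Φ) (AdjoinRoot.root Φ) (X ^ r - 1 : F[X]) = 0 := by
      rw [hg, eval₂_mul, AdjoinRoot.eval₂_root, zero_mul]
    rw [eval₂_sub, eval₂_pow, eval₂_X, eval₂_one] at h3
    rw [hω]
    exact sub_eq_zero.1 h3
  have hmin : minpoly F (AdjoinRoot.root Φ) = Φ := by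
    rw [AdjoinRoot.minpoly_root hΦ0, hm.leadingCoeff, inv_one, C_1, mul_one]
  have hω1 : ω ≠ 1 := by
    intro h
    rw [hω] at h
    rw [h, minpoly.one] at hmin
    rw [← hmin] at h1
    simp at h1
  have hω0 : ω ≠ 0 := by
    intro h
    rw [h, zero_pow hr.ne_zero] at hωr
    exact zero_ne_one hωr
  obtain ⟨σ, hσ⟩ : ∃ σ : AdjoinRoot Φ ≃ₐ[F] AdjoinRoot Φ, ∀ x, σ x = x ^ (q ^ e) := by
    refine ⟨(FiniteField.frobeniusAlgEquivOfAlgebraic F (AdjoinRoot Φ)) ^ e, fun x => ?_⟩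
    rw [AlgEquiv.coe_pow, FiniteField.coe_frobeniusAlgEquivOfAlgebraic_iterate, hq]
  have hσω : σ ω = ω⁻¹ := by
    rw [hσ]
    obtain ⟨t, ht⟩ := hre
    have h3 : ω ^ (q ^ e) * ω = 1 := by rw [← pow_succ, ht, pow_mul, hωr, one_pow]
    exact eq_inv_of_mul_eq_one_left h3
  have hσσ : ∀ x, σ (σ x) = x := by
    have h3 : ((σ.trans σ : AdjoinRoot Φ ≃ₐ[F] AdjoinRoot Φ) : AdjoinRoot Φ →ₐ[F] AdjoinRoot Φ)
        = AlgHom.id F (AdjoinRoot Φ) := by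
      apply AdjoinRoot.algHom_ext
      rw [AlgEquiv.coe_toAlgHom, AlgEquiv.trans_apply, AlgHom.id_apply, ← hω, hσω, map_inv₀, hσω,
        inv_inv]
    intro x
    have h4 := DFunLike.congr_fun h3 x
    rw [AlgEquiv.coe_toAlgHom, AlgEquiv.trans_apply, AlgHom.id_apply] at h4
    exact h4
  obtain ⟨c, hc⟩ : ∃ c : AdjoinRoot Φ, c = ω - ω⁻¹ := ⟨_, rfl⟩
  have hσc : σ c = -c := by
    rw [hc, map_sub, map_inv₀, hσω, inv_inv]
    ring
  have hc0 : c ≠ 0 := by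
    intro h
    rw [hc, sub_eq_zero] at h
    have h3 : ω ^ 2 = 1 := by
      rw [sq]
      nth_rewrite 2 [h]
      exact mul_inv_cancel₀ hω0
    obtain ⟨t, ht⟩ := hr.odd_of_ne_two hr2
    have h4 : ω ^ r = ω := by rw [ht, pow_succ, pow_mul, h3, one_pow, one_mul]
    rw [h4] at hωr
    exact hω1 hωr
  have halt := Cfsg.Agent.Helper42.SpModels.unitForm_alt F (AdjoinRoot Φ) σ c hσσ hσc h2
  have hnd := Cfsg.Agent.Helper42.SpModels.unitForm_nondeg F (AdjoinRoot Φ) σ c hσσ hc0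
  have hpres := Cfsg.Agent.Helper42.SpModels.preserves_mulLeft F (AdjoinRoot Φ) σ c ω
    (by rw [hσω]; exact mul_inv_cancel₀ hω0)
  refine ⟨?_, Cfsg.Agent.Helper42.SpModels.unitForm F (AdjoinRoot Φ) σ c, halt, hnd, ?_⟩
  · have hrank : Module.finrank F (AdjoinRoot Φ) = Φ.natDegree := by
      rw [(AdjoinRoot.powerBasis hΦ0).finrank, AdjoinRoot.powerBasis_dim]
    exact Cfsg.Agent.Helper36.even_finrank_of_alt _ (AdjoinRoot Φ)
      (Cfsg.Agent.Helper42.SpModels.unitForm F (AdjoinRoot Φ) σ c) halt hnd hrank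
  · intro u v
    rw [← hω]
    exact hpres u v

end Cfsg.Agent.Helper60.TFALT
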